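import Groth.Agent.TameCh.Core
import Groth.Agent.CycDim.Norm
import Groth.Prelude.Def_Tame

/-!
The contribution of one branch to the tame symbol, in terms of the finite algebra.
-/

set_option autoImplicit false
set_option linter.style.haveILetI false

universe u

noncomputable section

namespace Groth.Agent.TameCh

open CycAlg IsLocalRing

section OrdFrac

variable {R K : Type u} [CommRing R] [Field K] [Algebra R K]

theorem ordFrac_one : ordFrac R K (1 : K) = 0 := by
  have h := C1Cap.ordFrac_mul (R := R) (one_ne_zero (α := K)) one_ne_zero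
  rw [one_mul] at h
  omega

theorem ordFrac_pow {x : K} (hx : x ≠ 0) (k : ℕ) : ordFrac R K (x ^ k) = k * ordFrac R K x := by
  induction k with
  | zero => simp [ordFrac_one]
  | succ k ih =>
    rw [pow_succ, C1Cap.ordFrac_mul (pow_ne_zero k hx) hx, ih]
    push_cast
    ring

theorem ordFrac_inv {x : K} (hx : x ≠ 0) : ordFrac R K x⁻¹ = - ordFrac R K x := by
  have h := C1Cap.ordFrac_mul (R := R) hx (inv_ne_zero hx)
  rw [mul_inv_cancel₀ hx, ordFrac_one] at h
  omega

theorem ordFrac_neg_one : ordFrac R K (-1 : K) = 0 := by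
  have h := C1Cap.ordFrac_mul (R := R) (neg_ne_zero.2 (one_ne_zero (α := K))) (neg_ne_zero.2 one_ne_zero)
  rw [neg_mul_neg, one_mul, ordFrac_one] at h
  omega

theorem ordFrac_prod {ι : Type*} (s : Finset ι) (g : ι → K) (hg : ∀ i ∈ s, g i ≠ 0) :
    ordFrac R K (∏ i ∈ s, g i) = ∑ i ∈ s, ordFrac R K (g i) := by
  classical
  induction s using Finset.induction with
  | empty => simp [ordFrac_one]
  | @insert i s hi ih =>
    have hg' : ∀ j ∈ s, g j ≠ 0 := fun j hj => hg j (Finset.mem_insert_of_mem hj)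
    rw [Finset.prod_insert hi, Finset.sum_insert hi,
      C1Cap.ordFrac_mul (hg i (Finset.mem_insert_self i s)) (Finset.prod_ne_zero_iff.2 hg'), ih hg']

end OrdFrac

section Len

variable {C : Type u} [CommRing C]

open TensorProduct in
theorem length_localized_quot (r : PrimeSpectrum C) (I : Ideal C) :
    lenAt r (C ⧸ I) = Module.length (Localization.AtPrime r.asIdeal)
      (Localization.AtPrime r.asIdeal ⧸ I.map (algebraMap C (Localization.AtPrime r.asIdeal))) :=
  LinearEquiv.length_eq ((LocalizedModule.equivTensorProduct r.asIdeal.primeCompl (C ⧸ I)).trans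
    (Algebra.TensorProduct.quotIdealMapEquivTensorQuot (Localization.AtPrime r.asIdeal) I).symm.toLinearEquiv)

/-- The order at a localization is the local multiplicity. -/
theorem ord_eq_od (r : PrimeSpectrum C) (T : Type u) [CommRing T] [Algebra C T]
    [IsLocalization.AtPrime T r.asIdeal] (p : C) :
    ((Ring.ord T (algebraMap C T p)).toNat : ℤ) = od r p := by
  let e : Localization.AtPrime r.asIdeal ≃ₐ[C] T := IsLocalization.algEquiv r.asIdeal.primeCompl _ _
  have h : Ring.ord T (algebraMap C T p) = lenAt r (C ⧸ Ideal.span {p}) := by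
    rw [length_localized_quot, Ideal.map_span, Set.image_singleton, Ring.ord]
    letI : Algebra (Localization.AtPrime r.asIdeal) T := e.toRingEquiv.toRingHom.toAlgebra
    have he : Function.Surjective (algebraMap (Localization.AtPrime r.asIdeal) T) := e.surjective
    rw [← Module.length_eq_of_surjective (R := T) (S := Localization.AtPrime r.asIdeal)
      (M := T ⧸ Ideal.span {algebraMap C T p}) he]
    let φ : Localization.AtPrime r.asIdeal →ₗ[Localization.AtPrime r.asIdeal] T ⧸ Ideal.span {algebraMap C T p} :=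
      (Algebra.linearMap _ (T ⧸ Ideal.span {algebraMap C T p}))
    refine (LinearEquiv.length_eq ((Submodule.quotEquivOfEq _ _ ?_).trans (φ.quotKerEquivOfSurjective ?_))).symm
    · ext z
      rw [LinearMap.mem_ker, Algebra.linearMap_apply,
        IsScalarTower.algebraMap_apply _ T (T ⧸ Ideal.span {algebraMap C T p}), Ideal.Quotient.algebraMap_eq,
        Ideal.Quotient.eq_zero_iff_mem, Ideal.mem_span_singleton', Ideal.mem_span_singleton']
      constructor
      · rintro ⟨c, rfl⟩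
        exact ⟨e c, by rw [← e.commutes]; exact (map_mul e c _).symm⟩
      · rintro ⟨c, hc⟩
        refine ⟨e.symm c, e.injective ?_⟩
        rw [map_mul, e.apply_symm_apply, e.commutes]
        exact hc
    · intro z
      obtain ⟨z, rfl⟩ := Ideal.Quotient.mk_surjective z
      obtain ⟨w, rfl⟩ := he z
      exact ⟨w, rfl⟩
  rw [h, od]

end Len

section Norm

variable {A : Type u} {C : Type u} [CommRing A] [IsNoetherianRing A] [CommRing C] [Algebra A C] [Module.Finite A C]

/-- The order of the norm of a residue. -/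
theorem ordFrac_norm_eq_cf (q : PrimeSpectrum A) (hdim : Ring.KrullDimLE 1 (A ⧸ q.asIdeal)) (r : PrimeSpectrum C)
    (hr : r.asIdeal.comap (algebraMap A C) = q.asIdeal) (L : Type u) [Field L] [Algebra q.asIdeal.ResidueField L]
    (ψ : C →+* L) (hker : RingHom.ker ψ = r.asIdeal)
    (hcompat : ∀ a, ψ (algebraMap A C a) = algebraMap q.asIdeal.ResidueField L (algebraMap A q.asIdeal.ResidueField a))
    (hfrac : ∀ l : L, ∃ c s, s ∉ r.asIdeal ∧ l * ψ s = ψ c) {y : C} (hy : y ∉ r.asIdeal) :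
    ψ y ≠ 0 ∧ FiniteDimensional q.asIdeal.ResidueField L ∧ ordFrac (A ⧸ q.asIdeal) q.asIdeal.ResidueField (Algebra.norm q.asIdeal.ResidueField (ψ y)) =
      cf A r y := by
  haveI := hdim
  letI : Algebra (A ⧸ q.asIdeal) (C ⧸ r.asIdeal) := (Ideal.quotientMap r.asIdeal (algebraMap A C) hr.ge).toAlgebra
  haveI : IsScalarTower A (A ⧸ q.asIdeal) (C ⧸ r.asIdeal) := IsScalarTower.of_algebraMap_eq fun _ => rfl
  haveI : Module.Finite (A ⧸ q.asIdeal) (C ⧸ r.asIdeal) := Module.Finite.of_restrictScalars_finite A _ _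
  let ψ' : C ⧸ r.asIdeal →+* L := Ideal.Quotient.lift r.asIdeal ψ fun c hc => RingHom.mem_ker.1 (hker.symm ▸ hc)
  letI : Algebra (C ⧸ r.asIdeal) L := ψ'.toAlgebra
  have hψ' : Function.Injective ψ' := RingHom.lift_injective_of_ker_le_ideal _ _ hker.le
  haveI : IsFractionRing (C ⧸ r.asIdeal) L := by
    refine (isLocalization_iff _ _).2 ⟨fun d => ?_, fun l => ?_, fun {x z} h => ⟨1, by rw [hψ' h]⟩⟩
    · exact isUnit_iff_ne_zero.2 fun h => nonZeroDivisors.ne_zero d.2 (hψ' (h.trans (map_zero _).symm))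
    · obtain ⟨c, s, hs, h⟩ := hfrac l
      exact ⟨⟨Ideal.Quotient.mk _ c, ⟨Ideal.Quotient.mk _ s,
        mem_nonZeroDivisors_of_ne_zero fun h0 => hs (Ideal.Quotient.eq_zero_iff_mem.1 h0)⟩⟩, h⟩
  letI : Algebra (A ⧸ q.asIdeal) L :=
    ((algebraMap q.asIdeal.ResidueField L).comp (algebraMap (A ⧸ q.asIdeal) q.asIdeal.ResidueField)).toAlgebra
  haveI : IsScalarTower (A ⧸ q.asIdeal) q.asIdeal.ResidueField L := IsScalarTower.of_algebraMap_eq fun _ => rfl
  haveI : IsScalarTower (A ⧸ q.asIdeal) (C ⧸ r.asIdeal) L := IsScalarTower.of_algebraMap_eq fun x => by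
    obtain ⟨x, rfl⟩ := Ideal.Quotient.mk_surjective x
    show algebraMap q.asIdeal.ResidueField L (algebraMap (A ⧸ q.asIdeal) _ (Ideal.Quotient.mk _ x)) = ψ (algebraMap A C x)
    rw [hcompat]
    rfl
  have hinj : Function.Injective (algebraMap (A ⧸ q.asIdeal) (C ⧸ r.asIdeal)) :=
    Ideal.quotientMap_injective' (H := hr.ge) hr.le
  have hy' : Ideal.Quotient.mk r.asIdeal y ≠ 0 := fun h => hy (Ideal.Quotient.eq_zero_iff_mem.1 h)
  have hfd : FiniteDimensional q.asIdeal.ResidueField L := by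
    obtain ⟨S, hS⟩ := (Module.Finite.fg_top : (⊤ : Submodule (A ⧸ q.asIdeal) (C ⧸ r.asIdeal)).FG)
    refine ⟨Submodule.fg_def.2 ⟨(algebraMap (C ⧸ r.asIdeal) L) '' (S : Set _), S.finite_toSet.image _, ?_⟩⟩
    rw [eq_top_iff, ← CycNorm.span_range_eq_top (A ⧸ q.asIdeal) (C ⧸ r.asIdeal) q.asIdeal.ResidueField L, Submodule.span_le]
    rintro _ ⟨z, rfl⟩
    have h : (IsScalarTower.toAlgHom (A ⧸ q.asIdeal) (C ⧸ r.asIdeal) L).toLinearMap z ∈
        Submodule.map (IsScalarTower.toAlgHom (A ⧸ q.asIdeal) (C ⧸ r.asIdeal) L).toLinearMap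
          (Submodule.span (A ⧸ q.asIdeal) (S : Set _)) := ⟨z, by rw [hS]; trivial, rfl⟩
    rw [Submodule.map_span] at h
    exact Submodule.span_subset_span (A ⧸ q.asIdeal) q.asIdeal.ResidueField _ h
  refine ⟨fun h => hy (hker ▸ RingHom.mem_ker.2 h), hfd, ?_⟩
  refine ((CycNorm.length_quot_norm q.asIdeal.ResidueField L hinj hy').2).symm.trans ?_
  rw [cf]
  congr 2
  refine ((Module.length_eq_of_surjective (R := A ⧸ q.asIdeal) (S := A) Ideal.Quotient.mk_surjective).symm).trans ?_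
  refine LinearEquiv.length_eq (AlgEquiv.toLinearEquiv ?_)
  exact (Ideal.quotientEquivAlgOfEq A (by rw [Ideal.map_span, Set.image_singleton]; rfl :
    Ideal.span {Ideal.Quotient.mk r.asIdeal y} = (Ideal.span {y}).map (Ideal.Quotient.mkₐ A r.asIdeal))).trans
    (DoubleQuot.quotQuotEquivQuotSupₐ A r.asIdeal (Ideal.span {y}))

end Norm

section Point

variable {A : Type u} {C : Type u} [CommRing A] [IsNoetherianRing A] [IsLocalRing A] [CommRing C] [Algebra A C]
  [Module.Finite A C]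

/-- The data at one branch, in terms of the algebra. -/
theorem exists_branch (hC : Thin C) {a b : C} (ha : a ∈ nonZeroDivisors C) (hb : b ∈ nonZeroDivisors C)
    (R : Finset (PrimeSpectrum C)) (hR : ∀ r' ∈ R, Curve r' ∧ a * b ∈ r'.asIdeal) (r : PrimeSpectrum C) (hrR : r ∈ R)
    (q : PrimeSpectrum A) (hdim : Ring.KrullDimLE 1 (A ⧸ q.asIdeal))
    (hrq : r.asIdeal.comap (algebraMap A C) = q.asIdeal) (T : Type u) [CommRing T] [IsLocalRing T] [Algebra C T]
    [IsLocalization.AtPrime T r.asIdeal] [Algebra q.asIdeal.ResidueField (ResidueField T)]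
    (hcompat : ∀ x, residue T (algebraMap C T (algebraMap A C x)) =
      algebraMap q.asIdeal.ResidueField (ResidueField T) (algebraMap A q.asIdeal.ResidueField x))
    (π : T) (hπ : π ∈ nonZeroDivisors T) (u v : Tˣ) (e f : ℕ) (hu : algebraMap C T a = u * π ^ e)
    (hv : algebraMap C T b = v * π ^ f) :
    ∃ p s1 c1 s2 c2 : C, p ∈ nonZeroDivisors C ∧ p ∈ r.asIdeal ∧ (∀ r' ∈ R, r' ≠ r → p ∉ r'.asIdeal) ∧
      s1 ∉ r.asIdeal ∧ c1 ∉ r.asIdeal ∧ s2 ∉ r.asIdeal ∧ c2 ∉ r.asIdeal ∧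
      a * s1 = p ^ e * c1 ∧ b * s2 = p ^ f * c2 ∧ ((Ring.ord T π).toNat : ℤ) = od r p ∧
      Algebra.norm q.asIdeal.ResidueField ((-1 : ResidueField T) ^ (e * f) * residue T (u : T) ^ f *
        (residue T (v : T) ^ e)⁻¹) ≠ 0 ∧
      ordFrac (A ⧸ q.asIdeal) q.asIdeal.ResidueField (Algebra.norm q.asIdeal.ResidueField
        ((-1 : ResidueField T) ^ (e * f) * residue T (u : T) ^ f * (residue T (v : T) ^ e)⁻¹)) =
      (f : ℤ) * (cf A r c1 - cf A r s1) - (e : ℤ) * (cf A r c2 - cf A r s2) := by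
  classical
  haveI := isNoetherian_C A (C := C)
  obtain ⟨hrc, habr⟩ := hR r hrR
  have hmem : ∀ z : C, IsUnit (algebraMap C T z) ↔ z ∉ r.asIdeal := fun z =>
    IsLocalization.AtPrime.isUnit_to_map_iff T r.asIdeal z
  let tT : T := algebraMap C T (a * b)
  have htT : tT = ((u : T) * v) * π ^ (e + f) := by
    show algebraMap C T (a * b) = _
    rw [map_mul, hu, hv, pow_add]; ring
  have htu : ¬ IsUnit tT := fun h => (hmem _).1 h habr
  have hef : 1 ≤ e + f := by
    by_contra h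
    refine htu ?_
    rw [htT, show e + f = 0 by omega, pow_zero, mul_one]
    exact u.isUnit.mul v.isUnit
  have hπu : ¬ IsUnit π := fun h => htu (htT ▸ (u.isUnit.mul v.isUnit).mul (h.pow _))
  -- the auxiliary elements
  obtain ⟨ε, hεR, hεr⟩ : ∃ ε ∈ (R.erase r).inf (fun r' => r'.asIdeal), ε ∉ r.asIdeal := by
    refine SetLike.not_le_iff_exists.1 fun hle => ?_
    obtain ⟨r', hr', hle'⟩ := r.2.inf_le'.1 hle
    exact (Finset.mem_erase.1 hr').1 ((hR r' (Finset.mem_erase.1 hr').2).1.eq_of_le hrc hle')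
  obtain ⟨η, hηr, hηR⟩ : ∃ η ∈ r.asIdeal, ∀ r' ∈ R.erase r, η ∉ r'.asIdeal := by
    have h : ¬ ((r.asIdeal : Set C) ⊆ ⋃ r' ∈ (↑(R.erase r) : Set (PrimeSpectrum C)), r'.asIdeal) := by
      rw [Ideal.subset_union_prime r r (fun r' _ _ _ => r'.2)]
      rintro ⟨r', hr', hle⟩
      exact (Finset.mem_erase.1 hr').1 (hrc.eq_of_le (hR r' (Finset.mem_erase.1 hr').2).1 hle).symm
    obtain ⟨η, hη, hη'⟩ := Set.not_subset.1 h
    exact ⟨η, hη, fun r' hr' hm => hη' (Set.mem_iUnion₂.2 ⟨r', hr', hm⟩)⟩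
  have hrad : algebraMap C T η ∈ (Ideal.span {tT ^ 2}).radical := by
    rw [Ideal.radical_eq_sInf, Submodule.mem_sInf]
    rintro (P : Ideal T) ⟨hP, hPp⟩
    have h2 := hP (Ideal.mem_span_singleton_self _)
    have hab' : a * b ∈ P.comap (algebraMap C T) := hPp.mem_of_pow_mem 2 h2
    obtain ⟨hPp', hdis⟩ := (IsLocalization.isPrime_iff_isPrime_disjoint r.asIdeal.primeCompl T P).1 hPp
    have hle : P.comap (algebraMap C T) ≤ r.asIdeal := fun z hz => by
      by_contra hzr
      exact Set.disjoint_left.1 hdis hzr hz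
    rcases hC (a * b) (mul_mem ha hb) ⟨_, hPp'⟩ hab' with hm | hc
    · exact absurd ((show (P.comap (algebraMap C T)).IsMaximal from hm).eq_of_le r.2.ne_top hle ▸
        (show (P.comap (algebraMap C T)).IsMaximal from hm)) hrc.1
    · have := congrArg PrimeSpectrum.asIdeal (hc.eq_of_le hrc hle)
      exact show η ∈ P.comap (algebraMap C T) from (show P.comap (algebraMap C T) = r.asIdeal from this).symm ▸ hηr
  obtain ⟨N, hN⟩ := hrad
  obtain ⟨α, hα⟩ := Ideal.mem_span_singleton'.1 hN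
  obtain ⟨⟨c, s⟩, hcs⟩ := IsLocalization.surj r.asIdeal.primeCompl π
  obtain ⟨w, hp⟩ := exists_add_mul (c * ε + η ^ N) (mul_mem (mul_mem ha hb) (mul_mem ha hb))
  let p : C := c * ε + η ^ N + a * b * (a * b) * w
  have hcr : c ∈ r.asIdeal := by
    by_contra h
    refine hπu (isUnit_of_mul_isUnit_left (y := algebraMap C T s) ?_)
    rw [hcs]
    exact (hmem c).2 h
  have hηN : η ^ N ∈ r.asIdeal := by
    rcases Nat.eq_zero_or_pos N with h | h
    · subst h
      refine absurd ?_ htu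
      have h1 : α * tT ^ 2 = 1 := by rw [hα, pow_zero]
      exact (isUnit_pow_iff two_ne_zero).1 (IsUnit.of_mul_eq_one α (by rw [mul_comm]; exact h1))
    · exact Ideal.pow_mem_of_mem _ hηr _ h
  obtain ⟨κ, hκ⟩ : ∃ κ : T, π * κ = tT ^ 2 ∧ ¬ IsUnit κ := by
    refine ⟨((u : T) * v) ^ 2 * π ^ (2 * (e + f) - 1), ?_, fun h => ?_⟩
    · rw [htT, mul_pow _ (π ^ (e + f)), ← pow_mul, mul_comm (e + f) 2, mul_left_comm, ← pow_succ',
        show 2 * (e + f) - 1 + 1 = 2 * (e + f) by omega]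
    · exact hπu ((isUnit_pow_iff (by omega)).1 (isUnit_of_mul_isUnit_right h))
  have hlam : IsUnit (algebraMap C T (s : C) * algebraMap C T ε + κ * (α + algebraMap C T w)) := by
    by_contra h
    have h1 : algebraMap C T (s : C) * algebraMap C T ε ∈ maximalIdeal T :=
      (Ideal.add_mem_iff_left _ (Ideal.mul_mem_right _ _ ((mem_maximalIdeal _).2 hκ.2))).1
        ((mem_maximalIdeal _).2 h)
    exact (mem_maximalIdeal _).1 h1 (((hmem _).2 s.2).mul ((hmem ε).2 hεr))
  obtain ⟨lam, hlam⟩ := hlam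
  have hpT : algebraMap C T p = π * lam := by
    rw [hlam, mul_add, ← mul_assoc, hcs, ← mul_assoc, hκ.1, map_add, map_add, map_mul, map_mul, map_pow, ← hα,
      show tT = algebraMap C T (a * b) from rfl]
    simp only [map_mul]
    ring
  have hfind : ∀ z : Tˣ, ∀ (x : C) (k : ℕ), algebraMap C T x = z * π ^ k →
      ∃ s1 c1 : C, s1 ∉ r.asIdeal ∧ c1 ∉ r.asIdeal ∧ x * s1 = p ^ k * c1 ∧
        (z : T) * algebraMap C T s1 = (lam : T) ^ k * algebraMap C T c1 := by
    intro z x k hx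
    obtain ⟨⟨c0, s0⟩, h0⟩ := IsLocalization.surj r.asIdeal.primeCompl ((z * lam⁻¹ ^ k : Tˣ) : T)
    have hlk : (lam : T) ^ k * ((z * lam⁻¹ ^ k : Tˣ) : T) = z := by
      rw [← Units.val_pow_eq_pow_val, ← Units.val_mul]
      congr 1
      rw [inv_pow, mul_left_comm, mul_inv_cancel, mul_one]
    have hz : (z : T) * algebraMap C T s0 = (lam : T) ^ k * algebraMap C T c0 := by
      rw [← h0, ← mul_assoc, hlk]
    have heq : algebraMap C T (x * s0) = algebraMap C T (p ^ k * c0) := by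
      rw [map_mul, map_mul, map_pow, hpT, hx, mul_pow, mul_assoc _ _ (algebraMap C T c0), ← hz]
      ring
    obtain ⟨σ, hσ⟩ := (IsLocalization.eq_iff_exists r.asIdeal.primeCompl T).1 heq
    have hc0 : c0 ∉ r.asIdeal := (hmem c0).1 (by
      rw [← h0]; exact (z * lam⁻¹ ^ k).isUnit.mul ((hmem _).2 s0.2))
    refine ⟨s0 * σ, c0 * σ, (s0 * σ).2, fun h => (r.2.mem_or_mem h).elim hc0 σ.2, ?_, ?_⟩
    · calc x * (s0 * σ) = σ * (x * s0) := by ring
        _ = σ * (p ^ k * c0) := hσ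
        _ = p ^ k * (c0 * σ) := by ring
    · rw [map_mul, map_mul, ← mul_assoc, hz, mul_assoc]
  obtain ⟨s1, c1, hs1, hc1, heq1, hres1⟩ := hfind u a e hu
  obtain ⟨s2, c2, hs2, hc2, heq2, hres2⟩ := hfind v b f hv
  have hord : ((Ring.ord T π).toNat : ℤ) = od r p := by
    rw [← ord_eq_od r T p, hpT, Ring.ord_mul_of_isUnit_right lam.isUnit]
  refine ⟨p, s1, c1, s2, c2, hp, ?_, ?_, hs1, hc1, hs2, hc2, heq1, heq2, hord, ?_⟩
  · exact add_mem (add_mem (r.asIdeal.mul_mem_right _ hcr) hηN) (r.asIdeal.mul_mem_right _ (r.asIdeal.mul_mem_right _ habr))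
  · intro r' hr' hne hm
    have h1 : c * ε ∈ r'.asIdeal := r'.asIdeal.mul_mem_left _
      ((Finset.inf_le (f := fun r'' => r''.asIdeal) (Finset.mem_erase.2 ⟨hne, hr'⟩)) hεR)
    have h2 : a * b * (a * b) * w ∈ r'.asIdeal :=
      r'.asIdeal.mul_mem_right _ (r'.asIdeal.mul_mem_right _ (hR r' hr').2)
    exact hηR r' (Finset.mem_erase.2 ⟨hne, hr'⟩)
      (r'.2.mem_of_pow_mem N ((Ideal.add_mem_iff_right _ h1).1 ((Ideal.add_mem_iff_left _ h2).1 hm)))
  -- residues
  let ψ : C →+* ResidueField T := (residue T).comp (algebraMap C T)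
  have hker : RingHom.ker ψ = r.asIdeal := by
    ext z
    rw [RingHom.mem_ker]
    show residue T (algebraMap C T z) = 0 ↔ _
    rw [residue_eq_zero_iff, mem_maximalIdeal, mem_nonunits_iff, hmem, not_not]
  have hfrac : ∀ l : ResidueField T, ∃ c s, s ∉ r.asIdeal ∧ l * ψ s = ψ c := fun l => by
    obtain ⟨l, rfl⟩ := residue_surjective l
    obtain ⟨⟨c, s⟩, h⟩ := IsLocalization.surj r.asIdeal.primeCompl l
    exact ⟨c, s, s.2, by show residue T l * residue T _ = residue T _; rw [← map_mul, h]⟩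
  have hN := fun {y : C} (hy : y ∉ r.asIdeal) =>
    ordFrac_norm_eq_cf q hdim r hrq (ResidueField T) ψ hker hcompat hfrac hy
  haveI : FiniteDimensional q.asIdeal.ResidueField (ResidueField T) := (hN hc1).2.1
  let lm : ResidueField T := residue T (lam : T)
  have hlm : lm ≠ 0 := (residue_ne_zero_iff_isUnit _).2 lam.isUnit
  let n := fun z : ResidueField T => ordFrac (A ⧸ q.asIdeal) q.asIdeal.ResidueField (Algebra.norm q.asIdeal.ResidueField z)
  have hn0 : ∀ {z : ResidueField T}, z ≠ 0 → Algebra.norm q.asIdeal.ResidueField z ≠ 0 := fun h =>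
    Algebra.norm_ne_zero_iff.2 h
  have hnmul : ∀ {y z : ResidueField T}, y ≠ 0 → z ≠ 0 → n (y * z) = n y + n z := fun hy hz => by
    show ordFrac _ _ _ = _
    rw [map_mul, C1Cap.ordFrac_mul (hn0 hy) (hn0 hz)]
  have hnpow : ∀ {y : ResidueField T} (k : ℕ), y ≠ 0 → n (y ^ k) = k * n y := fun k hy => by
    show ordFrac _ _ _ = _
    rw [map_pow, ordFrac_pow (hn0 hy)]
  have hru : residue T (u : T) ≠ 0 := (residue_ne_zero_iff_isUnit _).2 u.isUnit
  have hrv : residue T (v : T) ≠ 0 := (residue_ne_zero_iff_isUnit _).2 v.isUnit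
  have hval : ∀ (z : Tˣ) (s0 c0 : C) (k : ℕ), s0 ∉ r.asIdeal → c0 ∉ r.asIdeal →
      (z : T) * algebraMap C T s0 = (lam : T) ^ k * algebraMap C T c0 →
      n (residue T (z : T)) = (k : ℤ) * n lm + cf A r c0 - cf A r s0 := by
    intro z s0 c0 k hs hc h
    have h1 : residue T (z : T) * ψ s0 = lm ^ k * ψ c0 := by
      show residue T _ * residue T _ = residue T _ ^ k * residue T _
      rw [← map_mul, ← map_pow, ← map_mul, h]
    have h2 := congrArg n h1
    rw [hnmul ((residue_ne_zero_iff_isUnit _).2 z.isUnit) (hN hs).1, hnmul (pow_ne_zero k hlm) (hN hc).1,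
      hnpow k hlm, show n (ψ s0) = cf A r s0 from (hN hs).2.2, show n (ψ c0) = cf A r c0 from (hN hc).2.2] at h2
    omega
  have hm1 : (-1 : ResidueField T) ^ (e * f) ≠ 0 := pow_ne_zero _ (neg_ne_zero.2 one_ne_zero)
  have hinv : n ((residue T (v : T) ^ e)⁻¹) = - n (residue T (v : T) ^ e) := by
    have h := hnmul (pow_ne_zero e hrv) (inv_ne_zero (pow_ne_zero e hrv))
    rw [mul_inv_cancel₀ (pow_ne_zero e hrv)] at h
    have h1 : n 1 = 0 := by show ordFrac _ _ _ = _; rw [map_one, ordFrac_one]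
    omega
  refine ⟨hn0 (mul_ne_zero (mul_ne_zero hm1 (pow_ne_zero _ hru)) (inv_ne_zero (pow_ne_zero _ hrv))), ?_⟩
  show n _ = _
  rw [hnmul (mul_ne_zero hm1 (pow_ne_zero _ hru)) (inv_ne_zero (pow_ne_zero _ hrv)), hnmul hm1 (pow_ne_zero _ hru),
    hinv, hnpow f hru, hnpow e hrv, hval u s1 c1 e hs1 hc1 hres1, hval v s2 c2 f hs2 hc2 hres2,
    hnpow _ (neg_ne_zero.2 one_ne_zero)]
  have hneg : n (-1) = 0 := by
    have h := hnmul (neg_ne_zero.2 (one_ne_zero (α := ResidueField T))) (neg_ne_zero.2 one_ne_zero)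
    rw [neg_mul_neg, one_mul] at h
    have h1 : n 1 = 0 := by show ordFrac _ _ _ = _; rw [map_one, ordFrac_one]
    omega
  rw [hneg]
  ring

end Point

end Groth.Agent.TameCh
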