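import Groth.Agent.TameCh.Glue
import Groth.Agent.TameCh.Local

/-!
The reciprocity law for tame symbols on a two dimensional local ring, given existence of tame data.
-/

set_option autoImplicit false
set_option linter.style.haveILetI false

universe u

noncomputable section

namespace Groth.Agent.TameCh

open CycAlg IsLocalRing

/-- A finite extension does not raise the dimension. -/
theorem ringKrullDim_le_of_isIntegral (A C : Type u) [CommRing A] [CommRing C] [Algebra A C]
    [Algebra.IsIntegral A C] : ringKrullDim C ≤ ringKrullDim A :=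
  Order.krullDim_le_of_strictMono (fun p : PrimeSpectrum C => PrimeSpectrum.comap (algebraMap A C) p) fun p p' h => by
    obtain ⟨x, hx, hxn⟩ := SetLike.exists_of_lt (show p.asIdeal < p'.asIdeal from h)
    exact Ideal.comap_lt_comap_of_integral_mem_sdiff h.le ⟨hx, hxn⟩ (Algebra.IsIntegral.isIntegral x)

/-- The symbol of two units is trivial. -/
theorem tameSymbol_eq_one {R : Type u} [CommRing R] [IsLocalRing R] {a b : R} (ha : IsUnit a) (hb : IsUnit b) :
    tameSymbol R a b = 1 := by
  rw [tameSymbol]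
  split_ifs with h
  · refine finprod_eq_one_of_forall_eq_one fun n => ?_
    generalize Classical.choice h = D at n ⊢
    by_cases hπ : IsUnit (D.π n)
    · rw [TameData.localFactor, Ring.ord_of_isUnit hπ]
      exact pow_zero _
    · have hexp : ∀ (x : R) (z : (Localization.AtPrime n.asIdeal)ˣ) (k : ℕ), IsUnit x →
          algebraMap R (Localization.AtPrime n.asIdeal) x = (z : Localization.AtPrime n.asIdeal) * D.π n ^ k →
          k = 0 := by
        intro x z k hx hk
        by_contra hk0
        exact hπ ((isUnit_pow_iff hk0).1 (isUnit_of_mul_isUnit_right (hk ▸ hx.map _)))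
      rw [TameData.localFactor, hexp a _ _ ha (D.fac₁ n), hexp b _ _ hb (D.fac₂ n)]
      simp
  · rfl

variable {A : Type u} [CommRing A] [IsNoetherianRing A] [IsLocalRing A]

theorem height_one_iff (hA : ringKrullDim A = 2) {t : A} (ht : t ∈ nonZeroDivisors A) {q : PrimeSpectrum A}
    (htq : t ∈ q.asIdeal) :
    (q.asIdeal.height = 1 ↔ ¬ q.asIdeal.IsMaximal) ∧
      (q.asIdeal.height = 1 → q.asIdeal ∈ (Ideal.span {t}).minimalPrimes) := by
  have hmax : (maximalIdeal A).height = 2 := by
    have h := IsLocalRing.maximalIdeal_height_eq_ringKrullDim (R := A)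
    rw [hA] at h
    exact WithBot.coe_injective h
  have hpos : ∀ p : Ideal A, p.IsPrime → t ∈ p → 1 ≤ p.height := fun p hp htp => by
    haveI := hp
    obtain ⟨p0, hp0, hle⟩ := Ideal.exists_minimalPrimes_le (J := p) (I := (⊥ : Ideal A)) bot_le
    haveI := hp0.1.1
    have hne : p0 ≠ p := fun he =>
      Set.disjoint_left.1 (Ideal.disjoint_nonZeroDivisors_of_mem_minimalPrimes hp0) (show t ∈ p0 from he.symm ▸ htp) ht
    exact Order.one_le_iff_pos.2 (bot_le.trans_lt (Ideal.height_strict_mono_of_isPrime_of_isPrime (lt_of_le_of_ne hle hne)))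
  refine ⟨⟨fun h hm => ?_, fun h => le_antisymm ?_ (hpos _ q.2 htq)⟩, fun h => ?_⟩
  · rw [IsLocalRing.eq_maximalIdeal hm, hmax] at h
    exact absurd h (by norm_num)
  · have hlt := Ideal.height_strict_mono_of_isPrime_of_isPrime
      (lt_of_le_of_ne (IsLocalRing.le_maximalIdeal q.2.ne_top) (fun he : q.asIdeal = _ => h (he ▸ maximalIdeal.isMaximal A)))
    rw [hmax] at hlt
    exact Order.le_of_lt_add_one (x := q.asIdeal.height) (y := (1 : ℕ∞)) (by rw [one_add_one_eq_two]; exact hlt)
  · refine ⟨⟨q.2, (Ideal.span_singleton_le_iff_mem _).2 htq⟩, fun p hp hle => ?_⟩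
    by_contra hn
    haveI := hp.1
    have hlt := Ideal.height_strict_mono_of_isPrime_of_isPrime (lt_of_le_of_ne hle (fun he => hn he.ge))
    rw [h] at hlt
    exact absurd (hpos p hp.1 (hp.2 (Ideal.mem_span_singleton_self t))) (not_le.2 hlt)

theorem tower_apply {A Q C E : Type u} (T : Type u) [CommRing A] [CommRing Q] [CommRing C] [CommRing E] [CommRing T]
    [Algebra A Q] [Algebra A C] [Algebra A E] [Algebra Q E] [Algebra C E] [Algebra E T] [Algebra Q T] [Algebra C T]
    [IsScalarTower A Q E] [IsScalarTower A C E] [IsScalarTower Q E T] [IsScalarTower C E T] (z : A) :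
    algebraMap C T (algebraMap A C z) = algebraMap Q T (algebraMap A Q z) := by
  rw [IsScalarTower.algebraMap_apply C E T, ← IsScalarTower.algebraMap_apply A C E,
    IsScalarTower.algebraMap_apply A Q E, ← IsScalarTower.algebraMap_apply Q E T]

set_option maxHeartbeats 6400000 in
/-- The reciprocity law, given the existence of tame data along the zero locus. -/
theorem finsum_ordFrac_tameSymbol (hA : ringKrullDim A = 2) (a b : A) (ha : a ∈ nonZeroDivisors A)
    (hb : b ∈ nonZeroDivisors A)
    (hex : ∀ q : PrimeSpectrum A, q.asIdeal.height = 1 → a * b ∈ q.asIdeal →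
      Nonempty (TameData (Localization.AtPrime q.asIdeal) (algebraMap A (Localization.AtPrime q.asIdeal) a)
        (algebraMap A (Localization.AtPrime q.asIdeal) b))) :
    ∑ᶠ (q : PrimeSpectrum A) (_ : q.asIdeal.height = 1),
      CycAlg.ordFrac (A ⧸ q.asIdeal) q.asIdeal.ResidueField
        (CycAlg.tameSymbol (Localization.AtPrime q.asIdeal) (algebraMap A (Localization.AtPrime q.asIdeal) a)
          (algebraMap A (Localization.AtPrime q.asIdeal) b)) = 0 := by
  classical
  have ht : a * b ∈ nonZeroDivisors A := mul_mem ha hb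
  have hQfin : {q : PrimeSpectrum A | q.asIdeal.height = 1 ∧ a * b ∈ q.asIdeal}.Finite :=
    Set.Finite.subset (((Ideal.span {a * b}).finite_minimalPrimes_of_isNoetherianRing A).preimage
      (f := PrimeSpectrum.asIdeal) (fun x _ y _ hxy => PrimeSpectrum.ext hxy))
      fun q hq => (height_one_iff hA ht hq.2).2 hq.1
  let ι := {q : PrimeSpectrum A // q ∈ hQfin.toFinset}
  have hι : ∀ i : ι, i.1.asIdeal.height = 1 ∧ a * b ∈ i.1.asIdeal := fun i => hQfin.mem_toFinset.1 i.2
  let F := fun q : PrimeSpectrum A => CycAlg.ordFrac (A ⧸ q.asIdeal) q.asIdeal.ResidueField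
    (CycAlg.tameSymbol (Localization.AtPrime q.asIdeal) (algebraMap A (Localization.AtPrime q.asIdeal) a)
      (algebraMap A (Localization.AtPrime q.asIdeal) b))
  have hzero : ∀ q : PrimeSpectrum A, a * b ∉ q.asIdeal → F q = 0 := fun q hq => by
    show CycAlg.ordFrac _ _ _ = 0
    rw [tameSymbol_eq_one
      ((IsLocalization.AtPrime.isUnit_to_map_iff _ q.asIdeal a).2 fun h => hq (q.asIdeal.mul_mem_right _ h))
      ((IsLocalization.AtPrime.isUnit_to_map_iff _ q.asIdeal b).2 fun h => hq (q.asIdeal.mul_mem_left _ h))]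
    exact ordFrac_one
  rw [show (∑ᶠ (q : PrimeSpectrum A) (_ : q.asIdeal.height = 1), F q) = ∑ q ∈ hQfin.toFinset, F q from
    finsum_cond_eq_sum_of_cond_iff _ fun {q} hq => by
      rw [Set.Finite.mem_toFinset]
      exact ⟨fun h => ⟨h, by_contra fun h' => hq (hzero q h')⟩, fun h => h.1⟩]
  rw [← Finset.sum_coe_sort]
  -- the modifications
  let qq : ι → PrimeSpectrum A := fun i => i.1
  have hexi : ∀ i : ι, Nonempty (TameData (Localization.AtPrime (qq i).asIdeal)
      (algebraMap A (Localization.AtPrime (qq i).asIdeal) a) (algebraMap A (Localization.AtPrime (qq i).asIdeal) b)) :=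
    fun i => hex i.1 (hι i).1 (hι i).2
  let D := fun i : ι => Classical.choice (hexi i)
  have hF : ∀ i : ι, F i.1 = CycAlg.ordFrac (A ⧸ (qq i).asIdeal) (qq i).asIdeal.ResidueField (D i).value := fun i => by
    show CycAlg.ordFrac _ _ (CycAlg.tameSymbol _ _ _) = _
    rw [tameSymbol, dif_pos (hexi i)]
  let E : ι → Type u := fun i => (D i).B
  letI : ∀ i, Algebra A (E i) := fun i =>
    ((algebraMap (Localization.AtPrime (qq i).asIdeal) (E i)).comp
      (algebraMap A (Localization.AtPrime (qq i).asIdeal))).toAlgebra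
  haveI : ∀ i, IsScalarTower A (Localization.AtPrime (qq i).asIdeal) (E i) := fun i =>
    IsScalarTower.of_algebraMap_eq fun _ => rfl
  haveI : ∀ i, Module.Finite (Localization.AtPrime (qq i).asIdeal) (E i) := fun i => (D i).isFinExt.2.1
  have hπm : ∀ i (n : MaximalSpectrum (E i)), algebraMap (E i) (Localization.AtPrime n.asIdeal)
      (algebraMap A (E i) (a * b)) = ((D i).u₁ n * (D i).u₂ n : (Localization.AtPrime n.asIdeal)ˣ) *
        (D i).π n ^ ((D i).e₁ n + (D i).e₂ n) := fun i n => by
    rw [map_mul, map_mul, IsScalarTower.algebraMap_apply A (Localization.AtPrime (qq i).asIdeal) (E i) a,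
      IsScalarTower.algebraMap_apply A (Localization.AtPrime (qq i).asIdeal) (E i) b,
      ← IsScalarTower.algebraMap_apply (Localization.AtPrime (qq i).asIdeal) (E i) (Localization.AtPrime n.asIdeal),
      ← IsScalarTower.algebraMap_apply (Localization.AtPrime (qq i).asIdeal) (E i) (Localization.AtPrime n.asIdeal),
      (D i).fac₁ n, (D i).fac₂ n, Units.val_mul, pow_add]
    ring
  have htE : ∀ i, algebraMap A (E i) (a * b) ∈ nonZeroDivisors (E i) := fun i => by
    rw [mem_nonZeroDivisors_iff_right]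
    intro x hx
    refine eq_zero_of_localization x fun m hm => ?_
    have h := congrArg (algebraMap (E i) (Localization.AtPrime m)) hx
    rw [map_mul, map_zero, hπm i ⟨m, hm⟩] at h
    refine (mem_nonZeroDivisors_iff_right.1 (mul_mem ?_ (pow_mem ((D i).π_mem ⟨m, hm⟩) _))) _ h
    exact (Units.isUnit _).mem_nonZeroDivisors
  have hbd : ∀ i, ∃ n : ℕ, ∀ e : E i, ∃ α, algebraMap A (E i) ((a * b) ^ n) * e =
      algebraMap (Localization.AtPrime (qq i).asIdeal) (E i) α := fun i => by
    obtain ⟨n, hn⟩ := (D i).isFinExt.2.2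
    refine ⟨n, fun e => ?_⟩
    obtain ⟨α, hα⟩ := hn _ (Ideal.pow_mem_pow
      ((IsLocalization.AtPrime.to_map_mem_maximal_iff _ (qq i).asIdeal (a * b)).2 (hι i).2) n) e
    refine ⟨α, ?_⟩
    rw [hα, Algebra.smul_def, map_pow, map_pow,
      IsScalarTower.algebraMap_apply A (Localization.AtPrime (qq i).asIdeal) (E i)]
  obtain ⟨C, hCfin, -, ψ, hψ⟩ := exists_glue qq E ht (fun i j h => Subtype.ext h)
    (fun i => (height_one_iff hA ht (hι i).2).2 (hι i).1) (fun i => (D i).isFinExt.1) htE hbd
  haveI := hCfin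
  haveI := isNoetherian_C A (C := C)
  haveI : Algebra.IsIntegral A C := Algebra.IsIntegral.of_finite A C
  have hC : Thin C := thin_of_dim ((ringKrullDim_le_of_isIntegral A C).trans hA.le)
  have hAC : ∀ x : A, x ∈ nonZeroDivisors A → a * b = x ∨ x ∣ a * b →
      algebraMap A C x ∈ nonZeroDivisors C := fun x _ hx => by
    have hu : IsUnit (algebraMap A (Localization.Away (a * b)) x) :=
      isUnit_of_dvd_unit (map_dvd _ (hx.elim (fun h => h ▸ dvd_rfl) id))
        (IsLocalization.Away.algebraMap_isUnit (a * b))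
    rw [mem_nonZeroDivisors_iff_right]
    intro y hy
    exact Subtype.ext (hu.mul_left_eq_zero.1 (congrArg Subtype.val hy))
  have ha' := hAC a ha (Or.inr (dvd_mul_right a b))
  have hb' := hAC b hb (Or.inr (dvd_mul_left b a))
  obtain ⟨R, hR⟩ := exists_cover hC (mul_mem ha' hb')
  -- the branches
  letI : ∀ i, Algebra C (E i) := fun i => (ψ i).toRingHom.toAlgebra
  haveI : ∀ i, IsScalarTower A C (E i) := fun i => IsScalarTower.of_algebraMap_eq fun x => ((ψ i).commutes x).symm
  haveI hloc : ∀ i, IsLocalization (Algebra.algebraMapSubmonoid C (qq i).asIdeal.primeCompl) (E i) := hψ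
  haveI : ∀ i, Algebra.IsIntegral (Localization.AtPrime (qq i).asIdeal) (E i) := fun i => Algebra.IsIntegral.of_finite _ _
  let Φ : (Σ i, MaximalSpectrum (E i)) → PrimeSpectrum C := fun x =>
    PrimeSpectrum.comap (algebraMap C (E x.1)) ⟨x.2.asIdeal, x.2.isMaximal.isPrime⟩
  have hqΦ : ∀ x, (Φ x).asIdeal.comap (algebraMap A C) = (qq x.1).asIdeal := by
    rintro ⟨i, n⟩
    haveI := n.isMaximal
    show (n.asIdeal.comap (algebraMap C (E i))).comap (algebraMap A C) = _
    rw [Ideal.comap_comap, ← IsScalarTower.algebraMap_eq, IsScalarTower.algebraMap_eq A (Localization.AtPrime (qq i).asIdeal) (E i),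
      ← Ideal.comap_comap, IsLocalRing.eq_maximalIdeal (Ideal.isMaximal_comap_of_isIntegral_of_isMaximal n.asIdeal)]
    exact Localization.AtPrime.comap_maximalIdeal
  have hΦR : ∀ x, Φ x ∈ R := by
    intro x
    have hm : algebraMap A C a * algebraMap A C b ∈ (Φ x).asIdeal := by
      rw [← map_mul]
      exact show a * b ∈ (Φ x).asIdeal.comap (algebraMap A C) from (hqΦ x).symm ▸ (hι x.1).2
    refine (hR _).2 ⟨(hC _ (mul_mem ha' hb') (Φ x) hm).resolve_left fun h => ?_, hm⟩
    have h' : (Φ x).asIdeal.IsMaximal := h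
    have := Ideal.isMaximal_comap_of_isIntegral_of_isMaximal (R := A) (Φ x).asIdeal
    rw [hqΦ x] at this
    exact (height_one_iff hA ht (hι x.1).2).1.1 (hι x.1).1 this
  have hΦinj : Function.Injective Φ := by
    rintro ⟨i, n⟩ ⟨j, m⟩ h
    obtain rfl : i = j := Subtype.ext (PrimeSpectrum.ext
      ((hqΦ ⟨i, n⟩).symm.trans ((congrArg (fun r : PrimeSpectrum C => r.asIdeal.comap (algebraMap A C)) h).trans (hqΦ ⟨j, m⟩))))
    congr 1
    apply MaximalSpectrum.ext
    rw [← IsLocalization.map_comap (Algebra.algebraMapSubmonoid C (qq i).asIdeal.primeCompl) (E i) n.asIdeal,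
      ← IsLocalization.map_comap (Algebra.algebraMapSubmonoid C (qq i).asIdeal.primeCompl) (E i) m.asIdeal]
    exact congrArg (Ideal.map _) (congrArg PrimeSpectrum.asIdeal h)
  have hΦsurj : ∀ r ∈ R, ∃ x, Φ x = r := by
    intro r hr
    obtain ⟨hrc, hrt⟩ := (hR r).1 hr
    rw [← map_mul] at hrt
    let q : PrimeSpectrum A := PrimeSpectrum.comap (algebraMap A C) r
    have hqm : ¬ q.asIdeal.IsMaximal := fun h =>
      hrc.1 (Ideal.isMaximal_of_isIntegral_of_isMaximal_comap r.asIdeal h)
    let i : ι := ⟨q, hQfin.mem_toFinset.2 ⟨(height_one_iff hA ht hrt).1.2 hqm, hrt⟩⟩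
    have hdis : Disjoint (Algebra.algebraMapSubmonoid C (qq i).asIdeal.primeCompl : Set C) r.asIdeal := by
      rw [Set.disjoint_left]
      rintro _ ⟨c, hc, rfl⟩ hm
      exact hc hm
    have hp : (r.asIdeal.map (algebraMap C (E i))).IsPrime :=
      IsLocalization.isPrime_of_isPrime_disjoint _ (E i) r.asIdeal r.2 hdis
    have hcm : (r.asIdeal.map (algebraMap C (E i))).comap (algebraMap C (E i)) = r.asIdeal :=
      IsLocalization.comap_map_of_isPrime_disjoint _ (E i) r.2 hdis
    have hmax : (r.asIdeal.map (algebraMap C (E i))).IsMaximal := by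
      refine Ideal.isMaximal_of_isIntegral_of_isMaximal_comap (R := Localization.AtPrime (qq i).asIdeal) _ ?_
      rw [show (r.asIdeal.map (algebraMap C (E i))).comap (algebraMap (Localization.AtPrime (qq i).asIdeal) (E i)) =
        maximalIdeal _ from ?_]
      · exact maximalIdeal.isMaximal _
      · refine (IsLocalization.map_comap (qq i).asIdeal.primeCompl _ _).symm.trans ?_
        simp only [Ideal.under]
        rw [Ideal.comap_comap, ← IsScalarTower.algebraMap_eq, IsScalarTower.algebraMap_eq A C (E i),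
          ← Ideal.comap_comap, hcm]
        exact Localization.AtPrime.map_eq_maximalIdeal
    exact ⟨⟨i, ⟨_, hmax⟩⟩, PrimeSpectrum.ext hcm⟩
  haveI : Finite (Σ i, MaximalSpectrum (E i)) :=
    Finite.of_injective (fun x => (⟨Φ x, hΦR x⟩ : {r // r ∈ R})) fun x y h => hΦinj (congrArg Subtype.val h)
  haveI : ∀ i, Finite (MaximalSpectrum (E i)) := fun i =>
    Finite.of_injective (fun n => (⟨i, n⟩ : Σ i, MaximalSpectrum (E i))) fun n m h => by simpa using h
  haveI : ∀ i, Fintype (MaximalSpectrum (E i)) := fun i => Fintype.ofFinite _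
  have hdim : ∀ i : ι, Ring.KrullDimLE 1 (A ⧸ (qq i).asIdeal) := fun i => by
    rw [Ring.krullDimLE_iff]
    obtain ⟨z, hz, hnz⟩ : ∃ z ∈ (qq i).asIdeal, z ∈ nonZeroDivisors A := ⟨a * b, (hι i).2, ht⟩
    have h1 := ringKrullDim_quotient_succ_le_of_nonZeroDivisor hnz
    have h2 : ringKrullDim (A ⧸ (qq i).asIdeal) ≤ ringKrullDim (A ⧸ Ideal.span {z}) :=
      ringKrullDim_le_of_surjective (Ideal.Quotient.factor ((Ideal.span_singleton_le_iff_mem _).2 hz))
        (Ideal.Quotient.factor_surjective _)
    rw [hA] at h1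
    refine h2.trans ?_
    generalize ringKrullDim (A ⧸ Ideal.span {z}) = d at h1
    cases d with
    | bot => exact bot_le
    | coe d =>
      have h3 : d + 1 ≤ 1 + 1 := by rw [one_add_one_eq_two]; exact WithBot.coe_le_coe.1 h1
      exact_mod_cast (WithTop.add_le_add_iff_right ENat.one_ne_top).1 h3
  haveI : ∀ x : Σ i, MaximalSpectrum (E i),
      IsLocalHom (algebraMap (Localization.AtPrime (qq x.1).asIdeal) (Localization.AtPrime x.2.asIdeal)) :=
    fun x => (D x.1).isLocalHom x.2
  have hbr := fun x : Σ i, MaximalSpectrum (E i) =>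
    haveI : IsLocalization.AtPrime (Localization.AtPrime x.2.asIdeal) (Φ x).asIdeal :=
      IsLocalization.isLocalization_isLocalization_atPrime_isLocalization
        (Algebra.algebraMapSubmonoid C (qq x.1).asIdeal.primeCompl) (Localization.AtPrime x.2.asIdeal) x.2.asIdeal
    exists_branch hC ha' hb' R (fun r hr => (hR r).1 hr) (Φ x) (hΦR x) (qq x.1) (hdim x.1) (hqΦ x)
      (Localization.AtPrime x.2.asIdeal) (fun z =>
        (congrArg (residue (Localization.AtPrime x.2.asIdeal))
          (tower_apply (Q := Localization.AtPrime (qq x.1).asIdeal) (E := E x.1)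
            (Localization.AtPrime x.2.asIdeal) z)).trans
          (IsLocalRing.ResidueField.algebraMap_residue (algebraMap A (Localization.AtPrime (qq x.1).asIdeal) z)).symm)
      ((D x.1).π x.2) ((D x.1).π_mem x.2) ((D x.1).u₁ x.2) ((D x.1).u₂ x.2) ((D x.1).e₁ x.2) ((D x.1).e₂ x.2)
      ((tower_apply (Q := Localization.AtPrime (qq x.1).asIdeal) (E := E x.1) (Localization.AtPrime x.2.asIdeal) a).trans
        ((D x.1).fac₁ x.2))
      ((tower_apply (Q := Localization.AtPrime (qq x.1).asIdeal) (E := E x.1) (Localization.AtPrime x.2.asIdeal) b).trans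
        ((D x.1).fac₂ x.2))
  choose p s1 c1 s2 c2 hp hpm hpn hs1 hc1 hs2 hc2 he1 he2 hord hne hval using hbr
  let e' := Function.extend Φ (fun x => (D x.1).e₁ x.2) 0
  let f' := Function.extend Φ (fun x => (D x.1).e₂ x.2) 0
  have key := reciprocity (A := A) hC ha' hb' R hR (Function.extend Φ p 1)
    (fun r hr => by obtain ⟨x, rfl⟩ := hΦsurj r hr; rw [hΦinj.extend_apply]; exact hp x)
    (fun r hr => by obtain ⟨x, rfl⟩ := hΦsurj r hr; rw [hΦinj.extend_apply]; exact hpm x)
    (fun r hr r' hr' => by obtain ⟨x, rfl⟩ := hΦsurj r hr; rw [hΦinj.extend_apply]; exact hpn x r' hr')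
    e' f' (Function.extend Φ s1 1) (Function.extend Φ c1 1) (Function.extend Φ s2 1) (Function.extend Φ c2 1)
    (fun r hr => by obtain ⟨x, rfl⟩ := hΦsurj r hr; rw [hΦinj.extend_apply]; exact hs1 x)
    (fun r hr => by obtain ⟨x, rfl⟩ := hΦsurj r hr; rw [hΦinj.extend_apply]; exact hc1 x)
    (fun r hr => by obtain ⟨x, rfl⟩ := hΦsurj r hr; rw [hΦinj.extend_apply]; exact hs2 x)
    (fun r hr => by obtain ⟨x, rfl⟩ := hΦsurj r hr; rw [hΦinj.extend_apply]; exact hc2 x)
    (fun r hr => by
      obtain ⟨x, rfl⟩ := hΦsurj r hr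
      simp only [e', hΦinj.extend_apply]
      exact he1 x)
    (fun r hr => by
      obtain ⟨x, rfl⟩ := hΦsurj r hr
      simp only [f', hΦinj.extend_apply]
      exact he2 x)
  have himg : R = Finset.univ.image Φ := by
    ext r
    simp only [Finset.mem_image, Finset.mem_univ, true_and]
    exact ⟨hΦsurj r, fun ⟨x, hx⟩ => hx ▸ hΦR x⟩
  rw [himg, Finset.sum_image fun x _ y _ h => hΦinj h] at key
  simp only [e', f', hΦinj.extend_apply] at key
  rw [Fintype.sum_sigma] at key
  refine Eq.trans (Finset.sum_congr rfl fun i _ => ?_) key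
  rw [hF i, TameData.value, finprod_eq_prod_of_fintype, ordFrac_prod _ _ fun n _ => pow_ne_zero _ (hne ⟨i, n⟩)]
  refine Finset.sum_congr rfl fun n _ => ?_
  rw [TameData.localFactor, ordFrac_pow (hne ⟨i, n⟩), hord ⟨i, n⟩]
  exact congrArg _ (hval ⟨i, n⟩)

end Groth.Agent.TameCh
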