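import Groth.Agent.TameCh.Master
import Groth.Agent.CycDim.OrdSum

/-!
Multiplying one map of a periodic complex by a scalar.
-/

set_option autoImplicit false
set_option linter.style.haveILetI false

universe u v

noncomputable section

namespace Groth.Agent.TameCh

open CycAlg
open scoped Pointwise

variable {R : Type u} [CommRing R] {M : Type v} [AddCommGroup M] [Module R M] (φ ψ : M →ₗ[R] M)

theorem perH_smul (hper : IsPeriodic φ ψ) (x : R) :
    Module.length R (perH (x • φ) ψ) = Module.length R (perH φ ψ) +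
        Module.length R (LinearMap.ker (x • (LinearMap.id : LinearMap.range φ →ₗ[R] LinearMap.range φ))) ∧
      Module.length R (perH ψ (x • φ)) = Module.length R (perH ψ φ) +
        Module.length R (LinearMap.range φ ⧸ x • (⊤ : Submodule R (LinearMap.range φ))) := by
  have hφψ : ∀ m, φ (ψ m) = 0 := fun m => DFunLike.congr_fun hper.1 m
  have hψφ : ∀ m, ψ (φ m) = 0 := fun m => DFunLike.congr_fun hper.2 m
  constructor
  · let f : perH φ ψ →ₗ[R] perH (x • φ) ψ := Submodule.mapQ _ _
      (Submodule.inclusion (fun m (hm : φ m = 0) => show x • φ m = 0 by rw [hm, smul_zero]))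
      (fun z hz => hz)
    let g0 : LinearMap.ker (x • φ) →ₗ[R] LinearMap.ker (x • (LinearMap.id : LinearMap.range φ →ₗ[R] LinearMap.range φ)) :=
      (φ.rangeRestrict.comp (LinearMap.ker (x • φ)).subtype).codRestrict _ fun z => Subtype.ext (show x • φ z.1 = 0 from z.2)
    let g : perH (x • φ) ψ →ₗ[R] LinearMap.ker (x • (LinearMap.id : LinearMap.range φ →ₗ[R] LinearMap.range φ)) :=
      Submodule.liftQ _ g0 (by
        rintro ⟨z, hz⟩ ⟨w, hw⟩
        refine LinearMap.mem_ker.2 (Subtype.ext (Subtype.ext ?_))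
        show φ z = 0
        rw [← show ψ w = z from hw, hφψ])
    refine Module.length_eq_add_of_exact f g ?_ ?_ ?_
    · intro a b h
      obtain ⟨a, rfl⟩ := Submodule.Quotient.mk_surjective _ a
      obtain ⟨b, rfl⟩ := Submodule.Quotient.mk_surjective _ b
      exact (Submodule.Quotient.eq _).2 ((Submodule.Quotient.eq _).1 h :)
    · rintro ⟨⟨_, m, rfl⟩, hm⟩
      exact ⟨Submodule.Quotient.mk ⟨m, congrArg Subtype.val hm⟩, rfl⟩
    · intro z
      obtain ⟨⟨z, hz⟩, rfl⟩ := Submodule.Quotient.mk_surjective _ z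
      constructor
      · intro h
        exact ⟨Submodule.Quotient.mk ⟨z, congrArg (fun w : LinearMap.ker (x • (LinearMap.id : LinearMap.range φ →ₗ[R] LinearMap.range φ)) => (w.1.1 : M)) h⟩, rfl⟩
      · rintro ⟨a, ha⟩
        obtain ⟨⟨a, ha'⟩, rfl⟩ := Submodule.Quotient.mk_surjective _ a
        rw [← ha]
        exact Subtype.ext (Subtype.ext ha')
  · let f0 : LinearMap.range φ →ₗ[R] perH ψ (x • φ) := (Submodule.mkQ _).comp
      (Submodule.inclusion (fun m hm => by obtain ⟨w, rfl⟩ := hm; exact hψφ w))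
    let f : (LinearMap.range φ ⧸ x • (⊤ : Submodule R (LinearMap.range φ))) →ₗ[R] perH ψ (x • φ) :=
      Submodule.liftQ _ f0 (by
        rintro _ ⟨⟨_, w, rfl⟩, -, rfl⟩
        exact (Submodule.Quotient.mk_eq_zero _).2 ⟨w, rfl⟩)
    let g : perH ψ (x • φ) →ₗ[R] perH ψ φ := Submodule.mapQ _ _ LinearMap.id (by
        rintro z ⟨w, hw⟩
        exact ⟨x • w, by rw [map_smul]; exact hw⟩)
    rw [Module.length_eq_add_of_exact f g ?_ ?_ ?_]
    · exact add_comm _ _
    · rw [← LinearMap.ker_eq_bot, eq_bot_iff]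
      intro a ha
      obtain ⟨a, rfl⟩ := Submodule.Quotient.mk_surjective _ a
      obtain ⟨w, hw⟩ := (Submodule.Quotient.mk_eq_zero _).1 (LinearMap.mem_ker.1 ha)
      refine (Submodule.Quotient.mk_eq_zero _).2 ⟨⟨φ w, w, rfl⟩, trivial, Subtype.ext hw⟩
    · intro z
      obtain ⟨z, rfl⟩ := Submodule.Quotient.mk_surjective _ z
      exact ⟨Submodule.Quotient.mk z, rfl⟩
    · intro z
      obtain ⟨⟨z, hz⟩, rfl⟩ := Submodule.Quotient.mk_surjective _ z
      constructor
      · intro h
        have h' : (⟨z, hz⟩ : LinearMap.ker ψ) ∈ (LinearMap.range φ).submoduleOf (LinearMap.ker ψ) :=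
          (Submodule.Quotient.mk_eq_zero _).1 h
        exact ⟨Submodule.Quotient.mk ⟨z, h'⟩, rfl⟩
      · rintro ⟨a, ha⟩
        obtain ⟨⟨a, ha'⟩, rfl⟩ := Submodule.Quotient.mk_surjective _ a
        rw [← ha]
        exact (Submodule.Quotient.mk_eq_zero _).2 ha'

theorem herbrand_zero_smul (N : Type v) [AddCommGroup N] [Module R N] (x : R) :
    Module.length R (perH (0 : N →ₗ[R] N) (x • LinearMap.id)) = Module.length R (N ⧸ x • (⊤ : Submodule R N)) ∧
      Module.length R (perH (x • (LinearMap.id : N →ₗ[R] N)) 0) =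
        Module.length R (LinearMap.ker (x • (LinearMap.id : N →ₗ[R] N))) := by
  constructor
  · refine LinearEquiv.length_eq (Submodule.Quotient.equiv _ _ ((LinearEquiv.ofEq _ _ LinearMap.ker_zero).trans Submodule.topEquiv) ?_)
    ext y
    constructor
    · rintro ⟨z, ⟨w, hw⟩, rfl⟩
      exact ⟨w, trivial, hw⟩
    · rintro ⟨w, -, rfl⟩
      exact ⟨⟨x • w, LinearMap.mem_ker.2 rfl⟩, ⟨w, rfl⟩, rfl⟩
  · exact LinearEquiv.length_eq (Submodule.quotEquivOfEqBot _ (by simp [Submodule.submoduleOf]))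

end Groth.Agent.TameCh
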