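import Groth.Agent.CycHex.Herbrand
import Mathlib

/-!
Periodic complexes given by two multiplications on modules with one dimensional support.
-/

set_option autoImplicit false
set_option linter.style.haveILetI false

universe u

noncomputable section

namespace Groth.Agent.TameCh

open CycAlg Groth.Agent.CycHex

section Loc

variable {C : Type u} [CommRing C]

/-- The local multiplicity of a module at a prime. -/
def lenAt (p : PrimeSpectrum C) (M : Type u) [AddCommGroup M] [Module C M] : ℕ∞ :=
  Module.length (Localization.AtPrime p.asIdeal) (LocalizedModule p.asIdeal.primeCompl M)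

theorem lenAt_add (p : PrimeSpectrum C) {M₁ M₂ M₃ : Type u} [AddCommGroup M₁] [Module C M₁] [AddCommGroup M₂]
    [Module C M₂] [AddCommGroup M₃] [Module C M₃] (f : M₁ →ₗ[C] M₂) (g : M₂ →ₗ[C] M₃) (hf : Function.Injective f)
    (hg : Function.Surjective g) (h : Function.Exact f g) : lenAt p M₂ = lenAt p M₁ + lenAt p M₃ :=
  Module.length_eq_add_of_exact (LocalizedModule.map p.asIdeal.primeCompl f) (LocalizedModule.map p.asIdeal.primeCompl g)
    (LocalizedModule.map_injective p.asIdeal.primeCompl f hf) (LocalizedModule.map_surjective p.asIdeal.primeCompl g hg)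
    (LocalizedModule.map_exact p.asIdeal.primeCompl f g h)

theorem lenAt_eq_zero_of_subsingleton (p : PrimeSpectrum C) (M : Type u) [AddCommGroup M] [Module C M] [Subsingleton M] :
    lenAt p M = 0 :=
  Module.length_eq_zero_iff.2 (LocalizedModule.subsingleton_iff.2 fun _ =>
    ⟨1, p.asIdeal.primeCompl.one_mem, Subsingleton.elim _ _⟩)

theorem lenAt_congr (p : PrimeSpectrum C) {M N : Type u} [AddCommGroup M] [Module C M] [AddCommGroup N] [Module C N]
    (e : M ≃ₗ[C] N) : lenAt p M = lenAt p N := by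
  have h := lenAt_add p e.toLinearMap (0 : N →ₗ[C] PUnit.{u + 1}) e.injective (Function.surjective_to_subsingleton _)
    ((e.exact_zero_iff_surjective _).2 e.surjective)
  rw [lenAt_eq_zero_of_subsingleton p PUnit.{u + 1}, add_zero] at h
  exact h.symm

theorem lenAt_quot_of_not_le {p : PrimeSpectrum C} {q : Ideal C} (h : ¬ q ≤ p.asIdeal) :
    lenAt p (C ⧸ q) = 0 := by
  obtain ⟨c, hcq, hcp⟩ := SetLike.not_le_iff_exists.1 h
  rw [lenAt, Module.length_eq_zero_iff]
  refine LocalizedModule.subsingleton_iff.2 fun m => ⟨c, hcp, ?_⟩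
  obtain ⟨b, rfl⟩ := Ideal.Quotient.mk_surjective m
  exact Ideal.Quotient.eq_zero_iff_mem.2 (q.mul_mem_right _ hcq)

theorem lenAt_quot_self (p : PrimeSpectrum C) : lenAt p (C ⧸ p.asIdeal) = 1 := by
  let S := p.asIdeal.primeCompl
  rw [lenAt, Module.length_eq_one_iff, isSimpleModule_iff_toSpanSingleton_surjective]
  refine ⟨?_, fun m hm => ?_⟩
  · refine ⟨LocalizedModule.mkLinearMap S _ 1, 0, fun h0 => ?_⟩
    obtain ⟨c, hc⟩ := (IsLocalizedModule.eq_zero_iff S (LocalizedModule.mkLinearMap S (C ⧸ p.asIdeal))).1 h0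
    refine c.2 ((Ideal.Quotient.eq_zero_iff_mem (I := p.asIdeal)).1 ?_)
    exact ((mul_one _).symm.trans (Algebra.smul_def (c : C) (1 : C ⧸ p.asIdeal)).symm).trans hc
  · intro y
    induction m using LocalizedModule.induction_on with
    | h a s =>
      induction y using LocalizedModule.induction_on with
      | h b t =>
        obtain ⟨a, rfl⟩ := Ideal.Quotient.mk_surjective a
        obtain ⟨b, rfl⟩ := Ideal.Quotient.mk_surjective b
        have ha : a ∈ S := by
          intro hap
          refine hm ?_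
          rw [show Ideal.Quotient.mk p.asIdeal a = 0 from Ideal.Quotient.eq_zero_iff_mem.2 hap]
          exact LocalizedModule.zero_mk s
        refine ⟨Localization.mk (b * (s : C)) (⟨a, ha⟩ * t), ?_⟩
        rw [LinearMap.toSpanSingleton_apply, LocalizedModule.mk_smul_mk, LocalizedModule.mk_eq]
        refine ⟨1, ?_⟩
        simp only [one_smul, Submonoid.smul_def, Submonoid.coe_mul, smul_smul]
        rw [Algebra.smul_def, Algebra.smul_def, Ideal.Quotient.algebraMap_eq, ← map_mul, ← map_mul]
        congr 1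
        ring

/-- A prime of coheight exactly one. -/
def Curve (r : PrimeSpectrum C) : Prop :=
  ¬ r.asIdeal.IsMaximal ∧ ∀ q : Ideal C, q.IsPrime → r.asIdeal < q → q.IsMaximal

theorem Curve.eq_of_le {r r' : PrimeSpectrum C} (hr : Curve r) (hr' : Curve r') (h : r.asIdeal ≤ r'.asIdeal) :
    r = r' := by
  rcases h.lt_or_eq with hlt | he
  · exact absurd (hr.2 _ r'.2 hlt) hr'.1
  · exact PrimeSpectrum.ext he

theorem annihilator_le_of_exact {M₁ M₂ M₃ : Type u} [AddCommGroup M₁] [Module C M₁] [AddCommGroup M₂] [Module C M₂]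
    [AddCommGroup M₃] [Module C M₃] (f : M₁ →ₗ[C] M₂) (g : M₂ →ₗ[C] M₃) (hf : Function.Injective f)
    (hg : Function.Surjective g) :
    Module.annihilator C M₂ ≤ Module.annihilator C M₁ ∧ Module.annihilator C M₂ ≤ Module.annihilator C M₃ :=
  ⟨LinearMap.annihilator_le_of_injective f hf, LinearMap.annihilator_le_of_surjective g hg⟩

end Loc

section AL

variable (A : Type u) {C : Type u} [CommRing A] [CommRing C] [Algebra A C]

/-- Multiplication by an element of `C`, linear over `A`. -/
def mulA (f : C) (M : Type u) [AddCommGroup M] [Module C M] [Module A M] [IsScalarTower A C M] : M →ₗ[A] M :=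
  (LinearMap.lsmul C M f).restrictScalars A

theorem mulA_apply (f : C) {M : Type u} [AddCommGroup M] [Module C M] [Module A M] [IsScalarTower A C M] (m : M) :
    mulA A f M m = f • m := rfl

/-- The Herbrand quotient of multiplication by `f` and `g`. -/
def he (f g : C) (M : Type u) [AddCommGroup M] [Module C M] [Module A M] [IsScalarTower A C M] : ℤ :=
  herbrand A (mulA A f M) (mulA A g M)

/-- Finiteness of the cohomology. -/
def HFin (f g : C) (M : Type u) [AddCommGroup M] [Module C M] [Module A M] [IsScalarTower A C M] : Prop :=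
  FinCoh A (mulA A f M) (mulA A g M)

theorem he_swap (f g : C) (M : Type u) [AddCommGroup M] [Module C M] [Module A M] [IsScalarTower A C M] :
    he A f g M = - he A g f M := by
  simp only [he, herbrand]; ring

theorem periodic {f g : C} {M : Type u} [AddCommGroup M] [Module C M] [Module A M] [IsScalarTower A C M]
    (h : f * g ∈ Module.annihilator C M) : IsPeriodic (mulA A f M) (mulA A g M) := by
  have h' := Module.mem_annihilator.1 h
  refine ⟨LinearMap.ext fun m => ?_, LinearMap.ext fun m => ?_⟩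
  · show f • g • m = 0
    rw [smul_smul, h']
  · show g • f • m = 0
    rw [smul_smul, mul_comm, h']

/-- `length_A (C / (r + (y)))`. -/
def cf (r : PrimeSpectrum C) (y : C) : ℤ := ((Module.length A (C ⧸ (r.asIdeal ⊔ Ideal.span {y}))).toNat : ℤ)

variable [IsNoetherianRing A] [IsLocalRing A] [Module.Finite A C]

include A in
theorem isNoetherian_C : IsNoetherianRing C := IsNoetherianRing.of_finite A C

theorem length_field (n : Ideal C) [n.IsMaximal] : Module.length A (C ⧸ n) < ⊤ := by
  haveI : Algebra.IsIntegral A C := Algebra.IsIntegral.of_finite A C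
  let m : Ideal A := IsLocalRing.maximalIdeal A
  have hm : n.comap (algebraMap A C) = m :=
    IsLocalRing.eq_maximalIdeal (Ideal.isMaximal_comap_of_isIntegral_of_isMaximal n)
  have htor : Module.IsTorsionBySet A (C ⧸ n) (m : Set A) := by
    intro x a
    obtain ⟨x, rfl⟩ := Ideal.Quotient.mk_surjective x
    show Ideal.Quotient.mk n ((a : A) • x) = 0
    rw [Ideal.Quotient.eq_zero_iff_mem, Algebra.smul_def]
    exact n.mul_mem_right _ (show (a : A) ∈ n.comap (algebraMap A C) from hm.symm ▸ a.2)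
  letI : Module (A ⧸ m) (C ⧸ n) := htor.module
  haveI : IsScalarTower A (A ⧸ m) (C ⧸ n) := Module.IsTorsionBySet.isScalarTower htor
  haveI : Module.Finite (A ⧸ m) (C ⧸ n) := Module.Finite.of_restrictScalars_finite A (A ⧸ m) (C ⧸ n)
  letI := Ideal.Quotient.field m
  rw [Module.length_eq_of_surjective (R := A ⧸ m) (M := C ⧸ n) (S := A) Ideal.Quotient.mk_surjective]
  rw [Module.length_eq_finrank]
  exact ENat.natCast_lt_top _

theorem length_lt_top_of_support (M : Type u) [AddCommGroup M] [Module C M] [Module.Finite C M] [Module A M]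
    [IsScalarTower A C M] (h : ∀ q : PrimeSpectrum C, Module.annihilator C M ≤ q.asIdeal → q.asIdeal.IsMaximal) :
    Module.length A M < ⊤ := by
  haveI := isNoetherian_C A (C := C)
  revert h
  refine IsNoetherianRing.induction_on_isQuotientEquivQuotientPrime (A := C)
    (motive := fun N _ _ _ => ∀ [Module A N] [IsScalarTower A C N],
      (∀ q : PrimeSpectrum C, Module.annihilator C N ≤ q.asIdeal → q.asIdeal.IsMaximal) → Module.length A N < ⊤)
    inferInstance ?_ ?_ ?_
  · intro N _ _ _ _ _ _ _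
    rw [Module.length_eq_zero]; exact WithTop.coe_lt_top 0
  · intro N _ _ _ q e _ _ h
    haveI : q.asIdeal.IsMaximal := h q (by rw [e.annihilator_eq, Ideal.annihilator_quotient])
    rw [(e.restrictScalars A).length_eq]
    exact length_field A q.asIdeal
  · intro N₁ _ _ _ N₂ _ _ _ N₃ _ _ _ f g hf hg hfg h₁ h₃ _ _ h
    letI : Module A N₁ := Module.compHom N₁ (algebraMap A C)
    haveI : IsScalarTower A C N₁ := IsScalarTower.of_algebraMap_smul fun _ _ => rfl
    letI : Module A N₃ := Module.compHom N₃ (algebraMap A C)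
    haveI : IsScalarTower A C N₃ := IsScalarTower.of_algebraMap_smul fun _ _ => rfl
    obtain ⟨a1, a3⟩ := annihilator_le_of_exact f g hf hg
    rw [Module.length_eq_add_of_exact (f.restrictScalars A) (g.restrictScalars A) hf hg hfg]
    exact ENat.add_lt_top.2 ⟨h₁ fun q hq => h q (a1.trans hq), h₃ fun q hq => h q (a3.trans hq)⟩

variable {A}

theorem cf_finite {r : PrimeSpectrum C} (hr : Curve r) {y : C} (hy : y ∉ r.asIdeal) :
    Module.length A (C ⧸ (r.asIdeal ⊔ Ideal.span {y})) < ⊤ :=
  length_lt_top_of_support A _ fun q hq => by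
    rw [Ideal.annihilator_quotient] at hq
    exact hr.2 _ q.2 (lt_of_le_of_ne (le_sup_left.trans hq) fun h =>
      hy (h.symm ▸ hq (Ideal.mem_sup_right (Ideal.mem_span_singleton_self y))))

set_option maxHeartbeats 1000000 in
theorem cf_mul {r : PrimeSpectrum C} (hr : Curve r) {x y : C} (hx : x ∉ r.asIdeal) (hy : y ∉ r.asIdeal) :
    cf A r (x * y) = cf A r x + cf A r y := by
  let J := fun z : C => r.asIdeal ⊔ Ideal.span {z}
  let f : (C ⧸ J x) →ₗ[C] C ⧸ J (x * y) := Submodule.mapQ _ _ (LinearMap.lsmul C C y) (by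
    intro z hz
    obtain ⟨w, hw, v, hv, rfl⟩ := Submodule.mem_sup.1 hz
    obtain ⟨c, rfl⟩ := Ideal.mem_span_singleton'.1 hv
    show y * (w + c * x) ∈ J (x * y)
    rw [mul_add]
    exact add_mem (Ideal.mem_sup_left (Ideal.mul_mem_left _ _ hw))
      (Ideal.mem_sup_right (Ideal.mem_span_singleton'.2 ⟨c, by ring⟩)))
  let g : (C ⧸ J (x * y)) →ₗ[C] C ⧸ J y := Submodule.factor
    (sup_le_sup le_rfl ((Ideal.span_singleton_le_iff_mem _).2 (Ideal.mem_span_singleton'.2 ⟨x, rfl⟩)))
  have hf : Function.Injective f := by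
    rw [← LinearMap.ker_eq_bot, eq_bot_iff]
    intro z hz
    obtain ⟨z, rfl⟩ := Submodule.Quotient.mk_surjective _ z
    rw [LinearMap.mem_ker, Submodule.mapQ_apply, Submodule.Quotient.mk_eq_zero] at hz
    obtain ⟨w, hw, v, hv, hwv⟩ := Submodule.mem_sup.1 hz
    obtain ⟨c, rfl⟩ := Ideal.mem_span_singleton'.1 hv
    have hwv' : w + c * (x * y) = y * z := hwv
    have h1 : y * (z - c * x) ∈ r.asIdeal := by
      rw [show y * (z - c * x) = w by rw [mul_sub, ← hwv']; ring]
      exact hw
    rw [Submodule.mem_bot, Submodule.Quotient.mk_eq_zero]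
    have h2 := add_mem (Ideal.mem_sup_left (T := Ideal.span {x}) ((r.2.mem_or_mem h1).resolve_left hy))
      (Ideal.mem_sup_right (S := r.asIdeal) (Ideal.mem_span_singleton'.2 ⟨c, rfl⟩ : c * x ∈ Ideal.span {x}))
    simpa using h2
  have hfmk : ∀ c : C, f (Submodule.Quotient.mk c) = Submodule.Quotient.mk (y * c) := fun c =>
    Submodule.mapQ_apply _ _ _ c
  have hgmk : ∀ z : C, g (Submodule.Quotient.mk z) = Submodule.Quotient.mk z := fun z =>
    Submodule.mapQ_apply _ _ _ z
  have hfg : Function.Exact f g := by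
    intro z
    obtain ⟨z, rfl⟩ := Submodule.Quotient.mk_surjective _ z
    constructor
    · intro h
      rw [hgmk, Submodule.Quotient.mk_eq_zero] at h
      obtain ⟨w, hw, v, hv, rfl⟩ := Submodule.mem_sup.1 h
      obtain ⟨c, rfl⟩ := Ideal.mem_span_singleton'.1 hv
      refine ⟨Submodule.Quotient.mk c, ?_⟩
      rw [hfmk, Submodule.Quotient.eq]
      refine Ideal.mem_sup_left ?_
      rw [show y * c - (w + c * y) = -w by ring]
      exact neg_mem hw
    · rintro ⟨c, hc⟩
      obtain ⟨c, rfl⟩ := Submodule.Quotient.mk_surjective _ c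
      rw [← hc, hfmk, hgmk, Submodule.Quotient.mk_eq_zero]
      exact Ideal.mem_sup_right (Ideal.mem_span_singleton'.2 ⟨c, mul_comm c y⟩)
  have hgs : Function.Surjective g := by
    intro z
    obtain ⟨z, rfl⟩ := Submodule.Quotient.mk_surjective _ z
    exact ⟨Submodule.Quotient.mk z, hgmk z⟩
  have hadd : Module.length A (C ⧸ J (x * y)) = Module.length A (C ⧸ J x) + Module.length A (C ⧸ J y) :=
    Module.length_eq_add_of_exact (f.restrictScalars A) (g.restrictScalars A) hf hgs hfg
  have hx' : Module.length A (C ⧸ J x) < ⊤ := cf_finite hr hx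
  have hy' : Module.length A (C ⧸ J y) < ⊤ := cf_finite hr hy
  have e := congrArg ENat.toNat hadd
  rw [ENat.toNat_add hx'.ne hy'.ne] at e
  unfold cf
  exact_mod_cast e

/-- The contribution of a prime. -/
def eps (A : Type u) [CommRing A] [Algebra A C] (r : PrimeSpectrum C) (f g : C) : ℤ :=
  haveI := Classical.dec (f ∈ r.asIdeal)
  if f ∈ r.asIdeal then cf A r g else - cf A r f

theorem eps_mem {r : PrimeSpectrum C} {f g : C} (h : f ∈ r.asIdeal) : eps A r f g = cf A r g := by
  simp only [eps, if_pos h]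

theorem eps_not_mem {r : PrimeSpectrum C} {f g : C} (h : f ∉ r.asIdeal) : eps A r f g = - cf A r f := by
  simp only [eps, if_neg h]

theorem he_prime_left {r : PrimeSpectrum C} (hr : Curve r) {f g : C} (hf : f ∈ r.asIdeal) (hg : g ∉ r.asIdeal)
    (N : Type u) [AddCommGroup N] [Module C N] [Module A N] [IsScalarTower A C N] (e : N ≃ₗ[C] C ⧸ r.asIdeal) :
    HFin A f g N ∧ he A f g N = cf A r g := by
  have hf0 : mulA A f N = 0 := LinearMap.ext fun m => e.injective (by
    show e (f • m) = e 0
    rw [map_smul, map_zero]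
    obtain ⟨z, hz⟩ := Ideal.Quotient.mk_surjective (e m)
    rw [← hz, Algebra.smul_def, Ideal.Quotient.algebraMap_eq, ← map_mul, Ideal.Quotient.eq_zero_iff_mem]
    exact r.asIdeal.mul_mem_right _ hf)
  have hinj : ∀ m : N, g • m = 0 → m = 0 := fun m h => by
    apply e.injective
    obtain ⟨z, hz⟩ := Ideal.Quotient.mk_surjective (e m)
    have h' := congrArg e h
    rw [map_smul, map_zero, ← hz, Algebra.smul_def, Ideal.Quotient.algebraMap_eq, ← map_mul,
      Ideal.Quotient.eq_zero_iff_mem] at h'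
    rw [map_zero, ← hz, Ideal.Quotient.eq_zero_iff_mem]
    exact (r.2.mem_or_mem h').resolve_left hg
  have h1 : Module.length A (perH (mulA A g N) (mulA A f N)) = 0 := by
    haveI : Subsingleton (LinearMap.ker (mulA A g N)) :=
      subsingleton_of_forall_eq 0 fun m => Subtype.ext (hinj m.1 m.2)
    haveI : Subsingleton (perH (mulA A g N) (mulA A f N)) := (Submodule.Quotient.mk_surjective _).subsingleton
    exact Module.length_eq_zero
  have h2 : Module.length A (perH (mulA A f N) (mulA A g N)) =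
      Module.length A (C ⧸ (r.asIdeal ⊔ Ideal.span {g})) := by
    let ψ : N →ₗ[A] C ⧸ (r.asIdeal ⊔ Ideal.span {g}) :=
      ((Submodule.factor (le_sup_left : r.asIdeal ≤ r.asIdeal ⊔ Ideal.span {g})).comp e.toLinearMap).restrictScalars A
    let χ : LinearMap.ker (mulA A f N) →ₗ[A] C ⧸ (r.asIdeal ⊔ Ideal.span {g}) :=
      ψ.comp (LinearMap.ker (mulA A f N)).subtype
    have hsurj : Function.Surjective χ := fun z => by
      obtain ⟨n, hn⟩ := ((Submodule.factor_surjective
        (le_sup_left : r.asIdeal ≤ r.asIdeal ⊔ Ideal.span {g})).comp e.surjective) z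
      exact ⟨⟨n, by rw [hf0]; exact LinearMap.mem_ker.2 rfl⟩, hn⟩
    refine LinearEquiv.length_eq ((Submodule.quotEquivOfEq _ _ ?_).trans (χ.quotKerEquivOfSurjective hsurj))
    ext ⟨n, hn⟩
    obtain ⟨z, hz⟩ := Ideal.Quotient.mk_surjective (e n)
    have hψ : ψ n = Ideal.Quotient.mk _ z := by
      show Submodule.factor (le_sup_left : r.asIdeal ≤ r.asIdeal ⊔ Ideal.span {g}) (e n) = _
      rw [← hz]; rfl
    rw [show (⟨n, hn⟩ : LinearMap.ker (mulA A f N)) ∈ (LinearMap.range (mulA A g N)).submoduleOf _ ↔ n ∈ LinearMap.range (mulA A g N) from Iff.rfl, LinearMap.mem_ker, show χ ⟨n, hn⟩ = ψ n from rfl, hψ,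
      Ideal.Quotient.eq_zero_iff_mem]
    constructor
    · rintro ⟨k, hk⟩
      obtain ⟨c, hc⟩ := Ideal.Quotient.mk_surjective (e k)
      have h' : Ideal.Quotient.mk r.asIdeal z = Ideal.Quotient.mk r.asIdeal (g * c) := by
        rw [hz, ← show g • k = n from hk, map_smul, ← hc, Algebra.smul_def, Ideal.Quotient.algebraMap_eq, map_mul]
      rw [Ideal.Quotient.eq] at h'
      have := add_mem (Ideal.mem_sup_left (T := Ideal.span {g}) h')
        (Ideal.mem_sup_right (S := r.asIdeal) (Ideal.mem_span_singleton'.2 ⟨c, mul_comm c g⟩ : g * c ∈ Ideal.span {g}))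
      simpa using this
    · intro hz'
      obtain ⟨w, hw, v, hv, rfl⟩ := Submodule.mem_sup.1 hz'
      obtain ⟨c, rfl⟩ := Ideal.mem_span_singleton'.1 hv
      refine ⟨e.symm (Ideal.Quotient.mk _ c), e.injective ?_⟩
      show e (g • e.symm (Ideal.Quotient.mk _ c)) = e n
      rw [map_smul, LinearEquiv.apply_symm_apply, ← hz, map_add, Ideal.Quotient.eq_zero_iff_mem.2 hw, zero_add,
        Algebra.smul_def, Ideal.Quotient.algebraMap_eq, mul_comm c g, map_mul]
  refine ⟨⟨by rw [h2]; exact cf_finite hr hg, by rw [h1]; exact WithTop.coe_lt_top 0⟩, ?_⟩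
  rw [he, herbrand, h1, h2, cf]
  simp

theorem he_prime {r : PrimeSpectrum C} (hr : Curve r) {f g : C} (hfg : f * g ∈ r.asIdeal)
    (hcop : f ∉ r.asIdeal ∨ g ∉ r.asIdeal)
    (N : Type u) [AddCommGroup N] [Module C N] [Module A N] [IsScalarTower A C N] (e : N ≃ₗ[C] C ⧸ r.asIdeal) :
    HFin A f g N ∧ he A f g N = eps A r f g := by
  by_cases hf : f ∈ r.asIdeal
  · rw [eps_mem hf]
    exact he_prime_left hr hf (hcop.resolve_left (not_not.2 hf)) N e
  · rw [eps_not_mem hf, he_swap]
    obtain ⟨h1, h2⟩ := he_prime_left (A := A) hr ((r.2.mem_or_mem hfg).resolve_left hf) hf N e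
    exact ⟨⟨h1.2, h1.1⟩, by rw [h2]⟩

/-- The master formula. -/
theorem he_eq_sum (P : Finset (PrimeSpectrum C)) (hP : ∀ r ∈ P, Curve r) {f g : C}
    (hcop : ∀ r ∈ P, f ∉ r.asIdeal ∨ g ∉ r.asIdeal)
    (M : Type u) [AddCommGroup M] [Module C M] [Module.Finite C M] [Module A M] [IsScalarTower A C M]
    (hsupp : ∀ q : PrimeSpectrum C, Module.annihilator C M ≤ q.asIdeal → q.asIdeal.IsMaximal ∨ q ∈ P)
    (hfg : f * g ∈ Module.annihilator C M) :
    HFin A f g M ∧ (∀ r ∈ P, lenAt r M < ⊤) ∧ he A f g M = ∑ r ∈ P, ((lenAt r M).toNat : ℤ) * eps A r f g := by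
  classical
  haveI := isNoetherian_C A (C := C)
  revert hsupp hfg
  refine IsNoetherianRing.induction_on_isQuotientEquivQuotientPrime (A := C)
    (motive := fun N _ _ _ => ∀ [Module A N] [IsScalarTower A C N],
      (∀ q : PrimeSpectrum C, Module.annihilator C N ≤ q.asIdeal → q.asIdeal.IsMaximal ∨ q ∈ P) →
      f * g ∈ Module.annihilator C N →
      HFin A f g N ∧ (∀ r ∈ P, lenAt r N < ⊤) ∧ he A f g N = ∑ r ∈ P, ((lenAt r N).toNat : ℤ) * eps A r f g)
    inferInstance ?_ ?_ ?_
  · intro N _ _ _ _ _ _ _ hfg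
    have hN : Module.length A N = 0 := Module.length_eq_zero
    obtain ⟨h1, h2⟩ := finite_length (mulA A f N) (mulA A g N) (periodic A hfg)
      (by rw [hN]; exact WithTop.coe_lt_top 0) (by rw [hN]; exact WithTop.coe_lt_top 0)
    refine ⟨h1, fun r _ => by rw [lenAt_eq_zero_of_subsingleton]; exact WithTop.coe_lt_top 0, ?_⟩
    rw [he, h2, sub_self]
    exact (Finset.sum_eq_zero fun r _ => by rw [lenAt_eq_zero_of_subsingleton]; simp).symm
  · intro N _ _ _ q e _ _ hsupp hfg
    have hann : Module.annihilator C N = q.asIdeal := by rw [e.annihilator_eq, Ideal.annihilator_quotient]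
    have hlen : ∀ r ∈ P, lenAt r N = if r = q then 1 else 0 := fun r hr => by
      rw [lenAt_congr r e]
      split_ifs with h
      · subst h; exact lenAt_quot_self r
      · refine lenAt_quot_of_not_le fun hle => h ?_
        rcases hsupp q hann.le with hm | hq
        · exact absurd (hm.eq_of_le r.2.ne_top hle ▸ hm) (hP r hr).1
        · exact ((hP q hq).eq_of_le (hP r hr) hle).symm
    have hsum : ∑ r ∈ P, ((lenAt r N).toNat : ℤ) * eps A r f g = if q ∈ P then eps A q f g else 0 := by
      rw [Finset.sum_congr rfl fun r hr => show ((lenAt r N).toNat : ℤ) * eps A r f g =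
        if r = q then eps A r f g else 0 by rw [hlen r hr]; split_ifs <;> simp, Finset.sum_ite_eq']
    have hfin : ∀ r ∈ P, lenAt r N < ⊤ := fun r hr => by
      rw [hlen r hr]; split_ifs <;> exact WithTop.coe_lt_top _
    rw [hsum]
    by_cases hq : q ∈ P
    · obtain ⟨h1, h2⟩ := he_prime (A := A) (hP q hq) (hann ▸ hfg) (hcop q hq) N e
      exact ⟨h1, hfin, by rw [h2, if_pos hq]⟩
    · haveI : q.asIdeal.IsMaximal := (hsupp q hann.le).resolve_right hq
      have hN : Module.length A N < ⊤ := by
        rw [(e.restrictScalars A).length_eq]; exact length_field A q.asIdeal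
      obtain ⟨h1, h2⟩ := finite_length (mulA A f N) (mulA A g N) (periodic A hfg) hN hN
      exact ⟨h1, hfin, by rw [if_neg hq, he, h2, sub_self]⟩
  · intro N₁ _ _ _ N₂ _ _ _ N₃ _ _ _ φ ψ hφ hψ hex h₁ h₃ _ _ hsupp hfg
    letI : Module A N₁ := Module.compHom N₁ (algebraMap A C)
    haveI : IsScalarTower A C N₁ := IsScalarTower.of_algebraMap_smul fun _ _ => rfl
    letI : Module A N₃ := Module.compHom N₃ (algebraMap A C)
    haveI : IsScalarTower A C N₃ := IsScalarTower.of_algebraMap_smul fun _ _ => rfl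
    obtain ⟨a1, a3⟩ := annihilator_le_of_exact φ ψ hφ hψ
    obtain ⟨f1, l1, e1⟩ := h₁ (fun q hq => hsupp q (a1.trans hq)) (a1 hfg)
    obtain ⟨f3, l3, e3⟩ := h₃ (fun q hq => hsupp q (a3.trans hq)) (a3 hfg)
    obtain ⟨-, f2, -, e2⟩ := additive (mulA A f N₁) (mulA A g N₁) (mulA A f N₂) (mulA A g N₂) (mulA A f N₃)
      (mulA A g N₃) (periodic A hfg) (φ.restrictScalars A) (φ.restrictScalars A) (ψ.restrictScalars A)
      (ψ.restrictScalars A) (LinearMap.ext fun x => (map_smul φ f x).symm) (LinearMap.ext fun x => (map_smul φ g x).symm)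
      (LinearMap.ext fun x => (map_smul ψ f x).symm) (LinearMap.ext fun x => (map_smul ψ g x).symm)
      hφ hφ hψ hψ (LinearMap.exact_iff.1 (show Function.Exact (φ.restrictScalars A) (ψ.restrictScalars A) from hex)).symm
      (LinearMap.exact_iff.1 (show Function.Exact (φ.restrictScalars A) (ψ.restrictScalars A) from hex)).symm
      (Or.inr (Or.inl ⟨f1, f3⟩))
    refine ⟨f2, fun r hr => by rw [lenAt_add r φ ψ hφ hψ hex]; exact ENat.add_lt_top.2 ⟨l1 r hr, l3 r hr⟩, ?_⟩
    show herbrand A (mulA A f N₂) (mulA A g N₂) = _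
    rw [e2, show herbrand A (mulA A f N₁) (mulA A g N₁) = he A f g N₁ from rfl,
      show herbrand A (mulA A f N₃) (mulA A g N₃) = he A f g N₃ from rfl, e1, e3, ← Finset.sum_add_distrib]
    refine Finset.sum_congr rfl fun r hr => ?_
    rw [lenAt_add r φ ψ hφ hψ hex, ENat.toNat_add (l1 r hr).ne (l3 r hr).ne, Nat.cast_add, add_mul]

end AL

end Groth.Agent.TameCh
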