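import Groth.Agent.TameCh.Glue
import Groth.Agent.TameCh.Local
import Groth.Agent.S6312
import Groth.Agent.CommonFactor.Basic
import Groth.Prelude.Def_Tame

/-!
Existence of modifications making finitely many elements powers of one element at each maximal ideal.
-/

set_option autoImplicit false
set_option linter.style.haveILetI false

universe u

noncomputable section

namespace Groth.Agent.TameCh

open CycAlg IsLocalRing Groth.Agent.CycHex

/-- All elements of `S` are powers of one element up to units, at each maximal ideal of some finite modification. -/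
def Split (A : Type u) [CommRing A] [IsLocalRing A] (S : Set A) : Prop :=
  ∃ (B : Type u) (_ : CommRing B) (_ : Algebra A B), IsFinExt A B (maximalIdeal A) ∧
    ∀ n : MaximalSpectrum B, ∃ π : Localization.AtPrime n.asIdeal, π ∈ nonZeroDivisors (Localization.AtPrime n.asIdeal) ∧
      ∀ x ∈ S, ∃ (v : (Localization.AtPrime n.asIdeal)ˣ) (e : ℕ),
        algebraMap A (Localization.AtPrime n.asIdeal) x = (v : Localization.AtPrime n.asIdeal) * π ^ e

theorem perH_zero_length {A : Type u} [CommRing A] {C : Type u} [CommRing C] [Algebra A C] (x : C) :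
    Module.length A (perH (0 : C →ₗ[A] C) (mulA A x C)) = Module.length A (C ⧸ Ideal.span {x}) := by
  let χ : LinearMap.ker (0 : C →ₗ[A] C) →ₗ[A] C ⧸ Ideal.span {x} :=
    ((Submodule.mkQ (Ideal.span {x})).restrictScalars A).comp (LinearMap.ker (0 : C →ₗ[A] C)).subtype
  have hs : Function.Surjective χ := fun z => by
    obtain ⟨z, rfl⟩ := Ideal.Quotient.mk_surjective z
    exact ⟨⟨z, rfl⟩, rfl⟩
  refine LinearEquiv.length_eq ((Submodule.quotEquivOfEq _ _ ?_).trans (χ.quotKerEquivOfSurjective hs))
  ext ⟨z, hz⟩
  show z ∈ LinearMap.range (mulA A x C) ↔ Ideal.Quotient.mk (Ideal.span {x}) z = 0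
  rw [Ideal.Quotient.eq_zero_iff_mem, Ideal.mem_span_singleton']
  exact ⟨fun ⟨c, hc⟩ => ⟨c, by rw [mul_comm]; exact hc⟩, fun ⟨c, hc⟩ => ⟨c, by rw [← hc]; exact mul_comm x c⟩⟩

section Ext

variable {A : Type u} [CommRing A] [IsNoetherianRing A] [IsLocalRing A] {A' : Type u} [CommRing A'] [Algebra A A']
  [Module.Finite A A']

omit [IsNoetherianRing A] [Module.Finite A A'] in
theorem nonZeroDivisor_image (hinj : Function.Injective (algebraMap A A')) {k : ℕ}
    (hk : ∀ r ∈ maximalIdeal A ^ k, ∀ b : A', r • b ∈ (algebraMap A A').range)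
    {a : A} (ha : a ∈ maximalIdeal A) (ha' : algebraMap A A' a ∈ nonZeroDivisors A') {x : A}
    (hx : x ∈ nonZeroDivisors A) : algebraMap A A' x ∈ nonZeroDivisors A' := by
  rw [mem_nonZeroDivisors_iff_right]
  intro y hy
  obtain ⟨z, hz⟩ := hk _ (Ideal.pow_mem_pow ha k) y
  have h2 : z * x = 0 := hinj (by rw [map_mul, hz, smul_mul_assoc, hy, smul_zero, map_zero])
  have hz0 : z = 0 := (mem_nonZeroDivisors_iff_right.1 hx) z h2
  rw [hz0, map_zero, Algebra.smul_def, map_pow] at hz
  exact (mem_nonZeroDivisors_iff.1 (pow_mem ha' k)).1 _ hz.symm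

theorem isLocalHom_atPrime {A B : Type u} [CommRing A] [IsLocalRing A] [CommRing B] [Algebra A B]
    (hB : IsFinExt A B (maximalIdeal A)) (n : MaximalSpectrum B) :
    IsLocalHom (algebraMap A (Localization.AtPrime n.asIdeal)) := by
  haveI := hB.2.1
  haveI : Algebra.IsIntegral A B := Algebra.IsIntegral.of_finite A B
  haveI := n.isMaximal
  refine ⟨fun x hx => ?_⟩
  rw [IsScalarTower.algebraMap_apply A B (Localization.AtPrime n.asIdeal),
    IsLocalization.AtPrime.isUnit_to_map_iff (Localization.AtPrime n.asIdeal) n.asIdeal] at hx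
  by_contra hu
  refine hx ?_
  have hm := IsLocalRing.eq_maximalIdeal (Ideal.isMaximal_comap_of_isIntegral_of_isMaximal (R := A) n.asIdeal)
  exact show x ∈ n.asIdeal.comap (algebraMap A B) from hm.symm ▸ (mem_maximalIdeal _).2 hu

theorem isMaximal_of_mem {R : Type u} [CommRing R] [Ring.KrullDimLE 1 R] (P : Ideal R) [hP : P.IsPrime] {x : R}
    (hx : x ∈ nonZeroDivisors R) (hxP : x ∈ P) : P.IsMaximal :=
  ((Ring.krullDimLE_one_iff.1 inferInstance) P hP).resolve_left fun h =>
    Set.disjoint_left.1 (Ideal.disjoint_nonZeroDivisors_of_mem_minimalPrimes h) hxP hx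

theorem length_le_restrict {R S M : Type u} [CommRing R] [CommRing S] [Algebra R S] [AddCommGroup M] [Module R M]
    [Module S M] [IsScalarTower R S M] : Module.length S M ≤ Module.length R M := by
  have h := Submodule.length_le_length_restrictScalars R (⊤ : Submodule S M)
  rwa [Module.length_top, Submodule.restrictScalars_top, Module.length_top] at h

/-- A finite modification does not change the length cut out by a regular element. -/
theorem length_quot_map (hA : ringKrullDim A = 1) (hinj : Function.Injective (algebraMap A A')) {k : ℕ}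
    (hk : ∀ r ∈ maximalIdeal A ^ k, ∀ b : A', r • b ∈ (algebraMap A A').range) {x : A} (hx : x ∈ nonZeroDivisors A)
    (hx' : algebraMap A A' x ∈ nonZeroDivisors A') :
    Module.length A (A' ⧸ Ideal.span {algebraMap A A' x}) < ⊤ ∧
      (Module.length A (A' ⧸ Ideal.span {algebraMap A A' x})).toNat = (Module.length A (A ⧸ Ideal.span {x})).toNat := by
  haveI : Algebra.IsIntegral A A' := Algebra.IsIntegral.of_finite A A'
  have hfin : Module.length A (A ⧸ Ideal.span {x}) < ⊤ :=
    (Module.length_ne_top_iff.2 (CommonFactor.isFiniteLength_quot hA x hx)).lt_top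
  have hfin' : Module.length A (A' ⧸ Ideal.span {algebraMap A A' x}) < ⊤ := by
    refine length_lt_top_of_support (C := A') A _ fun q hq => ?_
    rw [Ideal.annihilator_quotient] at hq
    have hxq : x ∈ q.asIdeal.comap (algebraMap A A') := hq (Ideal.mem_span_singleton_self _)
    refine Ideal.isMaximal_of_isIntegral_of_isMaximal_comap (R := A) q.asIdeal ?_
    haveI : Ring.KrullDimLE 1 A := Ring.krullDimLE_iff.2 hA.le
    exact isMaximal_of_mem _ hx hxq
  have hzero : ∀ {C : Type u} [CommRing C] [Algebra A C] {y : C}, y ∈ nonZeroDivisors C →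
      Module.length A (perH (mulA A y C) (0 : C →ₗ[A] C)) = 0 := by
    intro C _ _ y hy
    haveI : Subsingleton (LinearMap.ker (mulA A y C)) :=
      subsingleton_of_forall_eq 0 fun m => Subtype.ext ((mem_nonZeroDivisors_iff.1 hy).1 m.1 m.2)
    haveI : Subsingleton (perH (mulA A y C) (0 : C →ₗ[A] C)) := (Submodule.Quotient.mk_surjective _).subsingleton
    exact Module.length_eq_zero
  have hF : FinCoh A (0 : A →ₗ[A] A) (mulA A x A) :=
    ⟨by rw [perH_zero_length]; exact hfin, by rw [hzero hx]; exact WithTop.coe_lt_top 0⟩
  have hF' : FinCoh A (0 : A' →ₗ[A] A') (mulA A (algebraMap A A' x) A') :=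
    ⟨by rw [perH_zero_length]; exact hfin', by rw [hzero hx']; exact WithTop.coe_lt_top 0⟩
  have hcoker : Module.length A (A' ⧸ LinearMap.range (Algebra.linearMap A A')) < ⊤ := by
    refine length_lt_top_of_support (C := A) A _ fun q hq => ?_
    have hle : maximalIdeal A ^ k ≤ q.asIdeal := fun r hr => hq (Module.mem_annihilator.2 fun z => by
      obtain ⟨z, rfl⟩ := Submodule.Quotient.mk_surjective _ z
      rw [← Submodule.Quotient.mk_smul, Submodule.Quotient.mk_eq_zero]
      exact hk r hr z)
    rw [eq_comm.1 ((maximalIdeal.isMaximal A).eq_of_le q.2.ne_top (q.2.le_of_pow_le hle))]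
    exact maximalIdeal.isMaximal A
  have hker : Module.length A (LinearMap.ker (Algebra.linearMap A A')) < ⊤ := by
    haveI : Subsingleton (LinearMap.ker (Algebra.linearMap A A')) :=
      subsingleton_of_forall_eq 0 fun m => Subtype.ext (hinj (m.2.trans (map_zero _).symm))
    rw [Module.length_eq_zero]
    exact WithTop.coe_lt_top 0
  have h := of_finite_ker_coker (0 : A →ₗ[A] A) (mulA A x A) (0 : A' →ₗ[A] A') (mulA A (algebraMap A A' x) A')
    ⟨LinearMap.zero_comp _, LinearMap.comp_zero _⟩ ⟨LinearMap.zero_comp _, LinearMap.comp_zero _⟩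
    (Algebra.linearMap A A') (by ext; simp) (LinearMap.ext fun z => (map_mul (algebraMap A A') x z).symm) hF hF' hker hcoker
  simp only [herbrand, perH_zero_length, hzero hx, hzero hx', ENat.toNat_zero, Nat.cast_zero, sub_zero] at h
  exact ⟨hfin', by exact_mod_cast h.symm⟩

end Ext

section Split

theorem tower2 {A Q C E : Type u} (T : Type u) [CommRing A] [CommRing Q] [CommRing C] [CommRing E] [CommRing T]
    [Algebra A Q] [Algebra A C] [Algebra A E] [Algebra Q E] [Algebra C E] [Algebra E T] [Algebra Q T] [Algebra C T]
    [IsScalarTower A Q E] [IsScalarTower A C E] [IsScalarTower Q E T] [IsScalarTower C E T] (z : A) :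
    algebraMap C T (algebraMap A C z) = algebraMap Q T (algebraMap A Q z) := by
  rw [IsScalarTower.algebraMap_apply C E T, ← IsScalarTower.algebraMap_apply A C E,
    IsScalarTower.algebraMap_apply A Q E, ← IsScalarTower.algebraMap_apply Q E T]

set_option maxHeartbeats 3200000 in
/-- Every finite list of regular nonunits splits. -/
theorem split_list (N : ℕ) : ∀ (A : Type u) [CommRing A] [IsNoetherianRing A] [IsLocalRing A],
    ringKrullDim A = 1 → ∀ L : List A, (∀ x ∈ L, x ∈ nonZeroDivisors A ∧ ¬ IsUnit x) →
      (L.map fun x => (Module.length A (A ⧸ Ideal.span {x})).toNat).sum = N → Split A {x | x ∈ L} := by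
  induction N using Nat.strong_induction_on with
  | _ N IH =>
    intro A _ _ _ hA L hL hsum
    have htriv : ∀ π ∈ nonZeroDivisors A, (∀ x ∈ L, x = π) → Split A {x | x ∈ L} := by
      intro π hπ h
      refine ⟨A, inferInstance, Algebra.id A, ⟨Function.injective_id, Module.Finite.self A, 0, fun r _ z => ⟨r • z, rfl⟩⟩,
        fun n => ⟨algebraMap A _ π, IsLocalization.map_nonZeroDivisors_le n.asIdeal.primeCompl _ ⟨π, hπ, rfl⟩,
          fun x hx => ⟨1, 1, by rw [h x hx, Units.val_one, one_mul, pow_one]⟩⟩⟩
    match L, hL, hsum, htriv with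
    | [], _, _, htriv => exact htriv 1 (one_mem _) (by simp)
    | [a], hL, _, htriv => exact htriv a (hL a (by simp)).1 (by simp)
    | a :: b :: L', hL, hsum, _ =>
      obtain ⟨⟨ha, hau⟩, ⟨hb, hbu⟩⟩ := And.intro (hL a (by simp)) (hL b (by simp))
      obtain ⟨A', _, _, ⟨hinj, hfin, k, hk⟩, t, a', b', ht, ha', hb', hta, htb, hcop⟩ :=
        CommonFactor.exists_common_factor hA a b ha hb
      haveI := hfin
      haveI := isNoetherian_C A (C := A')
      haveI : Algebra.IsIntegral A A' := Algebra.IsIntegral.of_finite A A'
      have ham : a ∈ maximalIdeal A := (mem_maximalIdeal _).2 hau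
      have haA' : algebraMap A A' a ∈ nonZeroDivisors A' := hta ▸ mul_mem ht ha'
      have hnz : ∀ {x : A}, x ∈ nonZeroDivisors A → algebraMap A A' x ∈ nonZeroDivisors A' := fun hx =>
        nonZeroDivisor_image hinj hk ham haA' hx
      have hdimA' : ringKrullDim A' ≤ 1 := (Order.krullDim_le_of_strictMono
        (fun p : PrimeSpectrum A' => PrimeSpectrum.comap (algebraMap A A') p) fun p p' h => by
          obtain ⟨z, hz, hzn⟩ := SetLike.exists_of_lt (show p.asIdeal < p'.asIdeal from h)
          exact Ideal.comap_lt_comap_of_integral_mem_sdiff h.le ⟨hz, hzn⟩ (Algebra.IsIntegral.isIntegral z)).trans hA.le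
      haveI : Ring.KrullDimLE 1 A' := Ring.krullDimLE_iff.2 hdimA'
      have hmin : ∀ n : MaximalSpectrum A', n.asIdeal ∈ (Ideal.span {algebraMap A A' a}).minimalPrimes := by
        intro n
        haveI := n.isMaximal
        have hm : n.asIdeal.comap (algebraMap A A') = maximalIdeal A :=
          IsLocalRing.eq_maximalIdeal (Ideal.isMaximal_comap_of_isIntegral_of_isMaximal n.asIdeal)
        have hmem : algebraMap A A' a ∈ n.asIdeal := show a ∈ n.asIdeal.comap _ from hm.symm ▸ ham
        refine ⟨⟨n.isMaximal.isPrime, (Ideal.span_singleton_le_iff_mem _).2 hmem⟩, fun p hp hle => ?_⟩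
        haveI := hp.1
        exact ((isMaximal_of_mem p haA' (hp.2 (Ideal.mem_span_singleton_self _))).eq_of_le n.isMaximal.ne_top hle).ge
      haveI : Finite (MaximalSpectrum A') :=
        haveI := ((Ideal.span {algebraMap A A' a}).finite_minimalPrimes_of_isNoetherianRing A').to_subtype
        Finite.of_injective
          (fun n : MaximalSpectrum A' => (⟨n.asIdeal, hmin n⟩ : (Ideal.span {algebraMap A A' a}).minimalPrimes))
          fun n m h => MaximalSpectrum.ext (congrArg Subtype.val h)
      have hrec : ∀ n : MaximalSpectrum A', ∃ (E : Type u) (_ : CommRing E) (_ : Algebra (Localization.AtPrime n.asIdeal) E),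
          IsFinExt (Localization.AtPrime n.asIdeal) E (maximalIdeal _) ∧
            ∀ m : MaximalSpectrum E, ∃ π : Localization.AtPrime m.asIdeal, π ∈ nonZeroDivisors (Localization.AtPrime m.asIdeal) ∧
              ∀ x ∈ a :: b :: L', ∃ (v : (Localization.AtPrime m.asIdeal)ˣ) (e : ℕ),
                algebraMap (Localization.AtPrime n.asIdeal) (Localization.AtPrime m.asIdeal)
                  (algebraMap A' (Localization.AtPrime n.asIdeal) (algebraMap A A' x)) =
                    (v : Localization.AtPrime m.asIdeal) * π ^ e := by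
        intro n
        classical
        let T := Localization.AtPrime n.asIdeal
        have hT : ringKrullDim T = 1 := by
          refine le_antisymm ?_ ?_
          · rw [IsLocalization.AtPrime.ringKrullDim_eq_height n.asIdeal T]
            exact le_trans (Ideal.height_le_ringKrullDim_of_ne_top n.isMaximal.ne_top) hdimA'
          · rw [IsLocalization.AtPrime.ringKrullDim_eq_height n.asIdeal T]
            obtain ⟨p0, hp0, hle⟩ := Ideal.exists_minimalPrimes_le (J := n.asIdeal) (I := (⊥ : Ideal A')) bot_le
            haveI := hp0.1.1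
            have hne : p0 ≠ n.asIdeal := fun he =>
              Set.disjoint_left.1 (Ideal.disjoint_nonZeroDivisors_of_mem_minimalPrimes hp0)
                (show algebraMap A A' a ∈ p0 from he.symm ▸ (hmin n).1.2 (Ideal.mem_span_singleton_self _)) haA'
            have hpos := Ideal.height_strict_mono_of_isPrime_of_isPrime (lt_of_le_of_ne hle hne)
            exact_mod_cast Order.one_le_iff_pos.2 (bot_le.trans_lt hpos)
        let φ : A' →+* T := algebraMap A' T
        have hφ : ∀ {x : A'}, x ∈ nonZeroDivisors A' → φ x ∈ nonZeroDivisors T := fun hx =>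
          IsLocalization.map_nonZeroDivisors_le n.asIdeal.primeCompl _ ⟨_, hx, rfl⟩
        let Ln : List T := (φ t :: φ a' :: φ b' :: L'.map fun x => φ (algebraMap A A' x)).filter fun x => ¬ IsUnit x
        have hLn : ∀ x ∈ Ln, x ∈ nonZeroDivisors T ∧ ¬ IsUnit x := by
          intro x hx
          rw [List.mem_filter] at hx
          refine ⟨?_, by simpa using hx.2⟩
          simp only [List.mem_cons, List.mem_map] at hx
          rcases hx.1 with rfl | rfl | rfl | ⟨z, hz, rfl⟩
          · exact hφ ht
          · exact hφ ha'
          · exact hφ hb'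
          · exact hφ (hnz (hL z (by simp [hz])).1)
        let o : T → ℕ := fun x => (Module.length T (T ⧸ Ideal.span {x})).toNat
        have hdimT : Ring.KrullDimLE 1 T := Ring.krullDimLE_iff.2 hT.le
        have hoT : ∀ {x : T}, x ∈ nonZeroDivisors T → Module.length T (T ⧸ Ideal.span {x}) < ⊤ := fun hx =>
          (Module.length_ne_top_iff.2 (CommonFactor.isFiniteLength_quot hT _ hx)).lt_top
        have ho0 : ∀ x : T, IsUnit x → o x = 0 := fun x hx => by
          haveI : Subsingleton (T ⧸ Ideal.span {x}) :=
            Ideal.Quotient.subsingleton_iff.2 (Ideal.span_singleton_eq_top.2 hx)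
          show (Module.length T (T ⧸ Ideal.span {x})).toNat = 0
          rw [Module.length_eq_zero, ENat.toNat_zero]
        have homul : ∀ {x y : T}, x ∈ nonZeroDivisors T → y ∈ nonZeroDivisors T → o (x * y) = o x + o y := by
          intro x y hx hy
          show (Ring.ord T (x * y)).toNat = (Ring.ord T x).toNat + (Ring.ord T y).toNat
          rw [Ring.ord_mul T hy, ENat.toNat_add (show Ring.ord T x ≠ ⊤ from (hoT hx).ne) (show Ring.ord T y ≠ ⊤ from (hoT hy).ne)]
        have hole : ∀ x : A, x ∈ nonZeroDivisors A →
            o (φ (algebraMap A A' x)) ≤ (Module.length A (A ⧸ Ideal.span {x})).toNat := by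
          intro x hx
          obtain ⟨h1, h2⟩ := length_quot_map hA hinj hk hx (hnz hx)
          rw [← h2]
          refine ENat.toNat_le_toNat (le_trans ?_ (length_le_restrict (R := A) (S := A'))) h1.ne
          show Module.length T (T ⧸ Ideal.span {φ (algebraMap A A' x)}) ≤ _
          rw [← Set.image_singleton, ← Ideal.map_span,
            ← length_localized_quot ⟨n.asIdeal, n.isMaximal.isPrime⟩ (Ideal.span {algebraMap A A' x})]
          exact S6312.result _ _
        have hfilter : ∀ l : List T, ((l.filter fun x => ¬ IsUnit x).map o).sum = (l.map o).sum := by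
          intro l
          induction l with
          | nil => rfl
          | cons x l ih =>
            by_cases hu : IsUnit x
            · rw [List.filter_cons_of_neg (by simpa using hu), List.map_cons, List.sum_cons, ho0 x hu, zero_add, ih]
            · rw [List.filter_cons_of_pos (by simpa using hu)]
              simp only [List.map_cons, List.sum_cons, ih]
        have hL' : ∀ l : List A, (∀ x ∈ l, x ∈ nonZeroDivisors A) →
            ((l.map fun x => φ (algebraMap A A' x)).map o).sum ≤
              (l.map fun x => (Module.length A (A ⧸ Ideal.span {x})).toNat).sum := by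
          intro l hl
          induction l with
          | nil => simp
          | cons x l ih =>
            simp only [List.map_cons, List.sum_cons]
            exact Nat.add_le_add (hole x (hl x (by simp))) (ih fun y hy => hl y (by simp [hy]))
        have hpos : ∀ x : A, x ∈ nonZeroDivisors A → ¬ IsUnit x → 0 < (Module.length A (A ⧸ Ideal.span {x})).toNat := by
          intro x hx hxu
          refine Nat.pos_of_ne_zero fun h => ?_
          rcases ENat.toNat_eq_zero.1 h with h | h
          · haveI := Module.length_eq_zero_iff.1 h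
            exact hxu (Ideal.span_singleton_eq_top.1 (Ideal.Quotient.subsingleton_iff.1 inferInstance))
          · exact Module.length_ne_top_iff.2 (CommonFactor.isFiniteLength_quot hA x hx) h
        have hlt : (Ln.map o).sum < N := by
          rw [← hsum, hfilter]
          simp only [List.map_cons, List.sum_cons]
          have h3 := hL' L' fun x hx => (hL x (by simp [hx])).1
          have hA1 := hole a ha
          have hB1 := hole b hb
          rw [hta, map_mul, homul (hφ ht) (hφ ha')] at hA1
          rw [htb, map_mul, homul (hφ ht) (hφ hb')] at hB1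
          have p1 := hpos a ha hau
          have p2 := hpos b hb hbu
          by_cases hu : IsUnit (φ b')
          · rw [ho0 _ hu]; omega
          · have hu' : IsUnit (φ a') := by
              by_contra hu'
              refine n.isMaximal.ne_top (top_le_iff.1 (hcop.ge.trans (Ideal.span_le.2 ?_)))
              rintro z (rfl | rfl)
              · exact not_not.1 fun h => hu' ((IsLocalization.AtPrime.isUnit_to_map_iff T n.asIdeal _).2 h)
              · exact not_not.1 fun h => hu ((IsLocalization.AtPrime.isUnit_to_map_iff T n.asIdeal _).2 h)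
            rw [ho0 _ hu']; omega
        obtain ⟨E, _, _, hE, hsp⟩ := IH _ hlt T hT Ln hLn rfl
        refine ⟨E, _, _, hE, fun m => ?_⟩
        obtain ⟨π, hπ, hx⟩ := hsp m
        refine ⟨π, hπ, ?_⟩
        have hone : ∀ z ∈ φ t :: φ a' :: φ b' :: (L'.map fun x => φ (algebraMap A A' x)),
            ∃ (v : (Localization.AtPrime m.asIdeal)ˣ) (e : ℕ),
              algebraMap T (Localization.AtPrime m.asIdeal) z = (v : Localization.AtPrime m.asIdeal) * π ^ e := by
          intro z hz
          by_cases hu : IsUnit z
          · exact ⟨(hu.map (algebraMap T (Localization.AtPrime m.asIdeal))).unit, 0, by rw [pow_zero, mul_one]; rfl⟩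
          · exact hx z (List.mem_filter.2 ⟨hz, by simpa using hu⟩)
        have hmul : ∀ y z : A', φ y ∈ φ t :: φ a' :: φ b' :: (L'.map fun x => φ (algebraMap A A' x)) →
            φ z ∈ φ t :: φ a' :: φ b' :: (L'.map fun x => φ (algebraMap A A' x)) →
            ∃ (v : (Localization.AtPrime m.asIdeal)ˣ) (e : ℕ),
              algebraMap T (Localization.AtPrime m.asIdeal) (φ (y * z)) = (v : Localization.AtPrime m.asIdeal) * π ^ e := by
          intro y z hy hz
          obtain ⟨v, e, hv⟩ := hone _ hy
          obtain ⟨w, f, hw⟩ := hone _ hz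
          exact ⟨v * w, e + f, by rw [map_mul, map_mul, hv, hw, Units.val_mul, pow_add]; ring⟩
        intro x hx'
        simp only [List.mem_cons] at hx'
        rcases hx' with rfl | rfl | hx'
        · rw [hta]; exact hmul t a' (by simp) (by simp)
        · rw [htb]; exact hmul t b' (by simp) (by simp)
        · exact hone _ (by simp only [List.mem_cons, List.mem_map]; exact Or.inr (Or.inr (Or.inr ⟨x, hx', rfl⟩)))
      classical
      choose E hEr hEa hE hsp using hrec
      letI : ∀ n, CommRing (E n) := hEr
      letI : ∀ n, Algebra (Localization.AtPrime n.asIdeal) (E n) := hEa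
      letI : ∀ n, Algebra A' (E n) := fun n =>
        ((algebraMap (Localization.AtPrime n.asIdeal) (E n)).comp (algebraMap A' (Localization.AtPrime n.asIdeal))).toAlgebra
      haveI : ∀ n : MaximalSpectrum A', IsScalarTower A' (Localization.AtPrime n.asIdeal) (E n) := fun n =>
        IsScalarTower.of_algebraMap_eq fun _ => rfl
      haveI : ∀ n, Module.Finite (Localization.AtPrime n.asIdeal) (E n) := fun n => (hE n).2.1
      let qq : MaximalSpectrum A' → PrimeSpectrum A' := fun n => ⟨n.asIdeal, n.isMaximal.isPrime⟩
      have htE : ∀ n, algebraMap A' (E n) (algebraMap A A' a) ∈ nonZeroDivisors (E n) := fun n => by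
        rw [mem_nonZeroDivisors_iff_right]
        intro y hy
        refine eq_zero_of_localization y fun m hm => ?_
        obtain ⟨π, hπ, hx⟩ := hsp n ⟨m, hm⟩
        obtain ⟨v, e, hve⟩ := hx a (by simp)
        have h := congrArg (algebraMap (E n) (Localization.AtPrime m)) hy
        rw [map_mul, map_zero, IsScalarTower.algebraMap_apply A' (Localization.AtPrime n.asIdeal) (E n),
          ← IsScalarTower.algebraMap_apply (Localization.AtPrime n.asIdeal) (E n) (Localization.AtPrime m), hve] at h
        exact (mem_nonZeroDivisors_iff_right.1 (mul_mem v.isUnit.mem_nonZeroDivisors (pow_mem hπ e))) _ h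
      have hbd : ∀ n, ∃ K : ℕ, ∀ z : E n, ∃ α, algebraMap A' (E n) (algebraMap A A' a ^ K) * z =
          algebraMap (Localization.AtPrime n.asIdeal) (E n) α := fun n => by
        obtain ⟨K, hK⟩ := (hE n).2.2
        refine ⟨K, fun z => ?_⟩
        obtain ⟨α, hα⟩ := hK _ (Ideal.pow_mem_pow ((IsLocalization.AtPrime.to_map_mem_maximal_iff
          (Localization.AtPrime n.asIdeal) n.asIdeal (algebraMap A A' a)).2
            ((hmin n).1.2 (Ideal.mem_span_singleton_self _))) K) z
        refine ⟨α, ?_⟩
        rw [hα, Algebra.smul_def, IsScalarTower.algebraMap_apply A' (Localization.AtPrime n.asIdeal) (E n), map_pow]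
      obtain ⟨C, hCfin, ⟨K, hK⟩, ψ, hψ⟩ := exists_glue qq E haA'
        (fun n m h => MaximalSpectrum.ext (congrArg PrimeSpectrum.asIdeal h)) hmin (fun n => (hE n).1) htE hbd
      haveI := hCfin
      have hA'C : Function.Injective (algebraMap A' C) := fun y z h =>
        IsLocalization.injective (Localization.Away (algebraMap A A' a)) (Submonoid.powers_le.2 haA')
          (congrArg Subtype.val h)
      letI : Algebra A C := ((algebraMap A' C).comp (algebraMap A A')).toAlgebra
      haveI : IsScalarTower A A' C := IsScalarTower.of_algebraMap_eq fun _ => rfl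
      haveI : Module.Finite A C := Module.Finite.trans A' C
      obtain ⟨j, hj⟩ : ∃ j, maximalIdeal A ^ j ≤ Ideal.span {a ^ K} := by
        refine Ideal.exists_pow_le_of_le_radical_of_fg ?_ (IsNoetherian.noetherian _)
        rw [Ideal.radical_eq_sInf]
        refine le_sInf ?_
        rintro P ⟨hP, hPp⟩
        haveI : P.IsPrime := hPp
        haveI : Ring.KrullDimLE 1 A := Ring.krullDimLE_iff.2 hA.le
        have haP : a ∈ P := hPp.mem_of_pow_mem K (hP (Ideal.mem_span_singleton_self _))
        exact (IsLocalRing.eq_maximalIdeal (isMaximal_of_mem P ha haP)).ge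
      refine ⟨C, inferInstance, inferInstance, ⟨fun y z h => hinj (hA'C h), inferInstance, k + j, fun r hr z => ?_⟩,
        fun n => ?_⟩
      · rw [pow_add] at hr
        refine Submodule.mul_induction_on hr (fun r₁ hr₁ r₂ hr₂ => ?_) fun r₁ r₂ h₁ h₂ => by
          rw [add_smul]; exact add_mem h₁ h₂
        obtain ⟨c, hc⟩ := Ideal.mem_span_singleton'.1 (hj hr₂)
        obtain ⟨w, hw⟩ := hK z
        obtain ⟨d, hd⟩ := hk r₁ hr₁ (algebraMap A A' c * w)
        refine ⟨d, ?_⟩
        rw [IsScalarTower.algebraMap_apply A A' C, hd, ← hc, Algebra.smul_def, Algebra.smul_def,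
          IsScalarTower.algebraMap_apply A A' C (r₁ * (c * a ^ K)), map_mul (algebraMap A A'), map_mul (algebraMap A A'),
          map_mul (algebraMap A' C), map_mul (algebraMap A' C), map_mul (algebraMap A' C), map_mul (algebraMap A' C),
          ← hw, Algebra.smul_def, map_pow (algebraMap A A'), map_pow]
        ring
      · haveI := n.isMaximal
        haveI : Algebra.IsIntegral A' C := Algebra.IsIntegral.of_finite A' C
        have hm : (n.asIdeal.comap (algebraMap A' C)).IsMaximal := Ideal.isMaximal_comap_of_isIntegral_of_isMaximal n.asIdeal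
        let n0 : MaximalSpectrum A' := ⟨_, hm⟩
        letI : Algebra C (E n0) := (ψ n0).toRingHom.toAlgebra
        haveI : IsScalarTower A' C (E n0) := IsScalarTower.of_algebraMap_eq fun z => ((ψ n0).commutes z).symm
        haveI hloc : IsLocalization (Algebra.algebraMapSubmonoid C n0.asIdeal.primeCompl) (E n0) := hψ n0
        haveI : Algebra.IsIntegral (Localization.AtPrime n0.asIdeal) (E n0) := Algebra.IsIntegral.of_finite _ _
        have hdis : Disjoint (Algebra.algebraMapSubmonoid C n0.asIdeal.primeCompl : Set C) n.asIdeal := by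
          rw [Set.disjoint_left]
          rintro _ ⟨c, hc, rfl⟩ hmem
          exact hc hmem
        have hp : (n.asIdeal.map (algebraMap C (E n0))).IsPrime :=
          IsLocalization.isPrime_of_isPrime_disjoint _ (E n0) n.asIdeal n.isMaximal.isPrime hdis
        have hcm : (n.asIdeal.map (algebraMap C (E n0))).comap (algebraMap C (E n0)) = n.asIdeal :=
          IsLocalization.comap_map_of_isPrime_disjoint _ (E n0) n.isMaximal.isPrime hdis
        have hmax : (n.asIdeal.map (algebraMap C (E n0))).IsMaximal := by
          refine Ideal.isMaximal_of_isIntegral_of_isMaximal_comap (R := Localization.AtPrime n0.asIdeal) _ ?_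
          rw [show (n.asIdeal.map (algebraMap C (E n0))).comap (algebraMap (Localization.AtPrime n0.asIdeal) (E n0)) =
            maximalIdeal _ from ?_]
          · exact maximalIdeal.isMaximal _
          · refine (IsLocalization.map_comap n0.asIdeal.primeCompl _ _).symm.trans ?_
            simp only [Ideal.under]
            rw [Ideal.comap_comap, ← IsScalarTower.algebraMap_eq, IsScalarTower.algebraMap_eq A' C (E n0),
              ← Ideal.comap_comap, hcm]
            exact Localization.AtPrime.map_eq_maximalIdeal
        let mm : MaximalSpectrum (E n0) := ⟨_, hmax⟩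
        obtain ⟨π, hπ, hx⟩ := hsp n0 mm
        haveI h2 : IsLocalization.AtPrime (Localization.AtPrime mm.asIdeal) (mm.asIdeal.comap (algebraMap C (E n0))) :=
          IsLocalization.isLocalization_isLocalization_atPrime_isLocalization
            (Algebra.algebraMapSubmonoid C n0.asIdeal.primeCompl) (Localization.AtPrime mm.asIdeal) mm.asIdeal
        haveI : IsLocalization.AtPrime (Localization.AtPrime mm.asIdeal) n.asIdeal := by
          convert! h2 using 2
          exact hcm.symm
        let e : Localization.AtPrime n.asIdeal ≃ₐ[C] Localization.AtPrime mm.asIdeal :=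
          IsLocalization.algEquiv n.asIdeal.primeCompl _ _
        refine ⟨e.symm π, ?_, fun x hx' => ?_⟩
        · rw [mem_nonZeroDivisors_iff_right]
          intro y hy
          refine e.injective ?_
          rw [map_zero]
          refine mem_nonZeroDivisors_iff_right.1 hπ _ ?_
          simpa using congrArg e hy
        · obtain ⟨v, p, hv⟩ := hx x hx'
          refine ⟨Units.map (e.symm : _ →* _) v, p, e.injective ?_⟩
          rw [map_mul, map_pow, e.apply_symm_apply, IsScalarTower.algebraMap_apply A C (Localization.AtPrime n.asIdeal),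
            e.commutes]
          show _ = e (e.symm (v : Localization.AtPrime mm.asIdeal)) * π ^ p
          rw [e.apply_symm_apply, ← hv]
          exact tower2 (Q := Localization.AtPrime n0.asIdeal) (E := E n0) (Localization.AtPrime mm.asIdeal)
            (algebraMap A A' x)

/-- Every finite family of regular elements, one of them not invertible, splits. -/
theorem split_family {A : Type u} [CommRing A] [IsNoetherianRing A] [IsLocalRing A] (hA : ringKrullDim A = 1)
    (L : List A) (hL : ∀ x ∈ L, x ∈ nonZeroDivisors A) : Split A {x | x ∈ L} := by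
  classical
  obtain ⟨B, _, _, hB, hsp⟩ := split_list _ A hA (L.filter fun x => ¬ IsUnit x) (fun x hx => by
    rw [List.mem_filter] at hx
    exact ⟨hL x hx.1, by simpa using hx.2⟩) rfl
  refine ⟨B, _, _, hB, fun n => ?_⟩
  obtain ⟨π, hπ, hx⟩ := hsp n
  refine ⟨π, hπ, fun x hxL => ?_⟩
  by_cases hu : IsUnit x
  · exact ⟨(hu.map (algebraMap A (Localization.AtPrime n.asIdeal))).unit, 0, by rw [pow_zero, mul_one]; rfl⟩
  · exact hx x (List.mem_filter.2 ⟨hxL, by simpa using hu⟩)

/-- Tame data exist. -/
theorem nonempty_tameData {A : Type u} [CommRing A] [IsNoetherianRing A] [IsLocalRing A] (hA : ringKrullDim A = 1)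
    (a b : A) (ha : a ∈ nonZeroDivisors A) (hb : b ∈ nonZeroDivisors A) : Nonempty (TameData A a b) := by
  classical
  obtain ⟨B, _, _, hB, hsp⟩ := split_family hA [a, b] (by simp [ha, hb])
  choose π hπ hx using hsp
  choose v e hve using fun n => hx n a (by simp)
  choose w f hwf using fun n => hx n b (by simp)
  exact ⟨{ B := B, isFinExt := hB, isLocalHom := fun n => isLocalHom_atPrime hB n, π := π, π_mem := hπ, u₁ := v,
           u₂ := w, e₁ := e, e₂ := f, fac₁ := hve, fac₂ := hwf }⟩

end Split

end Groth.Agent.TameCh
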