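import Mathlib

/-!
Gluing algebras given at finitely many closed points with the base ring away from them.
-/

set_option autoImplicit false
set_option linter.style.haveILetI false

universe u

noncomputable section

namespace Groth.Agent.TameCh.Points

variable {A : Type u} [CommRing A] {r s : ℕ} (f : Fin s → A) (B : Fin r → Type u) [∀ i, CommRing (B i)]
  [∀ i, Algebra A (B i)]

/-- The ambient product. -/
abbrev Amb : Type u := (∀ i, B i) × (∀ j, Localization.Away (f j))

/-- The overlap of a point and an open. -/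
abbrev PJ (i : Fin r) (j : Fin s) : Type u := Localization.Away (algebraMap A (B i) (f j))

/-- The map from an open to an overlap. -/
def toPJ (i : Fin r) (j : Fin s) : Localization.Away (f j) →ₐ[A] PJ f B i j :=
  IsLocalization.Away.liftAlgHom (x := f j)
    (f := (IsScalarTower.toAlgHom A (B i) (PJ f B i j)).comp (Algebra.ofId A (B i)))
    (IsLocalization.Away.algebraMap_isUnit (algebraMap A (B i) (f j)))

theorem isUnit_left (j l : Fin s) : IsUnit (algebraMap A (Localization.Away (f j * f l)) (f j)) :=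
  isUnit_of_dvd_unit (map_dvd _ (dvd_mul_right _ _)) (IsLocalization.Away.algebraMap_isUnit (f j * f l))

theorem isUnit_right (j l : Fin s) : IsUnit (algebraMap A (Localization.Away (f j * f l)) (f l)) :=
  isUnit_of_dvd_unit (map_dvd _ (dvd_mul_left _ _)) (IsLocalization.Away.algebraMap_isUnit (f j * f l))

/-- The left restriction. -/
def resL (j l : Fin s) : Localization.Away (f j) →ₐ[A] Localization.Away (f j * f l) :=
  IsLocalization.Away.liftAlgHom (x := f j) (f := Algebra.ofId A _) (isUnit_left f j l)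

/-- The right restriction. -/
def resR (j l : Fin s) : Localization.Away (f l) →ₐ[A] Localization.Away (f j * f l) :=
  IsLocalization.Away.liftAlgHom (x := f l) (f := Algebra.ofId A _) (isUnit_right f j l)

/-- The glued algebra. -/
def C : Subalgebra A (Amb f B) where
  carrier := {y | (∀ i j, algebraMap (B i) (PJ f B i j) (y.1 i) = toPJ f B i j (y.2 j)) ∧
    ∀ j l, resL f j l (y.2 j) = resR f j l (y.2 l)}
  mul_mem' := fun {x y} hx hy => ⟨fun i j => by simp [hx.1 i j, hy.1 i j], fun j l => by simp [hx.2 j l, hy.2 j l]⟩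
  one_mem' := ⟨fun i j => by simp, fun j l => by simp⟩
  add_mem' := fun {x y} hx hy => ⟨fun i j => by simp [hx.1 i j, hy.1 i j], fun j l => by simp [hx.2 j l, hy.2 j l]⟩
  zero_mem' := ⟨fun i j => by simp, fun j l => by simp⟩
  algebraMap_mem' := fun a => ⟨fun i j => by
      show algebraMap (B i) (PJ f B i j) (algebraMap A (B i) a) = toPJ f B i j (algebraMap A _ a)
      rw [AlgHom.commutes, ← IsScalarTower.algebraMap_apply],
    fun j l => by
      show resL f j l (algebraMap A _ a) = resR f j l (algebraMap A _ a)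
      rw [AlgHom.commutes, AlgHom.commutes]⟩

/-- The projection to a point. -/
def pr (i : Fin r) : C f B →ₐ[A] B i :=
  (Pi.evalAlgHom A B i).comp ((AlgHom.fst A (∀ i, B i) (∀ j, Localization.Away (f j))).comp (C f B).val)

theorem resR_kill {j l : Fin s} {z : Localization.Away (f l)} (h : resR f j l z = 0) : ∃ e, f j ^ e • z = 0 := by
  obtain ⟨p, a, hz⟩ := IsLocalization.Away.surj (f l) z
  have h1 : algebraMap A (Localization.Away (f j * f l)) a = 0 := by
    rw [← (resR f j l).commutes a, ← hz, map_mul, h, zero_mul]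
  obtain ⟨⟨_, e, rfl⟩, he⟩ := (IsLocalization.map_eq_zero_iff (Submonoid.powers (f j * f l)) _ a).1 h1
  refine ⟨e, ((IsLocalization.Away.algebraMap_isUnit (f l)).pow (p + e)).mul_left_eq_zero.1 ?_⟩
  calc f j ^ e • z * algebraMap A (Localization.Away (f l)) (f l) ^ (p + e)
      = algebraMap A (Localization.Away (f l)) ((f j * f l) ^ e) *
          (z * algebraMap A (Localization.Away (f l)) (f l) ^ p) := by
        rw [Algebra.smul_def, map_pow, map_pow, map_mul, mul_pow, pow_add]; ring
    _ = algebraMap A (Localization.Away (f l)) ((f j * f l) ^ e * a) := by rw [hz, ← map_mul]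
    _ = 0 := by rw [show (f j * f l) ^ e * a = 0 from he, map_zero]

theorem alg_kill {i : Fin r} {j : Fin s} {b : B i} (h : algebraMap (B i) (PJ f B i j) b = 0) :
    ∃ e, f j ^ e • b = 0 := by
  obtain ⟨⟨_, e, rfl⟩, he⟩ := (IsLocalization.map_eq_zero_iff (Submonoid.powers (algebraMap A (B i) (f j))) _ b).1 h
  exact ⟨e, by rw [Algebra.smul_def, map_pow]; exact he⟩

/-- An element vanishing on one open is killed there. -/
theorem open_kill {y : C f B} {j : Fin s} (h : (y : Amb f B).2 j = 0) : ∃ e, f j ^ e • y = 0 := by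
  classical
  obtain ⟨h1, h2⟩ := y.2
  choose e he using fun l => resR_kill f (j := j) (l := l) (z := (y : Amb f B).2 l) (by rw [← h2 j l, h, map_zero])
  choose e' he' using fun i => alg_kill f B (i := i) (j := j) (b := (y : Amb f B).1 i) (by rw [h1 i j, h, map_zero])
  refine ⟨∑ l, e l + ∑ i, e' i, Subtype.ext (Prod.ext (funext fun i => ?_) (funext fun l => ?_))⟩
  · obtain ⟨d, hd⟩ := Nat.exists_eq_add_of_le
      ((Finset.single_le_sum (fun i _ => Nat.zero_le (e' i)) (Finset.mem_univ i)).trans (Nat.le_add_left _ (∑ l, e l)))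
    show f j ^ _ • (y : Amb f B).1 i = 0
    rw [hd, add_comm, pow_add, mul_smul, he' i, smul_zero]
  · obtain ⟨d, hd⟩ := Nat.exists_eq_add_of_le
      ((Finset.single_le_sum (fun l _ => Nat.zero_le (e l)) (Finset.mem_univ l)).trans (Nat.le_add_right _ (∑ i, e' i)))
    show f j ^ _ • (y : Amb f B).2 l = 0
    rw [hd, add_comm, pow_add, mul_smul, he l, smul_zero]

/-- Away from the points the algebra is the base. -/
theorem open_range (y : C f B) (j : Fin s) : ∃ (e : ℕ) (a : A), f j ^ e • y = algebraMap A (C f B) a := by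
  obtain ⟨p, a, hz⟩ := IsLocalization.Away.surj (f j) ((y : Amb f B).2 j)
  have h : ((f j ^ p • y - algebraMap A (C f B) a : C f B) : Amb f B).2 j = 0 := by
    show f j ^ p • (y : Amb f B).2 j - algebraMap A (Localization.Away (f j)) a = 0
    rw [sub_eq_zero, ← hz, Algebra.smul_def, map_pow, mul_comm]
  obtain ⟨e, he⟩ := open_kill f B h
  refine ⟨e + p, f j ^ e * a, sub_eq_zero.1 (Eq.trans ?_ he)⟩
  rw [smul_sub, map_mul, ← Algebra.smul_def, pow_add, mul_smul]

/-- A membership can be checked at maximal ideals. -/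
theorem mem_of_local {M : Type u} [AddCommGroup M] [Module A M] (N : Submodule A M) (y : M)
    (h : ∀ P : Ideal A, P.IsMaximal → ∃ c, c ∉ P ∧ c • y ∈ N) : y ∈ N := by
  let I : Ideal A := Submodule.comap (LinearMap.toSpanSingleton A M y) N
  have hI : I = ⊤ := by
    by_contra hne
    obtain ⟨P, hP, hle⟩ := Ideal.exists_le_maximal I hne
    obtain ⟨c, hc, hcy⟩ := h P hP
    exact hc (hle hcy)
  have : (1 : A) ∈ I := hI ▸ trivial
  simpa [I] using this

section Point

variable [IsNoetherianRing A] (m : Fin r → Ideal A) [∀ i, (m i).IsMaximal] (hf : Ideal.span (Set.range f) = ⨅ i, m i)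
  (hinj : Function.Injective m) [∀ i, Algebra (Localization.AtPrime (m i)) (B i)]
  [∀ i, IsScalarTower A (Localization.AtPrime (m i)) (B i)]

omit [IsNoetherianRing A] in
include hf in
theorem mem_point (i : Fin r) (j : Fin s) : f j ∈ m i :=
  (iInf_le m i) (hf ▸ Ideal.subset_span ⟨j, rfl⟩)

omit [IsNoetherianRing A] in
theorem isUnit_point (i : Fin r) {c : A} (hc : c ∉ m i) : IsUnit (algebraMap A (B i) c) := by
  rw [IsScalarTower.algebraMap_apply A (Localization.AtPrime (m i)) (B i)]
  exact (IsLocalization.map_units (Localization.AtPrime (m i)) (⟨c, hc⟩ : (m i).primeCompl)).map _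

omit [IsNoetherianRing A] in
include hinj in
theorem exists_delta (k : Fin r) : ∃ δ, δ ∉ m k ∧ m k * Ideal.span {δ} ≤ ⨅ i, m i := by
  classical
  have hn : ¬ (Finset.univ.erase k).inf m ≤ m k := fun hle => by
    obtain ⟨i, hi, hle'⟩ := (inferInstance : (m k).IsPrime).inf_le'.1 hle
    exact (Finset.mem_erase.1 hi).1 (hinj ((inferInstance : (m i).IsMaximal).eq_of_le (inferInstance : (m k).IsPrime).ne_top hle'))
  obtain ⟨δ, h1, h2⟩ := SetLike.not_le_iff_exists.1 hn
  refine ⟨δ, h2, le_iInf fun i => ?_⟩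
  by_cases hi : i = k
  · subst hi; exact Ideal.mul_le.2 fun x hx y _ => (m i).mul_mem_right y hx
  · exact Ideal.mul_le.2 fun x _ y hy => (m i).mul_mem_left x ((Ideal.span_singleton_le_iff_mem _).2
      (Finset.inf_le (f := m) (Finset.mem_erase.2 ⟨hi, Finset.mem_univ i⟩) h1) hy)

omit [IsNoetherianRing A] in
include hinj in
/-- An element invertible at one point and divisible by high powers at the others. -/
theorem exists_sep (i : Fin r) (M : ℕ) : ∃ c, c ∉ m i ∧ ∀ k, k ≠ i → ∃ d, d ∉ m k ∧ d * c ∈ (⨅ l, m l) ^ M := by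
  classical
  have h : ∀ k, ∃ ε, ε ∉ m i ∧ (k ≠ i → ε ∈ m k ^ M) := fun k => by
    by_cases hk : k = i
    · exact ⟨1, fun h => (inferInstance : (m i).IsPrime).ne_top ((Ideal.eq_top_iff_one _).2 h), fun h => absurd hk h⟩
    · obtain ⟨η, h1, h2⟩ := SetLike.not_le_iff_exists.1 (fun hle : m k ≤ m i =>
        hk (hinj ((inferInstance : (m k).IsMaximal).eq_of_le (inferInstance : (m i).IsPrime).ne_top hle)))
      exact ⟨η ^ M, fun h => h2 ((inferInstance : (m i).IsPrime).mem_of_pow_mem M h), fun _ => Ideal.pow_mem_pow h1 M⟩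
  choose ε hε hε' using h
  refine ⟨∏ k, ε k, fun h => ?_, fun k hk => ?_⟩
  · obtain ⟨k, -, hk⟩ := (inferInstance : (m i).IsPrime).prod_mem_iff.1 h
    exact hε k hk
  · obtain ⟨δ, hδ, hle⟩ := exists_delta m hinj k
    refine ⟨δ ^ M, fun h => hδ ((inferInstance : (m k).IsPrime).mem_of_pow_mem M h), ?_⟩
    rw [← Finset.mul_prod_erase _ _ (Finset.mem_univ k), mul_comm, mul_right_comm]
    refine Ideal.mul_mem_right _ _ ?_
    have := Ideal.mul_mem_mul (hε' k hk) (Ideal.pow_mem_pow (Ideal.mem_span_singleton_self δ) M)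
    rw [← mul_pow] at this
    exact Ideal.pow_right_mono hle M this

variable (hker : ∀ i, ∃ n : ℕ, ∀ x ∈ RingHom.ker (algebraMap (Localization.AtPrime (m i)) (B i)),
    ∀ y ∈ Ideal.map (algebraMap A (Localization.AtPrime (m i))) (m i) ^ n, y * x = 0)

omit [IsNoetherianRing A] in
include hf hker in
theorem base_kill (i : Fin r) (j : Fin s) {a : A} (h : algebraMap A (B i) a = 0) :
    ∃ (c : A) (e : ℕ), c ∉ m i ∧ c * (f j ^ e * a) = 0 := by
  obtain ⟨n, hn⟩ := hker i
  have h1 := hn (algebraMap A _ a) (RingHom.mem_ker.2 (by rwa [← IsScalarTower.algebraMap_apply]))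
    (algebraMap A _ (f j ^ n)) (by rw [map_pow]; exact Ideal.pow_mem_pow (Ideal.mem_map_of_mem _ (mem_point f m hf i j)) n)
  rw [← map_mul] at h1
  obtain ⟨c, hc⟩ := (IsLocalization.map_eq_zero_iff (m i).primeCompl (Localization.AtPrime (m i)) _).1 h1
  exact ⟨c, n, c.2, hc⟩

include hf hinj hker in
/-- An element vanishing at a point is killed there. -/
theorem point_kill {y : C f B} {i : Fin r} (h : pr f B i y = 0) : ∃ c, c ∉ m i ∧ c • y = 0 := by
  classical
  obtain ⟨h1, h2⟩ := y.2
  have hx : ∀ j, ∃ c, c ∉ m i ∧ c • (y : Amb f B).2 j = 0 := by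
    intro j
    obtain ⟨p, a, hz⟩ := IsLocalization.Away.surj (f j) ((y : Amb f B).2 j)
    have h3 : algebraMap (B i) (PJ f B i j) (algebraMap A (B i) a) = 0 := by
      rw [← IsScalarTower.algebraMap_apply, ← (toPJ f B i j).commutes a, ← hz, map_mul, ← h1 i j,
        show (y : Amb f B).1 i = 0 from h, map_zero, zero_mul]
    obtain ⟨e, he⟩ := alg_kill f B h3
    rw [Algebra.smul_def, ← map_mul] at he
    obtain ⟨c, e', hc, hce⟩ := base_kill f B m hf hker i j he
    refine ⟨c, hc, ((IsLocalization.Away.algebraMap_isUnit (f j)).pow (p + e + e')).mul_left_eq_zero.1 ?_⟩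
    calc c • (y : Amb f B).2 j * algebraMap A (Localization.Away (f j)) (f j) ^ (p + e + e')
        = algebraMap A (Localization.Away (f j)) (c * (f j ^ e' * f j ^ e)) *
            ((y : Amb f B).2 j * algebraMap A (Localization.Away (f j)) (f j) ^ p) := by
          rw [Algebra.smul_def, map_mul, map_mul, map_pow, map_pow, pow_add, pow_add]; ring
      _ = 0 := by rw [hz, ← map_mul, mul_assoc c, mul_assoc, hce, map_zero]
  choose c hc hcx using hx
  let c0 := ∏ j, c j
  have hc0 : c0 ∉ m i := fun h => by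
    obtain ⟨j, -, hj⟩ := (inferInstance : (m i).IsPrime).prod_mem_iff.1 h
    exact hc j hj
  have hzero : ∀ j, c0 • (y : Amb f B).2 j = 0 := fun j => by
    rw [show c0 = (∏ l ∈ Finset.univ.erase j, c l) * c j from (Finset.prod_erase_mul _ _ (Finset.mem_univ j)).symm,
      mul_smul, hcx, smul_zero]
  let I : Ideal A :=
    { carrier := {a | ∀ k, a • (c0 • (y : Amb f B).1 k) = 0}
      add_mem' := fun ha hb k => by rw [add_smul, ha k, hb k, add_zero]
      zero_mem' := fun k => zero_smul _ _
      smul_mem' := fun d a ha k => by rw [smul_eq_mul, mul_smul, ha k, smul_zero] }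
  have hI : (⨅ l, m l) ≤ I.radical := by
    rw [← hf, Ideal.span_le]
    rintro _ ⟨j, rfl⟩
    choose e he using fun k => alg_kill f B (i := k) (j := j) (b := c0 • (y : Amb f B).1 k)
      (by rw [Algebra.smul_def, map_mul, h1 k j, ← IsScalarTower.algebraMap_apply, ← (toPJ f B k j).commutes c0,
        ← map_mul, ← Algebra.smul_def, hzero j, map_zero])
    refine ⟨∑ k, e k, fun k => ?_⟩
    obtain ⟨d, hd⟩ := Nat.exists_eq_add_of_le (Finset.single_le_sum (fun k _ => Nat.zero_le (e k)) (Finset.mem_univ k))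
    rw [hd, add_comm, pow_add, mul_smul, he k, smul_zero]
  obtain ⟨M, hM⟩ := Ideal.exists_pow_le_of_le_radical_of_fg hI (IsNoetherian.noetherian _)
  obtain ⟨c1, hc1, hd⟩ := exists_sep m hinj i M
  refine ⟨c1 * c0, fun h => ((inferInstance : (m i).IsPrime).mem_or_mem h).elim hc1 hc0,
    Subtype.ext (Prod.ext (funext fun k => ?_) (funext fun j => ?_))⟩
  · show (c1 * c0) • (y : Amb f B).1 k = 0
    by_cases hk : k = i
    · subst hk
      rw [show (y : Amb f B).1 k = 0 from h, smul_zero]
    · obtain ⟨d, hd1, hd2⟩ := hd k hk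
      refine ((isUnit_point B m k hd1).mul_right_eq_zero).1 ?_
      rw [← Algebra.smul_def, ← mul_smul, ← mul_assoc, mul_smul]
      exact hM hd2 k
  · show (c1 * c0) • (y : Amb f B).2 j = 0
    rw [mul_smul, hzero j, smul_zero]

variable (hcoker : ∀ i, ∃ n : ℕ, ∀ y ∈ Ideal.map (algebraMap A (Localization.AtPrime (m i))) (m i) ^ n,
    ∀ b : B i, y • b ∈ (algebraMap (Localization.AtPrime (m i)) (B i)).range)

include hf hinj hker hcoker in
/-- Every element at a point comes from the glued algebra up to a unit. -/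
theorem point_surj (i : Fin r) (b : B i) : ∃ c, c ∉ m i ∧ ∃ y : C f B, pr f B i y = c • b := by
  classical
  obtain ⟨n, hn⟩ := hcoker i
  have hj : ∀ j, ∃ (a : A) (d : A), d ∉ m i ∧ (d * f j ^ n) • b = algebraMap A (B i) a := fun j => by
    obtain ⟨α, hα⟩ := hn (algebraMap A _ (f j ^ n))
      (by rw [map_pow]; exact Ideal.pow_mem_pow (Ideal.mem_map_of_mem _ (mem_point f m hf i j)) n) b
    obtain ⟨⟨a, d⟩, hd⟩ := IsLocalization.surj (m i).primeCompl α
    refine ⟨a, d, d.2, ?_⟩
    rw [IsScalarTower.algebraMap_apply A (Localization.AtPrime (m i)) (B i) a, ← hd, map_mul, hα,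
      ← IsScalarTower.algebraMap_apply, Algebra.smul_def, Algebra.smul_def, map_mul,
      ← IsScalarTower.algebraMap_apply]
    ring
  choose a d hd had using hj
  let d0 := ∏ j, d j
  have hd0 : d0 ∉ m i := fun h => by
    obtain ⟨j, -, hj⟩ := (inferInstance : (m i).IsPrime).prod_mem_iff.1 h
    exact hd j hj
  let a' : Fin s → A := fun j => (∏ l ∈ Finset.univ.erase j, d l) * a j
  have ha' : ∀ j, algebraMap A (B i) (a' j) = (d0 * f j ^ n) • b := fun j => by
    rw [map_mul, ← Algebra.smul_def, ← had j, ← mul_smul, ← mul_assoc]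
    congr 2
    exact Finset.prod_erase_mul _ _ (Finset.mem_univ j)
  have hpair : ∀ j l, ∃ (c : A) (e : ℕ), c ∉ m i ∧ c * (f j ^ e * (f l ^ n * a' j - f j ^ n * a' l)) = 0 := fun j l =>
    base_kill f B m hf hker i j (by
      rw [map_sub, map_mul (algebraMap A (B i)) (f l ^ n) (a' j), map_mul (algebraMap A (B i)) (f j ^ n) (a' l), ← Algebra.smul_def, ← Algebra.smul_def, ha', ha', ← mul_smul, ← mul_smul, sub_eq_zero]
      congr 1
      ring)
  choose c2 e2 hc2 hce2 using hpair
  let c0 := ∏ p : Fin s × Fin s, c2 p.1 p.2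
  have hc0 : c0 ∉ m i := fun h => by
    obtain ⟨p, -, hp⟩ := (inferInstance : (m i).IsPrime).prod_mem_iff.1 h
    exact hc2 p.1 p.2 hp
  obtain ⟨x, hxn⟩ : ∃ x : ∀ j, Localization.Away (f j),
      ∀ j, x j * algebraMap A (Localization.Away (f j)) (f j ^ n) = algebraMap A _ (c0 * a' j) :=
    ⟨fun j => algebraMap A (Localization.Away (f j)) (c0 * a' j) *
      (IsLocalization.Away.invSelf (f j) : Localization.Away (f j)) ^ n, fun j => by
      rw [mul_assoc, map_pow, ← mul_pow, mul_comm (IsLocalization.Away.invSelf (f j)), IsLocalization.Away.mul_invSelf,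
        one_pow, mul_one]⟩
  have hover : ∀ j l, resL f j l (x j) = resR f j l (x l) := by
    intro j l
    refine ((((isUnit_left f j l).pow (n + e2 j l))).mul ((isUnit_right f j l).pow n)).mul_left_cancel ?_
    have hl : resL f j l (x j) * algebraMap A (Localization.Away (f j * f l)) (f j ^ n) =
        algebraMap A _ (c0 * a' j) := by
      rw [← (resL f j l).commutes, ← map_mul, hxn, AlgHom.commutes]
    have hr : resR f j l (x l) * algebraMap A (Localization.Away (f j * f l)) (f l ^ n) =
        algebraMap A _ (c0 * a' l) := by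
      rw [← (resR f j l).commutes, ← map_mul, hxn, AlgHom.commutes]
    have hk : c0 * (f j ^ e2 j l * (f l ^ n * a' j)) = c0 * (f j ^ e2 j l * (f j ^ n * a' l)) := by
      have := congrArg ((∏ p ∈ Finset.univ.erase (j, l), c2 p.1 p.2) * ·) (hce2 j l)
      simp only [mul_zero, ← mul_assoc, Finset.prod_erase_mul _ (fun p : Fin s × Fin s => c2 p.1 p.2) (Finset.mem_univ (j, l))] at this
      linear_combination this
    calc algebraMap A _ (f j) ^ (n + e2 j l) * algebraMap A _ (f l) ^ n * resL f j l (x j)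
        = algebraMap A (Localization.Away (f j * f l)) (f j ^ e2 j l * f l ^ n) *
            (resL f j l (x j) * algebraMap A _ (f j ^ n)) := by
          rw [map_mul, map_pow, map_pow, map_pow, pow_add]; ring
      _ = algebraMap A _ (c0 * (f j ^ e2 j l * (f l ^ n * a' j))) := by rw [hl, ← map_mul]; congr 1; ring
      _ = algebraMap A _ (c0 * (f j ^ e2 j l * (f j ^ n * a' l))) := by rw [hk]
      _ = algebraMap A (Localization.Away (f j * f l)) (f j ^ e2 j l * f j ^ n) *
            (resR f j l (x l) * algebraMap A _ (f l ^ n)) := by rw [hr, ← map_mul]; congr 1; ring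
      _ = _ := by rw [map_mul, map_pow, map_pow, map_pow, pow_add]; ring
  -- multipliers bringing the family into the base
  let I : Ideal A :=
    { carrier := {q | ∃ z, ∀ l, q • x l = algebraMap A (Localization.Away (f l)) z}
      add_mem' := fun {p q} ⟨z, hz⟩ ⟨z', hz'⟩ => ⟨z + z', fun l => by rw [add_smul, hz l, hz' l, map_add]⟩
      zero_mem' := ⟨0, fun l => by rw [zero_smul, map_zero]⟩
      smul_mem' := fun q p ⟨z, hz⟩ => ⟨q * z, fun l => by rw [smul_eq_mul, mul_smul, hz l, map_mul, Algebra.smul_def]⟩ }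
  have hI : (⨅ l, m l) ≤ I.radical := by
    rw [← hf, Ideal.span_le]
    rintro _ ⟨j, rfl⟩
    choose e he using fun l => resR_kill f (j := j) (l := l) (z := f j ^ n • x l - algebraMap A _ (c0 * a' j)) (by
      rw [map_sub, map_smul, ← hover j l, ← map_smul, AlgHom.commutes, Algebra.smul_def, mul_comm _ (x j), hxn,
        AlgHom.commutes, sub_self])
    refine ⟨(∑ l, e l) + n, f j ^ (∑ l, e l) * (c0 * a' j), fun l => ?_⟩
    obtain ⟨q, hq⟩ := Nat.exists_eq_add_of_le (Finset.single_le_sum (fun l _ => Nat.zero_le (e l)) (Finset.mem_univ l))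
    rw [pow_add, mul_smul, map_mul, ← Algebra.smul_def, ← sub_eq_zero, ← smul_sub, hq, add_comm, pow_add, mul_smul, he l,
      smul_zero]
  obtain ⟨M, hM⟩ := Ideal.exists_pow_le_of_le_radical_of_fg hI (IsNoetherian.noetherian _)
  obtain ⟨c, hc, hsep⟩ := exists_sep m hinj i M
  have hpts : ∀ k, ∃ bk : B k, (k = i → HEq bk ((c * c0 * d0) • b)) ∧
      ∀ j, algebraMap (B k) (PJ f B k j) bk = toPJ f B k j (c • x j) := by
    intro k
    by_cases hk : k = i
    · subst hk
      refine ⟨(c * c0 * d0) • b, fun _ => HEq.rfl, fun j => ?_⟩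
      have hu : IsUnit (algebraMap A (PJ f B k j) (f j ^ n)) := by
        rw [map_pow, IsScalarTower.algebraMap_apply A (B k) (PJ f B k j)]
        exact (IsLocalization.Away.algebraMap_isUnit (algebraMap A (B k) (f j))).pow n
      refine hu.mul_right_cancel ?_
      have hr : toPJ f B k j (c • x j) * algebraMap A (PJ f B k j) (f j ^ n) = algebraMap A _ (c * (c0 * a' j)) := by
        rw [← (toPJ f B k j).commutes (f j ^ n), ← map_mul (toPJ f B k j), smul_mul_assoc, hxn, Algebra.smul_def,
          ← map_mul, AlgHom.commutes]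
      rw [hr, IsScalarTower.algebraMap_apply A (B k) (PJ f B k j) (f j ^ n),
        IsScalarTower.algebraMap_apply A (B k) (PJ f B k j) (c * (c0 * a' j)), ← map_mul]
      congr 1
      rw [map_mul (algebraMap A (B k)) c, map_mul (algebraMap A (B k)) c0 (a' j), ha', Algebra.smul_def,
        Algebra.smul_def, map_mul, map_mul, map_mul]
      ring
    · obtain ⟨q, hq, hqc⟩ := hsep k hk
      obtain ⟨z, hz⟩ := hM hqc
      obtain ⟨u, hu⟩ := isUnit_point B m k hq
      refine ⟨(↑u⁻¹ : B k) * algebraMap A (B k) z, fun h => absurd h hk, fun j => ?_⟩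
      refine (((isUnit_point B m k hq).map (algebraMap (B k) (PJ f B k j)))).mul_left_cancel ?_
      rw [← map_mul, ← mul_assoc, ← hu, Units.mul_inv, one_mul, hu, ← IsScalarTower.algebraMap_apply,
        ← IsScalarTower.algebraMap_apply, ← (toPJ f B k j).commutes, ← (toPJ f B k j).commutes q, ← map_mul,
        ← hz j, mul_smul, Algebra.smul_def q]
  choose bk hbk hbkj using hpts
  refine ⟨c * c0 * d0, fun h => ((inferInstance : (m i).IsPrime).mem_or_mem h).elim
    (fun h => ((inferInstance : (m i).IsPrime).mem_or_mem h).elim hc hc0) hd0,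
    ⟨(bk, fun j => c • x j), hbkj, fun j l => by rw [map_smul, map_smul, hover j l]⟩, eq_of_heq (hbk i rfl)⟩

include hf hinj hker hcoker in
theorem isLocalization_pr (i : Fin r) :
    letI := (pr f B i).toRingHom.toAlgebra
    IsLocalization (Algebra.algebraMapSubmonoid (C f B) (m i).primeCompl) (B i) := by
  letI := (pr f B i).toRingHom.toAlgebra
  rw [isLocalization_iff]
  refine ⟨?_, fun b => ?_, fun {x y} hxy => ?_⟩
  · rintro ⟨_, c, hc, rfl⟩
    show IsUnit (pr f B i (algebraMap A (C f B) c))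
    rw [AlgHom.commutes]
    exact isUnit_point B m i hc
  · obtain ⟨c, hc, y, hy⟩ := point_surj f B m hf hinj hker hcoker i b
    refine ⟨⟨y, ⟨algebraMap A (C f B) c, c, hc, rfl⟩⟩, ?_⟩
    show b * pr f B i (algebraMap A (C f B) c) = pr f B i y
    rw [hy, AlgHom.commutes, Algebra.smul_def, mul_comm]
  · obtain ⟨c, hc, hcy⟩ := point_kill f B m hf hinj hker (y := x - y) (i := i)
      (by rw [map_sub]; exact sub_eq_zero.2 hxy)
    refine ⟨⟨algebraMap A (C f B) c, c, hc, rfl⟩, sub_eq_zero.1 ?_⟩
    show algebraMap A (C f B) c * x - algebraMap A (C f B) c * y = 0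
    rw [← mul_sub, ← Algebra.smul_def, hcy]

omit [IsNoetherianRing A] in
include hf in
theorem exists_open {P : Ideal A} [P.IsMaximal] (hP : ∀ i, m i ≠ P) : ∃ j, f j ∉ P := by
  by_contra h
  simp only [not_exists, not_not] at h
  have hle : (⨅ i, m i) ≤ P := hf ▸ Ideal.span_le.2 (by rintro _ ⟨j, rfl⟩; exact h j)
  rw [← Finset.inf_univ_eq_iInf] at hle
  obtain ⟨i, -, hi⟩ := (inferInstance : P.IsPrime).inf_le'.1 hle
  exact hP i ((inferInstance : (m i).IsMaximal).eq_of_le (inferInstance : P.IsPrime).ne_top hi)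

include hf in
theorem kill_of_local {a : A} (ha : algebraMap A (C f B) a = 0) {y : A}
    (h : ∀ i, algebraMap A (Localization.AtPrime (m i)) (y * a) = 0) : y * a = 0 := by
  refine (Submodule.mem_bot A).1 (mem_of_local ⊥ (y * a) fun P hP => ?_)
  by_cases hm' : ∃ i, m i = P
  · obtain ⟨i, rfl⟩ := hm'
    obtain ⟨c, hc⟩ := (IsLocalization.map_eq_zero_iff (m i).primeCompl (Localization.AtPrime (m i)) _).1 (h i)
    exact ⟨c, c.2, (Submodule.mem_bot A).2 hc⟩
  · haveI := hP
    obtain ⟨j, hj⟩ := exists_open f m hf (P := P) (fun i hi => hm' ⟨i, hi⟩)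
    have h0 : algebraMap A (Localization.Away (f j)) a = 0 := congrArg (fun z : C f B => (z : Amb f B).2 j) ha
    obtain ⟨⟨_, e, rfl⟩, he⟩ := (IsLocalization.map_eq_zero_iff (Submonoid.powers (f j)) _ a).1 h0
    refine ⟨f j ^ e, fun h => hj (hP.isPrime.mem_of_pow_mem e h), (Submodule.mem_bot A).2 ?_⟩
    rw [smul_eq_mul, mul_left_comm, show f j ^ e * a = 0 from he, mul_zero]

include hf hinj hker in
/-- A glued element lies in the base if it does so at the points. -/
theorem range_of_local {z : C f B}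
    (h : ∀ i, pr f B i z ∈ (algebraMap (Localization.AtPrime (m i)) (B i)).range) :
    z ∈ (algebraMap A (C f B)).range := by
  suffices z ∈ LinearMap.range (Algebra.linearMap A (C f B)) from this
  refine mem_of_local _ z fun P hP => ?_
  by_cases hm' : ∃ i, m i = P
  · obtain ⟨i, rfl⟩ := hm'
    obtain ⟨α, hα⟩ := h i
    obtain ⟨⟨a, d⟩, hd⟩ := IsLocalization.surj (m i).primeCompl α
    obtain ⟨c, hc, hcy⟩ := point_kill f B m hf hinj hker (y := (d : A) • z - algebraMap A (C f B) a) (i := i) (by
      rw [map_sub, map_smul, AlgHom.commutes, IsScalarTower.algebraMap_apply A (Localization.AtPrime (m i)) (B i) a,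
        ← hd, map_mul, hα, ← IsScalarTower.algebraMap_apply, Algebra.smul_def, mul_comm, sub_self])
    refine ⟨c * d, fun h => (hP.isPrime.mem_or_mem h).elim hc d.2, c * a, ?_⟩
    rw [smul_sub, sub_eq_zero] at hcy
    rw [mul_smul, hcy, Algebra.smul_def]
    exact map_mul (algebraMap A (C f B)) c a
  · haveI := hP
    obtain ⟨j, hj⟩ := exists_open f m hf (P := P) (fun i hi => hm' ⟨i, hi⟩)
    obtain ⟨e, a, ha⟩ := open_range f B z j
    exact ⟨f j ^ e, fun h => hj (hP.isPrime.mem_of_pow_mem e h), a, ha.symm⟩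

omit [IsNoetherianRing A] in
theorem map_pow_mem {i : Fin r} {n n' : ℕ} (hn : n ≤ n') {y : A} (hy : y ∈ (⨅ l, m l) ^ n') :
    algebraMap A (Localization.AtPrime (m i)) y ∈ Ideal.map (algebraMap A _) (m i) ^ n := by
  rw [← Ideal.map_pow]
  exact Ideal.mem_map_of_mem _ (Ideal.pow_le_pow_right hn (Ideal.pow_right_mono (iInf_le m i) n' hy))

include hf hker in
theorem ker_bound : ∃ n : ℕ, ∀ n' ≥ n, ∀ x ∈ RingHom.ker (algebraMap A (C f B)), ∀ y ∈ (⨅ i, m i) ^ n', y * x = 0 := by
  choose n hn using hker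
  refine ⟨∑ i, n i, fun n' hn' x hx y hy => kill_of_local f B m hf hx fun i => ?_⟩
  rw [map_mul]
  refine hn i _ (RingHom.mem_ker.2 ?_) _
    (map_pow_mem m ((Finset.single_le_sum (fun i _ => Nat.zero_le (n i)) (Finset.mem_univ i)).trans hn') hy)
  rw [← IsScalarTower.algebraMap_apply, ← (pr f B i).commutes, RingHom.mem_ker.1 hx, map_zero]

include hf hinj hker hcoker in
theorem coker_bound : ∃ n : ℕ, ∀ n' ≥ n, ∀ y ∈ (⨅ i, m i) ^ n', ∀ c : C f B, y • c ∈ (algebraMap A (C f B)).range := by
  choose n hn using hcoker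
  refine ⟨∑ i, n i, fun n' hn' y hy c => range_of_local f B m hf hinj hker fun i => ?_⟩
  rw [map_smul, ← algebraMap_smul (Localization.AtPrime (m i)) y (pr f B i c)]
  exact hn i _ (map_pow_mem m ((Finset.single_le_sum (fun i _ => Nat.zero_le (n i)) (Finset.mem_univ i)).trans hn') hy) _

include hf in
theorem injective_base (h : ∀ i, Function.Injective (algebraMap (Localization.AtPrime (m i)) (B i))) :
    Function.Injective (algebraMap A (C f B)) := by
  refine (injective_iff_map_eq_zero _).2 fun a ha => ?_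
  rw [← one_mul a]
  refine kill_of_local f B m hf ha fun i => h i ?_
  rw [one_mul, map_zero, ← IsScalarTower.algebraMap_apply, ← (pr f B i).commutes, ha, map_zero]

include hf hinj hker hcoker in
theorem finite_base (h : ∀ i, Module.Finite (Localization.AtPrime (m i)) (B i)) : Module.Finite A (C f B) := by
  classical
  choose k g hg using fun i => @Module.Finite.exists_fin _ _ _ _ _ (h i)
  choose c hc y hy using fun p : Σ i, Fin (k i) => point_surj f B m hf hinj hker hcoker p.1 (g p.1 p.2)
  refine ⟨Submodule.fg_def.2 ⟨insert 1 (Set.range y), (Set.finite_range y).insert 1, top_unique fun z _ => ?_⟩⟩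
  refine mem_of_local _ z fun P hP => ?_
  by_cases hm' : ∃ i, m i = P
  · obtain ⟨i, rfl⟩ := hm'
    let N := Submodule.span A (insert 1 (Set.range y))
    let S : Submodule (Localization.AtPrime (m i)) (B i) :=
      { carrier := {b | ∃ d, d ∉ m i ∧ ∃ w ∈ N, pr f B i w = d • b}
        add_mem' := fun {b b'} ⟨d, hd, w, hw, e⟩ ⟨d', hd', w', hw', e'⟩ =>
          ⟨d * d', fun h => (hP.isPrime.mem_or_mem h).elim hd hd', d' • w + d • w',
            N.add_mem (N.smul_mem _ hw) (N.smul_mem _ hw'), by
              rw [map_add, map_smul, map_smul, e, e', ← mul_smul, ← mul_smul, mul_comm d' d, smul_add]⟩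
        zero_mem' := ⟨1, fun h => hP.ne_top ((Ideal.eq_top_iff_one _).2 h), 0, N.zero_mem, by rw [map_zero, smul_zero]⟩
        smul_mem' := fun α b ⟨d, hd, w, hw, e⟩ => by
          obtain ⟨⟨a, t⟩, ht⟩ := IsLocalization.surj (m i).primeCompl α
          refine ⟨t * d, fun h => (hP.isPrime.mem_or_mem h).elim t.2 hd, a • w, N.smul_mem _ hw, ?_⟩
          rw [map_smul, e, ← algebraMap_smul (Localization.AtPrime (m i)) a, ← ht, ← algebraMap_smul (Localization.AtPrime (m i)) ((t : A) * d),
            ← algebraMap_smul (Localization.AtPrime (m i)) d, ← mul_smul, ← mul_smul, map_mul]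
          congr 1
          ring }
    have hS : S = ⊤ := by
      rw [eq_top_iff, ← hg i, Submodule.span_le]
      rintro _ ⟨l, rfl⟩
      exact ⟨c ⟨i, l⟩, hc ⟨i, l⟩, y ⟨i, l⟩, Submodule.subset_span (Or.inr ⟨_, rfl⟩), hy ⟨i, l⟩⟩
    obtain ⟨d, hd, w, hw, e⟩ : pr f B i z ∈ S := hS ▸ trivial
    obtain ⟨t, ht, htw⟩ := point_kill f B m hf hinj hker (y := w - d • z) (i := i)
      (by rw [map_sub, map_smul, e, sub_self])
    refine ⟨t * d, fun h => (hP.isPrime.mem_or_mem h).elim ht hd, ?_⟩
    rw [smul_sub, sub_eq_zero, ← mul_smul] at htw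
    rw [← htw]
    exact Submodule.smul_mem _ _ hw
  · haveI := hP
    obtain ⟨j, hj⟩ := exists_open f m hf (P := P) (fun i hi => hm' ⟨i, hi⟩)
    obtain ⟨e, a, ha⟩ := open_range f B z j
    refine ⟨f j ^ e, fun h => hj (hP.isPrime.mem_of_pow_mem e h), ?_⟩
    rw [ha, Algebra.algebraMap_eq_smul_one]
    exact Submodule.smul_mem _ _ (Submodule.subset_span (Set.mem_insert _ _))

end Point

end Groth.Agent.TameCh.Points
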