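import Groth.Agent.TameCh.Value
import Groth.Agent.TameCh.Main

/-!
Independence of the tame symbol from the choice of data.
-/

set_option autoImplicit false
set_option linter.style.haveILetI false

universe u

noncomputable section

namespace Groth.Agent.TameCh

open CycAlg IsLocalRing

variable {A : Type u} [CommRing A] [IsNoetherianRing A] [IsLocalRing A] {a b : A}

/-- A finite modification inside the localization away from a regular element of the maximal ideal. -/
theorem exists_embedding {B : Type u} [CommRing B] [Algebra A B] (hB : IsFinExt A B (maximalIdeal A)) {t : A}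
    (ht : t ∈ maximalIdeal A) (htn : t ∈ nonZeroDivisors A) (htB : algebraMap A B t ∈ nonZeroDivisors B) :
    ∃ f : B →ₐ[A] Localization.Away t, Function.Injective f := by
  obtain ⟨hinj, -, k, hk⟩ := hB
  choose z hz using fun y => hk _ (Ideal.pow_mem_pow ht k) y
  have hu : IsUnit (algebraMap A (Localization.Away t) (t ^ k)) := by
    rw [map_pow]; exact (IsLocalization.Away.algebraMap_isUnit t).pow k
  have hz' : ∀ y, algebraMap A B (z y) = algebraMap A B (t ^ k) * y := fun y => by rw [hz, Algebra.smul_def]
  have hAinj : Function.Injective (algebraMap A (Localization.Away t)) :=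
    IsLocalization.injective (Localization.Away t) (Submonoid.powers_le.2 htn)
  let f : B → Localization.Away t := fun y => algebraMap A _ (z y) * ↑hu.unit⁻¹
  have hf : ∀ y, f y * algebraMap A (Localization.Away t) (t ^ k) = algebraMap A _ (z y) := fun y => by
    rw [mul_assoc, IsUnit.val_inv_mul, mul_one]
  have hext : ∀ (y : B) (w : Localization.Away t), w * algebraMap A (Localization.Away t) (t ^ k) = algebraMap A _ (z y) →
      f y = w := fun y w h => hu.mul_right_cancel ((hf y).trans h.symm)
  have hzadd : ∀ y y', z (y + y') = z y + z y' := fun y y' => hinj (by rw [map_add, hz', hz', hz', mul_add])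
  have hzmul : ∀ y y', t ^ k * z (y * y') = z y * z y' := fun y y' => hinj (by
    rw [map_mul, map_mul, hz', hz', hz']; ring)
  have hzalg : ∀ x, z (algebraMap A B x) = t ^ k * x := fun x => hinj (by rw [hz', map_mul])
  let F : B →ₐ[A] Localization.Away t :=
    { toFun := f
      map_one' := hext 1 1 (by rw [one_mul, show (1 : B) = algebraMap A B 1 from (map_one _).symm, hzalg, mul_one])
      map_mul' := fun y y' => hext _ _ (by
        refine hu.mul_left_cancel ?_
        rw [← map_mul _ (t ^ k) (z (y * y')), hzmul, map_mul, ← hf y, ← hf y']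
        ring)
      map_zero' := hext 0 0 (by rw [zero_mul, show (0 : B) = algebraMap A B 0 from (map_zero _).symm, hzalg, mul_zero, map_zero])
      map_add' := fun y y' => hext _ _ (by rw [add_mul, hf, hf, hzadd, map_add])
      commutes' := fun x => hext _ _ (by rw [hzalg, map_mul]; ring) }
  refine ⟨F, (injective_iff_map_eq_zero _).2 fun y (hy : f y = 0) => ?_⟩
  have h1 : z y = 0 := hAinj (by rw [← hf y, hy, zero_mul, map_zero])
  have h2 : algebraMap A B (t ^ k) * y = 0 := by rw [← hz', h1, map_zero]
  rw [map_pow] at h2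
  exact (mem_nonZeroDivisors_iff.1 (pow_mem htB k)).1 _ h2

/-- A finite subalgebra of the localization is a finite modification. -/
theorem isFinExt_subalgebra (hA : Ring.KrullDimLE 1 A) {t : A} (htn : t ∈ nonZeroDivisors A)
    (C : Subalgebra A (Localization.Away t)) [Module.Finite A C] :
    IsFinExt A C (maximalIdeal A) ∧ algebraMap A C t ∈ nonZeroDivisors C := by
  have hAinj : Function.Injective (algebraMap A (Localization.Away t)) :=
    IsLocalization.injective (Localization.Away t) (Submonoid.powers_le.2 htn)
  refine ⟨⟨fun x y h => hAinj (congrArg Subtype.val h), inferInstance, ?_⟩, mem_nonZeroDivisors_iff_right.2 fun y hy =>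
    Subtype.ext ((IsLocalization.Away.algebraMap_isUnit t).mul_left_eq_zero.1 (congrArg Subtype.val hy))⟩
  obtain ⟨G, hG⟩ := (Module.Finite.fg_top : (⊤ : Submodule A C).FG)
  have hsurj : ∀ c : C, ∃ n : ℕ, t ^ n • c ∈ LinearMap.range (Algebra.linearMap A C) := fun c => by
    obtain ⟨n, x, hx⟩ := IsLocalization.Away.surj t (c : Localization.Away t)
    exact ⟨n, x, Subtype.ext (by
      show algebraMap A (Localization.Away t) x = t ^ n • (c : Localization.Away t)
      rw [← hx, Algebra.smul_def, map_pow, mul_comm])⟩
  choose n hn using hsurj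
  let N := ∑ g ∈ G, n g
  have hN : ∀ c : C, t ^ N • c ∈ LinearMap.range (Algebra.linearMap A C) := by
    intro c
    have hc : c ∈ Submodule.span A (G : Set C) := by rw [hG]; trivial
    induction hc using Submodule.span_induction with
    | mem g hg =>
      obtain ⟨d, hd⟩ := Nat.exists_eq_add_of_le (Finset.single_le_sum (fun g _ => Nat.zero_le (n g)) hg)
      rw [show N = d + n g from hd.trans (Nat.add_comm _ _), pow_add, mul_smul]
      exact Submodule.smul_mem _ _ (hn g)
    | zero => rw [smul_zero]; exact zero_mem _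
    | add x y _ _ hx hy => rw [smul_add]; exact add_mem hx hy
    | smul r x _ hx => rw [smul_comm]; exact Submodule.smul_mem _ r hx
  obtain ⟨j, hj⟩ : ∃ j, maximalIdeal A ^ j ≤ Ideal.span {t ^ N} := by
    refine Ideal.exists_pow_le_of_le_radical_of_fg ?_ (IsNoetherian.noetherian _)
    rw [Ideal.radical_eq_sInf]
    refine le_sInf ?_
    rintro P ⟨hP, hPp⟩
    haveI : P.IsPrime := hPp
    exact (IsLocalRing.eq_maximalIdeal
      (isMaximal_of_mem P htn (hPp.mem_of_pow_mem N (hP (Ideal.mem_span_singleton_self _))))).ge
  refine ⟨j, fun r hr c => ?_⟩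
  obtain ⟨d, rfl⟩ := Ideal.mem_span_singleton'.1 (hj hr)
  obtain ⟨x, hx⟩ := Submodule.smul_mem _ d (hN c)
  exact ⟨x, by rw [mul_smul]; exact hx⟩

/-- The representation given by tame data. -/
def repOf (D : TameData A a b) (n : MaximalSpectrum D.B) :
    Rep (algebraMap A (Localization.AtPrime n.asIdeal) a) (algebraMap A (Localization.AtPrime n.asIdeal) b) :=
  ⟨D.π n, D.π_mem n, D.u₁ n, D.u₂ n, D.e₁ n, D.e₂ n, D.fac₁ n, D.fac₂ n⟩

omit [IsNoetherianRing A] in
theorem localFactor_eq (D : TameData A a b) (n : MaximalSpectrum D.B) :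
    haveI := D.isLocalHom n
    D.localFactor n = (repOf D n).val (ResidueField A) := rfl

omit [IsNoetherianRing A] in
theorem nonZeroDivisor_tameData (D : TameData A a b) : algebraMap A D.B (a * b) ∈ nonZeroDivisors D.B := by
  rw [mem_nonZeroDivisors_iff_right]
  intro y hy
  refine eq_zero_of_localization y fun m hm => ?_
  let n : MaximalSpectrum D.B := ⟨m, hm⟩
  have h := congrArg (algebraMap D.B (Localization.AtPrime m)) hy
  rw [map_mul, map_zero, ← IsScalarTower.algebraMap_apply, map_mul, D.fac₁ n, D.fac₂ n] at h
  exact (mem_nonZeroDivisors_iff_right.1 (mul_mem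
    (mul_mem (D.u₁ n).isUnit.mem_nonZeroDivisors (pow_mem (D.π_mem n) _))
    (mul_mem (D.u₂ n).isUnit.mem_nonZeroDivisors (pow_mem (D.π_mem n) _)))) _ h

omit [IsNoetherianRing A] in
theorem value_eq_one (D : TameData A a b) (ha : IsUnit a) (hb : IsUnit b) : D.value = 1 := by
  refine finprod_eq_one_of_forall_eq_one fun n => ?_
  by_cases hπ : IsUnit (D.π n)
  · rw [TameData.localFactor, Ring.ord_of_isUnit hπ]
    exact pow_zero _
  · have hexp : ∀ (x : A) (z : (Localization.AtPrime n.asIdeal)ˣ) (k : ℕ), IsUnit x →
        algebraMap A (Localization.AtPrime n.asIdeal) x = (z : Localization.AtPrime n.asIdeal) * D.π n ^ k → k = 0 := by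
      intro x z k hx hk
      by_contra hk0
      exact hπ ((isUnit_pow_iff hk0).1 (isUnit_of_mul_isUnit_right (hk ▸ hx.map _)))
    rw [TameData.localFactor, hexp a _ _ ha (D.fac₁ n), hexp b _ _ hb (D.fac₂ n)]
    simp

/-- Independence of the data. -/
theorem value_eq (hA : Ring.KrullDimLE 1 A) (ha : a ∈ nonZeroDivisors A) (hb : b ∈ nonZeroDivisors A)
    (D D' : TameData A a b) : D.value = D'.value := by
  by_cases hab : a * b ∈ maximalIdeal A
  swap
  · have hu : IsUnit (a * b) := not_not.1 fun h => hab ((mem_maximalIdeal _).2 h)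
    rw [value_eq_one D (isUnit_of_mul_isUnit_left hu) (isUnit_of_mul_isUnit_right hu),
      value_eq_one D' (isUnit_of_mul_isUnit_left hu) (isUnit_of_mul_isUnit_right hu)]
  classical
  have htn : a * b ∈ nonZeroDivisors A := mul_mem ha hb
  obtain ⟨f, hf⟩ := exists_embedding D.isFinExt hab htn (nonZeroDivisor_tameData D)
  obtain ⟨f', hf'⟩ := exists_embedding D'.isFinExt hab htn (nonZeroDivisor_tameData D')
  haveI := D.isFinExt.2.1
  haveI := D'.isFinExt.2.1
  haveI : Module.Finite A f.range := Module.Finite.of_surjective f.rangeRestrict.toLinearMap f.rangeRestrict_surjective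
  haveI : Module.Finite A f'.range := Module.Finite.of_surjective f'.rangeRestrict.toLinearMap f'.rangeRestrict_surjective
  haveI : Module.Finite A (f.range ⊔ f'.range : Subalgebra A (Localization.Away (a * b))) := Subalgebra.finite_sup _ _
  let C : Subalgebra A (Localization.Away (a * b)) := f.range ⊔ f'.range
  obtain ⟨hC, htC⟩ := isFinExt_subalgebra hA htn C
  obtain ⟨k, hk⟩ := hC.2.2
  let ι : D.B →ₐ[A] C := (Subalgebra.inclusion le_sup_left).comp f.rangeRestrict
  let ι' : D'.B →ₐ[A] C := (Subalgebra.inclusion le_sup_right).comp f'.rangeRestrict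
  have hι : Function.Injective ι := fun x y h => hf (congrArg (fun z : C => (z : Localization.Away (a * b))) h)
  have hι' : Function.Injective ι' := fun x y h => hf' (congrArg (fun z : C => (z : Localization.Away (a * b))) h)
  haveI := finite_maximalSpectrum A (B := D.B)
  haveI := finite_maximalSpectrum A (B := D'.B)
  haveI := finite_maximalSpectrum A (B := C)
  letI := Fintype.ofFinite (MaximalSpectrum D.B)
  letI := Fintype.ofFinite (MaximalSpectrum D'.B)
  letI := Fintype.ofFinite (MaximalSpectrum C)
  haveI := D.isLocalHom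
  haveI := D'.isLocalHom
  haveI : ∀ p : MaximalSpectrum C, IsLocalHom (algebraMap A (Localization.AtPrime p.asIdeal)) :=
    isLocalHom_atPrime hC
  let R' : ∀ p : MaximalSpectrum C, Rep (algebraMap A (Localization.AtPrime p.asIdeal) a)
      (algebraMap A (Localization.AtPrime p.asIdeal) b) := fun p =>
    pushRep ι p (repOf D (pull ι p)) ((sum_fiber ι hA hι hk (repOf D) hab (nonZeroDivisor_tameData D) htC (pull ι p)).1 p)
  have e1 : D.value = ∏ n, (repOf D n).val (ResidueField A) :=
    finprod_eq_prod_of_fintype _
  have e2 : D'.value = ∏ n, (repOf D' n).val (ResidueField A) :=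
    finprod_eq_prod_of_fintype _
  rw [e1, e2, prod_val_eq ι hA hι hk (repOf D) R' hab (nonZeroDivisor_tameData D) htC,
    prod_val_eq ι' hA hι' hk (repOf D') R' hab (nonZeroDivisor_tameData D') htC]

/-- The symbol computed with any data. -/
theorem tameSymbol_eq_value (hA : Ring.KrullDimLE 1 A) (ha : a ∈ nonZeroDivisors A) (hb : b ∈ nonZeroDivisors A)
    (D : TameData A a b) : tameSymbol A a b = D.value := by
  rw [tameSymbol, dif_pos ⟨D⟩]
  exact value_eq hA ha hb _ D

/-- The symbol computed on any modification with representations. -/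
theorem tameSymbol_eq_prod (hA : Ring.KrullDimLE 1 A) (ha : a ∈ nonZeroDivisors A) (hb : b ∈ nonZeroDivisors A)
    (C : Type u) [CommRing C] [Algebra A C] (hC : IsFinExt A C (maximalIdeal A)) [Fintype (MaximalSpectrum C)]
    [hl : ∀ p : MaximalSpectrum C, IsLocalHom (algebraMap A (Localization.AtPrime p.asIdeal))]
    (R : ∀ p : MaximalSpectrum C, Rep (algebraMap A (Localization.AtPrime p.asIdeal) a)
      (algebraMap A (Localization.AtPrime p.asIdeal) b)) :
    tameSymbol A a b = ∏ p, (R p).val (ResidueField A) :=
  (tameSymbol_eq_value hA ha hb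
    { B := C, isFinExt := hC, isLocalHom := hl, π := fun p => (R p).π, π_mem := fun p => (R p).π_mem,
      u₁ := fun p => (R p).u, u₂ := fun p => (R p).v, e₁ := fun p => (R p).e, e₂ := fun p => (R p).f,
      fac₁ := fun p => (R p).eq₁, fac₂ := fun p => (R p).eq₂ }).trans (finprod_eq_prod_of_fintype _)

end Groth.Agent.TameCh
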