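import Groth.Agent.TameCh.WellDef

/-!
Transport of representations along isomorphisms, and compatibility of the symbol with finite modifications.
-/

set_option autoImplicit false
set_option linter.style.haveILetI false

universe u

noncomputable section

namespace Groth.Agent.TameCh

open CycAlg IsLocalRing

/-- The order of an element does not change along a ring isomorphism. -/
theorem ord_equiv {R S : Type u} [CommRing R] [CommRing S] (e : R ≃+* S) (x : R) :
    Ring.ord S (e x) = Ring.ord R x := by
  letI : Algebra R S := e.toRingHom.toAlgebra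
  rw [Ring.ord, Ring.ord, ← Module.length_eq_of_surjective (R := S) (S := R) (M := S ⧸ Ideal.span {e x}) e.surjective]
  let φ : R →ₗ[R] S ⧸ Ideal.span {e x} := Algebra.linearMap R _
  refine (LinearEquiv.length_eq ((Submodule.quotEquivOfEq _ _ ?_).trans (φ.quotKerEquivOfSurjective ?_))).symm
  · ext z
    rw [LinearMap.mem_ker, Algebra.linearMap_apply, IsScalarTower.algebraMap_apply R S (S ⧸ Ideal.span {e x}),
      Ideal.Quotient.algebraMap_eq, Ideal.Quotient.eq_zero_iff_mem, Ideal.mem_span_singleton', Ideal.mem_span_singleton']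
    constructor
    · rintro ⟨c, rfl⟩; exact ⟨e c, (map_mul e c x).symm⟩
    · rintro ⟨c, hc⟩
      refine ⟨e.symm c, e.injective ?_⟩
      rw [map_mul, e.apply_symm_apply]
      exact hc
  · intro z
    obtain ⟨z, rfl⟩ := Ideal.Quotient.mk_surjective z
    obtain ⟨w, rfl⟩ := e.surjective z
    exact ⟨w, rfl⟩

section Map

variable {A : Type u} [CommRing A] {T T' : Type u} [CommRing T] [CommRing T'] [Algebra A T] [Algebra A T'] {a b : A}

/-- Transport of a representation. -/
def Rep.mapEquiv (R : Rep (algebraMap A T a) (algebraMap A T b)) (e : T ≃+* T')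
    (he : ∀ z, e (algebraMap A T z) = algebraMap A T' z) : Rep (algebraMap A T' a) (algebraMap A T' b) where
  π := e R.π
  π_mem := mem_nonZeroDivisors_iff_right.2 fun y hy => e.symm.injective (by
    rw [map_zero]
    refine mem_nonZeroDivisors_iff_right.1 R.π_mem _ (e.injective ?_)
    rw [map_mul, e.apply_symm_apply, map_zero, hy])
  u := Units.map (e : T →* T') R.u
  v := Units.map (e : T →* T') R.v
  e := R.e
  f := R.f
  eq₁ := ((he a).symm.trans ((congrArg e R.eq₁).trans (by rw [map_mul, map_pow]; rfl)))
  eq₂ := ((he b).symm.trans ((congrArg e R.eq₂).trans (by rw [map_mul, map_pow]; rfl)))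

variable [IsLocalRing A] [IsLocalRing T] [IsLocalRing T'] [IsLocalHom (algebraMap A T)] [IsLocalHom (algebraMap A T')]

theorem Rep.val_mapEquiv (R : Rep (algebraMap A T a) (algebraMap A T b)) (e : T ≃+* T')
    (he : ∀ z, e (algebraMap A T z) = algebraMap A T' z) :
    (R.mapEquiv e he).val (ResidueField A) = R.val (ResidueField A) := by
  let E : ResidueField T ≃ₐ[ResidueField A] ResidueField T' :=
    AlgEquiv.ofRingEquiv (f := IsLocalRing.ResidueField.mapEquiv e) (fun z => by
      obtain ⟨z, rfl⟩ := residue_surjective z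
      rw [ResidueField.algebraMap_residue, ResidueField.algebraMap_residue]
      exact (congrArg (residue T') (he z) : _))
  have hs : (R.mapEquiv e he).sym = E R.sym := by
    simp only [Rep.sym, Rep.mapEquiv, map_mul, map_pow, map_inv₀, map_neg, map_one]
    rfl
  rw [Rep.val, Rep.val, hs, Algebra.norm_eq_of_algEquiv]
  congr 1
  exact congrArg ENat.toNat (ord_equiv e R.π)

end Map

/-- Transitivity of the norm on residue fields of a tower of local rings. -/
theorem norm_residue_tower (A T₀ T : Type u) [CommRing A] [CommRing T₀] [CommRing T] [IsLocalRing A] [IsLocalRing T₀]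
    [IsLocalRing T] [Algebra A T₀] [Algebra A T] [Algebra T₀ T] [IsScalarTower A T₀ T] [IsLocalHom (algebraMap A T₀)]
    [IsLocalHom (algebraMap A T)] [IsLocalHom (algebraMap T₀ T)] (x : ResidueField T) :
    Algebra.norm (ResidueField A) (Algebra.norm (ResidueField T₀) x) = Algebra.norm (ResidueField A) x := by
  haveI : IsScalarTower (ResidueField A) (ResidueField T₀) (ResidueField T) := IsScalarTower.of_algebraMap_eq fun z => by
    obtain ⟨z, rfl⟩ := residue_surjective z
    rw [ResidueField.algebraMap_residue, ResidueField.algebraMap_residue, ResidueField.algebraMap_residue,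
      ← IsScalarTower.algebraMap_apply]
  exact Algebra.norm_norm

section Ext

variable {A : Type u} [CommRing A] [IsNoetherianRing A] [IsLocalRing A]

/-- The localization at a maximal ideal through a regular element has dimension one. -/
theorem ringKrullDim_atPrime {B : Type u} [CommRing B] [IsNoetherianRing B] [Ring.KrullDimLE 1 B] (q : Ideal B) [q.IsPrime] {t : B}
    (ht : t ∈ nonZeroDivisors B) (htq : t ∈ q) : ringKrullDim (Localization.AtPrime q) = 1 := by
  refine le_antisymm ?_ ?_
  · exact Ring.krullDimLE_iff.1 (krullDimLE_localization q)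
  · rw [IsLocalization.AtPrime.ringKrullDim_eq_height q (Localization.AtPrime q)]
    obtain ⟨p0, hp0, hle⟩ := Ideal.exists_minimalPrimes_le (J := q) (I := (⊥ : Ideal B)) bot_le
    haveI := hp0.1.1
    have hne : p0 ≠ q := fun he => Set.disjoint_left.1 (Ideal.disjoint_nonZeroDivisors_of_mem_minimalPrimes hp0)
      (show t ∈ p0 from he.symm ▸ htq) ht
    exact_mod_cast Order.one_le_iff_pos.2
      (bot_le.trans_lt (Ideal.height_strict_mono_of_isPrime_of_isPrime (lt_of_le_of_ne hle hne)))

/-- A finite modification of a finite modification. -/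
theorem isFinExt_comp (hA : Ring.KrullDimLE 1 A) {t : A} (htn : t ∈ nonZeroDivisors A) {B C : Type u} [CommRing B]
    [Algebra A B] (hB : IsFinExt A B (maximalIdeal A)) [CommRing C] [Algebra B C] [Algebra A C] [IsScalarTower A B C]
    (hinj : Function.Injective (algebraMap B C)) [Module.Finite B C] {K : ℕ}
    (hK : ∀ c : C, ∃ w, algebraMap A B t ^ K • c = algebraMap B C w) : IsFinExt A C (maximalIdeal A) := by
  obtain ⟨hBinj, hBfin, k, hk⟩ := hB
  haveI := hBfin
  obtain ⟨j, hj⟩ : ∃ j, maximalIdeal A ^ j ≤ Ideal.span {t ^ K} := by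
    refine Ideal.exists_pow_le_of_le_radical_of_fg ?_ (IsNoetherian.noetherian _)
    rw [Ideal.radical_eq_sInf]
    refine le_sInf ?_
    rintro P ⟨hP, hPp⟩
    haveI : P.IsPrime := hPp
    exact (IsLocalRing.eq_maximalIdeal
      (isMaximal_of_mem P htn (hPp.mem_of_pow_mem K (hP (Ideal.mem_span_singleton_self _))))).ge
  refine ⟨fun y z h => hBinj (hinj (by rwa [← IsScalarTower.algebraMap_apply, ← IsScalarTower.algebraMap_apply])),
    Module.Finite.trans B C, k + j, fun r hr z => ?_⟩
  rw [pow_add] at hr
  refine Submodule.mul_induction_on hr (fun r₁ hr₁ r₂ hr₂ => ?_) fun r₁ r₂ h₁ h₂ => by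
    rw [add_smul]; exact add_mem h₁ h₂
  obtain ⟨c, hc⟩ := Ideal.mem_span_singleton'.1 (hj hr₂)
  obtain ⟨w, hw⟩ := hK z
  obtain ⟨d, hd⟩ := hk r₁ hr₁ (algebraMap A B c * w)
  refine ⟨d, ?_⟩
  rw [IsScalarTower.algebraMap_apply A B C, hd, ← hc, Algebra.smul_def, Algebra.smul_def,
    IsScalarTower.algebraMap_apply A B C (r₁ * (c * t ^ K)), map_mul (algebraMap A B), map_mul (algebraMap A B),
    map_mul (algebraMap B C), map_mul (algebraMap B C), map_mul (algebraMap B C), map_mul (algebraMap B C),
    ← hw, Algebra.smul_def, map_pow (algebraMap A B), map_pow]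
  ring

set_option maxHeartbeats 3200000 in
/-- The symbol from a family of modifications over the maximal ideals of a modification. -/
theorem tameSymbol_eq_prod_family (hA : ringKrullDim A = 1) {B : Type u} [CommRing B] [Algebra A B]
    (hB : IsFinExt A B (maximalIdeal A)) {a b : A} (ha : a ∈ nonZeroDivisors A) (hb : b ∈ nonZeroDivisors A)
    (hab : a * b ∈ maximalIdeal A) (htB : algebraMap A B (a * b) ∈ nonZeroDivisors B)
    (E : MaximalSpectrum B → Type u) [∀ q, CommRing (E q)]
    [∀ q : MaximalSpectrum B, Algebra (Localization.AtPrime q.asIdeal) (E q)] [∀ q, Algebra A (E q)]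
    [∀ q : MaximalSpectrum B, IsScalarTower A (Localization.AtPrime q.asIdeal) (E q)]
    (hE : ∀ q : MaximalSpectrum B, IsFinExt (Localization.AtPrime q.asIdeal) (E q) (maximalIdeal _))
    (htE' : ∀ q, algebraMap A (E q) (a * b) ∈ nonZeroDivisors (E q))
    [Fintype (MaximalSpectrum B)] [∀ q, Fintype (MaximalSpectrum (E q))]
    [∀ (q : MaximalSpectrum B) (n : MaximalSpectrum (E q)), IsLocalHom (algebraMap A (Localization.AtPrime n.asIdeal))]
    (RA : ∀ x : Σ q, MaximalSpectrum (E q), Rep (algebraMap A (Localization.AtPrime x.2.asIdeal) a)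
      (algebraMap A (Localization.AtPrime x.2.asIdeal) b)) :
    tameSymbol A a b = ∏ q : MaximalSpectrum B, ∏ n : MaximalSpectrum (E q), (RA ⟨q, n⟩).val (ResidueField A) := by
  classical
  have hK : Ring.KrullDimLE 1 A := Ring.krullDimLE_iff.2 hA.le
  haveI := hB.2.1
  haveI := isNoetherian_C A (C := B)
  haveI hKB := krullDimLE_of_finite (B := B) hK
  haveI : Algebra.IsIntegral A B := Algebra.IsIntegral.of_finite A B
  have htq : ∀ q : MaximalSpectrum B, algebraMap A B (a * b) ∈ q.asIdeal := fun q => by
    haveI := q.isMaximal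
    exact show a * b ∈ q.asIdeal.comap (algebraMap A B) from
      (IsLocalRing.eq_maximalIdeal (Ideal.isMaximal_comap_of_isIntegral_of_isMaximal (R := A) q.asIdeal)).symm ▸ hab
  let qq : MaximalSpectrum B → PrimeSpectrum B := fun q => ⟨q.asIdeal, q.isMaximal.isPrime⟩
  have hmin : ∀ q : MaximalSpectrum B, q.asIdeal ∈ (Ideal.span {algebraMap A B (a * b)}).minimalPrimes := fun q =>
    ⟨⟨q.isMaximal.isPrime, (Ideal.span_singleton_le_iff_mem _).2 (htq q)⟩, fun p hp hle => by
      haveI := hp.1
      exact ((isMaximal_of_mem p htB (hp.2 (Ideal.mem_span_singleton_self _))).eq_of_le q.isMaximal.ne_top hle).ge⟩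
  letI : ∀ q, Algebra B (E q) := fun q =>
    ((algebraMap (Localization.AtPrime q.asIdeal) (E q)).comp (algebraMap B (Localization.AtPrime q.asIdeal))).toAlgebra
  haveI : ∀ q : MaximalSpectrum B, IsScalarTower B (Localization.AtPrime q.asIdeal) (E q) := fun q =>
    IsScalarTower.of_algebraMap_eq fun _ => rfl
  haveI : ∀ q : MaximalSpectrum B, IsScalarTower A B (E q) := fun q =>
    IsScalarTower.of_algebraMap_eq fun z => by
      rw [IsScalarTower.algebraMap_apply A (Localization.AtPrime q.asIdeal) (E q),
        IsScalarTower.algebraMap_apply A B (Localization.AtPrime q.asIdeal),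
        ← IsScalarTower.algebraMap_apply B (Localization.AtPrime q.asIdeal) (E q)]
  have htE : ∀ q, algebraMap B (E q) (algebraMap A B (a * b)) ∈ nonZeroDivisors (E q) := fun q => by
    rw [← IsScalarTower.algebraMap_apply]
    exact htE' q
  have hbd : ∀ q, ∃ K : ℕ, ∀ z : E q, ∃ α, algebraMap B (E q) (algebraMap A B (a * b) ^ K) * z =
      algebraMap (Localization.AtPrime q.asIdeal) (E q) α := fun q => by
    obtain ⟨K, hK⟩ := (hE q).2.2
    refine ⟨K, fun z => ?_⟩
    obtain ⟨α, hα⟩ := hK _ (Ideal.pow_mem_pow ((IsLocalization.AtPrime.to_map_mem_maximal_iff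
      (Localization.AtPrime q.asIdeal) q.asIdeal (algebraMap A B (a * b))).2 (htq q)) K) z
    exact ⟨α, by rw [hα, Algebra.smul_def, IsScalarTower.algebraMap_apply B (Localization.AtPrime q.asIdeal) (E q), map_pow]⟩
  obtain ⟨C, hCfin, ⟨K, hKC⟩, ψ, hψ⟩ := exists_glue qq E htB
    (fun n m h => MaximalSpectrum.ext (congrArg PrimeSpectrum.asIdeal h)) hmin (fun q => (hE q).1) htE hbd
  haveI := hCfin
  have hBC : Function.Injective (algebraMap B C) := fun y z h =>
    IsLocalization.injective (Localization.Away (algebraMap A B (a * b))) (Submonoid.powers_le.2 htB)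
      (congrArg Subtype.val h)
  letI : Algebra A C := ((algebraMap B C).comp (algebraMap A B)).toAlgebra
  haveI : IsScalarTower A B C := IsScalarTower.of_algebraMap_eq fun _ => rfl
  have hC : IsFinExt A C (maximalIdeal A) := isFinExt_comp hK (mul_mem ha hb) hB hBC hKC
  haveI := hC.2.1
  haveI := finite_maximalSpectrum A (B := C)
  letI := Fintype.ofFinite (MaximalSpectrum C)
  haveI : ∀ p : MaximalSpectrum C, IsLocalHom (algebraMap A (Localization.AtPrime p.asIdeal)) := isLocalHom_atPrime hC
  -- the points
  letI : ∀ q, Algebra C (E q) := fun q => (ψ q).toRingHom.toAlgebra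
  haveI : ∀ q, IsScalarTower B C (E q) := fun q => IsScalarTower.of_algebraMap_eq fun x => ((ψ q).commutes x).symm
  haveI hloc' : ∀ q : MaximalSpectrum B, IsLocalization (Algebra.algebraMapSubmonoid C q.asIdeal.primeCompl) (E q) := hψ
  haveI : ∀ q, Module.Finite (Localization.AtPrime q.asIdeal) (E q) := fun q => (hE q).2.1
  haveI : ∀ q, Algebra.IsIntegral (Localization.AtPrime q.asIdeal) (E q) := fun q => Algebra.IsIntegral.of_finite _ _
  haveI : Algebra.IsIntegral B C := Algebra.IsIntegral.of_finite B C
  haveI : Algebra.IsIntegral A C := Algebra.IsIntegral.of_finite A C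
  have hqΦ : ∀ (q : MaximalSpectrum B) (n : MaximalSpectrum (E q)),
      (n.asIdeal.comap (algebraMap C (E q))).comap (algebraMap B C) = q.asIdeal := by
    intro q n
    haveI := n.isMaximal
    rw [Ideal.comap_comap, ← IsScalarTower.algebraMap_eq, IsScalarTower.algebraMap_eq B (Localization.AtPrime q.asIdeal) (E q),
      ← Ideal.comap_comap, IsLocalRing.eq_maximalIdeal (Ideal.isMaximal_comap_of_isIntegral_of_isMaximal n.asIdeal)]
    exact Localization.AtPrime.comap_maximalIdeal
  let Φ : (Σ q, MaximalSpectrum (E q)) → MaximalSpectrum C := fun x =>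
    ⟨x.2.asIdeal.comap (algebraMap C (E x.1)), by
      haveI := x.2.isMaximal
      haveI : (x.2.asIdeal.comap (algebraMap C (E x.1))).IsPrime := inferInstance
      exact Ideal.isMaximal_of_isIntegral_of_isMaximal_comap (R := B) _ ((hqΦ x.1 x.2).symm ▸ x.1.isMaximal)⟩
  have hΦinj : Function.Injective Φ := by
    rintro ⟨i, n⟩ ⟨j, m⟩ h
    have h' : n.asIdeal.comap (algebraMap C (E i)) = m.asIdeal.comap (algebraMap C (E j)) := congrArg MaximalSpectrum.asIdeal h
    obtain rfl : i = j := MaximalSpectrum.ext ((hqΦ i n).symm.trans ((congrArg _ h').trans (hqΦ j m)))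
    congr 1
    apply MaximalSpectrum.ext
    rw [← IsLocalization.map_comap (Algebra.algebraMapSubmonoid C i.asIdeal.primeCompl) (E i) n.asIdeal,
      ← IsLocalization.map_comap (Algebra.algebraMapSubmonoid C i.asIdeal.primeCompl) (E i) m.asIdeal]
    exact congrArg (Ideal.map _) h'
  have hΦsurj : Function.Surjective Φ := by
    intro p
    haveI := p.isMaximal
    let q : MaximalSpectrum B := ⟨_, Ideal.isMaximal_comap_of_isIntegral_of_isMaximal (R := B) p.asIdeal⟩
    have hdis : Disjoint (Algebra.algebraMapSubmonoid C q.asIdeal.primeCompl : Set C) p.asIdeal := by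
      rw [Set.disjoint_left]
      rintro _ ⟨c, hc, rfl⟩ hm
      exact hc hm
    have hp : (p.asIdeal.map (algebraMap C (E q))).IsPrime :=
      IsLocalization.isPrime_of_isPrime_disjoint _ (E q) p.asIdeal p.isMaximal.isPrime hdis
    have hcm : (p.asIdeal.map (algebraMap C (E q))).comap (algebraMap C (E q)) = p.asIdeal :=
      IsLocalization.comap_map_of_isPrime_disjoint _ (E q) p.isMaximal.isPrime hdis
    have hmax : (p.asIdeal.map (algebraMap C (E q))).IsMaximal := by
      refine Ideal.isMaximal_of_isIntegral_of_isMaximal_comap (R := Localization.AtPrime q.asIdeal) _ ?_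
      rw [show (p.asIdeal.map (algebraMap C (E q))).comap (algebraMap (Localization.AtPrime q.asIdeal) (E q)) =
        maximalIdeal _ from ?_]
      · exact maximalIdeal.isMaximal _
      · refine (IsLocalization.map_comap q.asIdeal.primeCompl _ _).symm.trans ?_
        simp only [Ideal.under]
        rw [Ideal.comap_comap, ← IsScalarTower.algebraMap_eq, IsScalarTower.algebraMap_eq B C (E q),
          ← Ideal.comap_comap, hcm]
        exact Localization.AtPrime.map_eq_maximalIdeal
    exact ⟨⟨q, ⟨_, hmax⟩⟩, MaximalSpectrum.ext hcm⟩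
  have hR : ∀ p : MaximalSpectrum C, ∃ R : Rep (algebraMap A (Localization.AtPrime p.asIdeal) a)
      (algebraMap A (Localization.AtPrime p.asIdeal) b), ∀ x, Φ x = p →
        R.val (ResidueField A) = (RA x).val (ResidueField A) := by
    intro p
    obtain ⟨⟨q, n⟩, rfl⟩ := hΦsurj p
    haveI h2 : IsLocalization.AtPrime (Localization.AtPrime n.asIdeal) (Φ ⟨q, n⟩).asIdeal :=
      IsLocalization.isLocalization_isLocalization_atPrime_isLocalization
        (Algebra.algebraMapSubmonoid C q.asIdeal.primeCompl) (Localization.AtPrime n.asIdeal) n.asIdeal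
    let e : Localization.AtPrime (Φ ⟨q, n⟩).asIdeal ≃ₐ[C] Localization.AtPrime n.asIdeal :=
      IsLocalization.algEquiv (Φ ⟨q, n⟩).asIdeal.primeCompl _ _
    have he : ∀ z, e.symm.toRingEquiv (algebraMap A (Localization.AtPrime n.asIdeal) z) =
        algebraMap A (Localization.AtPrime (Φ ⟨q, n⟩).asIdeal) z := fun z => by
      rw [IsScalarTower.algebraMap_apply A (E q) (Localization.AtPrime n.asIdeal),
        IsScalarTower.algebraMap_apply A B (E q), IsScalarTower.algebraMap_apply B C (E q),
        ← IsScalarTower.algebraMap_apply C (E q) (Localization.AtPrime n.asIdeal)]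
      exact (e.symm.commutes _).trans (IsScalarTower.algebraMap_apply A C _ z).symm
    refine ⟨(RA ⟨q, n⟩).mapEquiv e.symm.toRingEquiv he, fun x hx => ?_⟩
    obtain rfl := hΦinj hx
    exact Rep.val_mapEquiv _ _ _
  choose R hRv using hR
  rw [tameSymbol_eq_prod hK ha hb C hC R,
    ← Fintype.prod_bijective Φ ⟨hΦinj, hΦsurj⟩ (fun x => (RA x).val (ResidueField A)) _ (fun x => (hRv _ x rfl).symm),
    Fintype.prod_sigma]

theorem tameData_algebra_tower {A Q : Type u} [CommRing A] [CommRing Q] [IsLocalRing Q] [Algebra A Q] {x y : Q}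
    (D : TameData Q x y) (z : A) :
    letI : Algebra A D.B := ((algebraMap Q D.B).comp (algebraMap A Q)).toAlgebra
    ∀ n : MaximalSpectrum D.B, algebraMap A (Localization.AtPrime n.asIdeal) z =
      algebraMap Q (Localization.AtPrime n.asIdeal) (algebraMap A Q z) := by
  letI : Algebra A D.B := ((algebraMap Q D.B).comp (algebraMap A Q)).toAlgebra
  haveI : IsScalarTower A Q D.B := IsScalarTower.of_algebraMap_eq fun _ => rfl
  intro n
  rw [IsScalarTower.algebraMap_apply A D.B (Localization.AtPrime n.asIdeal),
    IsScalarTower.algebraMap_apply A Q D.B, ← IsScalarTower.algebraMap_apply]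

/-- The norm of the value of tame data, through the representations over the base. -/
theorem norm_value {A Q : Type u} [CommRing A] [IsLocalRing A] [CommRing Q] [IsLocalRing Q] [Algebra A Q]
    [IsLocalHom (algebraMap A Q)] {a b : A} (D : TameData Q (algebraMap A Q a) (algebraMap A Q b)) [Algebra A D.B]
    [Fintype (MaximalSpectrum D.B)]
    [∀ n : MaximalSpectrum D.B, IsScalarTower A Q (Localization.AtPrime n.asIdeal)]
    [∀ n : MaximalSpectrum D.B, IsLocalHom (algebraMap A (Localization.AtPrime n.asIdeal))]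
    (R : ∀ n : MaximalSpectrum D.B, Rep (algebraMap A (Localization.AtPrime n.asIdeal) a)
      (algebraMap A (Localization.AtPrime n.asIdeal) b))
    (hπ : ∀ n, (R n).π = D.π n) (hu : ∀ n, (R n).u = D.u₁ n) (hv : ∀ n, (R n).v = D.u₂ n)
    (he : ∀ n, (R n).e = D.e₁ n) (hf : ∀ n, (R n).f = D.e₂ n) :
    ∏ n : MaximalSpectrum D.B, (R n).val (ResidueField A) = Algebra.norm (ResidueField A) D.value := by
  rw [TameData.value, finprod_eq_prod_of_fintype, map_prod]
  refine Finset.prod_congr rfl fun n _ => ?_
  haveI := D.isLocalHom n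
  rw [localFactor_eq, Rep.val, Rep.val, map_pow,
    norm_residue_tower A Q (Localization.AtPrime n.asIdeal)]
  congr 1
  · congr 1
    simp only [Rep.sym, repOf, hu, hv, he, hf]
  · simp only [Rep.wt, repOf, hπ]

set_option maxHeartbeats 1600000 in
/-- Compatibility with finite modifications. -/
theorem tameSymbol_eq_prod_norm (hA : ringKrullDim A = 1) {B : Type u} [CommRing B] [Algebra A B]
    (hB : IsFinExt A B (maximalIdeal A)) [Fintype (MaximalSpectrum B)]
    [hloc : ∀ q : MaximalSpectrum B, IsLocalHom (algebraMap A (Localization.AtPrime q.asIdeal))] {a b : A}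
    (ha : a ∈ nonZeroDivisors A) (hb : b ∈ nonZeroDivisors A) (hab : a * b ∈ maximalIdeal A)
    (htB : algebraMap A B (a * b) ∈ nonZeroDivisors B) :
    tameSymbol A a b = ∏ q : MaximalSpectrum B, Algebra.norm (ResidueField A)
      (tameSymbol (Localization.AtPrime q.asIdeal) (algebraMap A (Localization.AtPrime q.asIdeal) a)
        (algebraMap A (Localization.AtPrime q.asIdeal) b)) := by
  classical
  have hK : Ring.KrullDimLE 1 A := Ring.krullDimLE_iff.2 hA.le
  haveI := hB.2.1
  haveI := isNoetherian_C A (C := B)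
  haveI hKB := krullDimLE_of_finite (B := B) hK
  haveI : Algebra.IsIntegral A B := Algebra.IsIntegral.of_finite A B
  have htq : ∀ q : MaximalSpectrum B, algebraMap A B (a * b) ∈ q.asIdeal := fun q => by
    haveI := q.isMaximal
    exact show a * b ∈ q.asIdeal.comap (algebraMap A B) from
      (IsLocalRing.eq_maximalIdeal (Ideal.isMaximal_comap_of_isIntegral_of_isMaximal (R := A) q.asIdeal)).symm ▸ hab
  let qq : MaximalSpectrum B → PrimeSpectrum B := fun q => ⟨q.asIdeal, q.isMaximal.isPrime⟩
  have hmin : ∀ q : MaximalSpectrum B, q.asIdeal ∈ (Ideal.span {algebraMap A B (a * b)}).minimalPrimes := fun q =>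
    ⟨⟨q.isMaximal.isPrime, (Ideal.span_singleton_le_iff_mem _).2 (htq q)⟩, fun p hp hle => by
      haveI := hp.1
      exact ((isMaximal_of_mem p htB (hp.2 (Ideal.mem_span_singleton_self _))).eq_of_le q.isMaximal.ne_top hle).ge⟩
  have hab' : algebraMap A B a * algebraMap A B b ∈ nonZeroDivisors B := by rwa [← map_mul]
  have hnzq : ∀ (q : MaximalSpectrum B) {x : A}, algebraMap A B x ∈ nonZeroDivisors B →
      algebraMap A (Localization.AtPrime q.asIdeal) x ∈ nonZeroDivisors (Localization.AtPrime q.asIdeal) := fun q x hx => by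
    rw [IsScalarTower.algebraMap_apply A B]
    exact IsLocalization.map_nonZeroDivisors_le q.asIdeal.primeCompl _ ⟨_, hx, rfl⟩
  have hD : ∀ q : MaximalSpectrum B, Nonempty (TameData (Localization.AtPrime q.asIdeal)
      (algebraMap A (Localization.AtPrime q.asIdeal) a) (algebraMap A (Localization.AtPrime q.asIdeal) b)) := fun q =>
    haveI : IsNoetherianRing (Localization.AtPrime q.asIdeal) :=
      IsLocalization.isNoetherianRing q.asIdeal.primeCompl _ ‹IsNoetherianRing B›
    nonempty_tameData (ringKrullDim_atPrime q.asIdeal htB (htq q)) _ _ (hnzq q (mul_mem_nonZeroDivisors.1 hab').1)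
      (hnzq q (mul_mem_nonZeroDivisors.1 hab').2)
  let D := fun q => Classical.choice (hD q)
  let E : MaximalSpectrum B → Type u := fun q => (D q).B
  letI : ∀ q, Algebra A (E q) := fun q =>
    ((algebraMap (Localization.AtPrime q.asIdeal) (E q)).comp (algebraMap A (Localization.AtPrime q.asIdeal))).toAlgebra
  haveI : ∀ q : MaximalSpectrum B, IsScalarTower A (Localization.AtPrime q.asIdeal) (E q) := fun q =>
    IsScalarTower.of_algebraMap_eq fun _ => rfl
  haveI : ∀ (q : MaximalSpectrum B) (n : MaximalSpectrum (E q)),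
      IsScalarTower A (Localization.AtPrime q.asIdeal) (Localization.AtPrime n.asIdeal) := fun q n =>
    IsScalarTower.of_algebraMap_eq fun z => tameData_algebra_tower (D q) z n
  haveI hlA : ∀ (q : MaximalSpectrum B) (n : MaximalSpectrum (E q)),
      IsLocalHom (algebraMap A (Localization.AtPrime n.asIdeal)) := fun q n => by
    haveI := (D q).isLocalHom n
    exact ⟨fun z hz => isUnit_of_map_unit (algebraMap A (Localization.AtPrime q.asIdeal)) z
      (isUnit_of_map_unit (algebraMap (Localization.AtPrime q.asIdeal) (Localization.AtPrime n.asIdeal)) _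
        (tameData_algebra_tower (D q) z n ▸ hz))⟩
  haveI : ∀ q, Module.Finite (Localization.AtPrime q.asIdeal) (E q) := fun q => (D q).isFinExt.2.1
  haveI : ∀ q : MaximalSpectrum B, IsNoetherianRing (Localization.AtPrime q.asIdeal) := fun q =>
    IsLocalization.isNoetherianRing q.asIdeal.primeCompl _ ‹IsNoetherianRing B›
  haveI : ∀ q, Finite (MaximalSpectrum (E q)) := fun q => finite_maximalSpectrum (Localization.AtPrime q.asIdeal)
  letI : ∀ q, Fintype (MaximalSpectrum (E q)) := fun q => Fintype.ofFinite _
  let RA : ∀ x : Σ q, MaximalSpectrum (E q), Rep (algebraMap A (Localization.AtPrime x.2.asIdeal) a)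
      (algebraMap A (Localization.AtPrime x.2.asIdeal) b) := fun x =>
    { π := (D x.1).π x.2, π_mem := (D x.1).π_mem x.2, u := (D x.1).u₁ x.2, v := (D x.1).u₂ x.2,
      e := (D x.1).e₁ x.2, f := (D x.1).e₂ x.2,
      eq₁ := (tameData_algebra_tower (D x.1) a x.2).trans ((D x.1).fac₁ x.2),
      eq₂ := (tameData_algebra_tower (D x.1) b x.2).trans ((D x.1).fac₂ x.2) }
  rw [tameSymbol_eq_prod_family hA hB ha hb hab htB E (fun q => (D q).isFinExt)
    (fun q => by
      show algebraMap (Localization.AtPrime q.asIdeal) (D q).B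
        (algebraMap A (Localization.AtPrime q.asIdeal) (a * b)) ∈ nonZeroDivisors (D q).B
      exact (map_mul (algebraMap A (Localization.AtPrime q.asIdeal)) a b).symm ▸ nonZeroDivisor_tameData (D q)) RA]
  refine Finset.prod_congr rfl fun q _ => ?_
  rw [tameSymbol_eq_value (krullDimLE_localization q.asIdeal) (hnzq q (mul_mem_nonZeroDivisors.1 hab').1)
    (hnzq q (mul_mem_nonZeroDivisors.1 hab').2) (D q)]
  exact norm_value (D q) (fun n => RA ⟨q, n⟩) (fun _ => rfl) (fun _ => rfl) (fun _ => rfl) (fun _ => rfl) (fun _ => rfl)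

end Ext

end Groth.Agent.TameCh
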