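import Groth.Agent.CycDim.Norm
import Mathlib

/-!
Lengths and norms in the fibres of a flat base change.
-/

set_option autoImplicit false
set_option linter.style.haveILetI false

universe u

noncomputable section

namespace Groth.Agent.TameCh.Flat

open IsLocalRing
open CycDim (lenAt)

section Loc

variable {B K : Type u} [CommRing B] [CommRing K] (φ : B →+* K)

/-- Localizing a surjection. -/
theorem quot_loc (hφ : Function.Surjective φ) (Q : Ideal K) [Q.IsPrime] (q : Ideal B) [q.IsPrime] (hq : q = Q.comap φ) :
    Function.Surjective (Localization.localRingHom q Q φ hq) ∧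
      RingHom.ker (Localization.localRingHom q Q φ hq) = (RingHom.ker φ).map (algebraMap B (Localization.AtPrime q)) := by
  subst hq
  have hT : Submonoid.map φ (Q.comap φ).primeCompl = Q.primeCompl := by
    ext x
    refine ⟨fun ⟨y, hy, e⟩ => e ▸ hy, fun hx => ?_⟩
    obtain ⟨y, rfl⟩ := hφ x
    exact ⟨y, hx, rfl⟩
  haveI : IsLocalization (Submonoid.map φ (Q.comap φ).primeCompl) (Localization.AtPrime Q) := hT.symm ▸ inferInstance
  refine ⟨?_, IsLocalization.ker_map (Localization.AtPrime Q) φ hT⟩
  intro x
  obtain ⟨y, hy⟩ := IsLocalization.map_surjective_of_surjective (Q.comap φ).primeCompl (Localization.AtPrime (Q.comap φ))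
    (Localization.AtPrime Q) hφ x
  exact ⟨y, hy⟩

/-- The length of a quotient ring over the ring. -/
theorem length_of_surjective (hφ : Function.Surjective φ) {J : Ideal B} (hJ : RingHom.ker φ = J) :
    Module.length B (B ⧸ J) = Module.length K K := by
  letI := φ.toAlgebra
  rw [← Module.length_eq_of_surjective (R := K) (S := B) (M := K) hφ]
  exact LinearEquiv.length_eq ((Submodule.quotEquivOfEq _ _ (by rw [← hJ]; rfl)).trans
    ((Algebra.linearMap B K).quotKerEquivOfSurjective hφ))

end Loc

/-- The local length of the special fibre. -/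
theorem fibre_length {B R P K : Type u} [CommRing B] [CommRing R] [IsLocalRing R] [CommRing P] [CommRing K] [Algebra R P]
    [Module.Flat R P] (φ : B →+* P) (hφ : Function.Surjective φ) (ψ : P →+* K) (hψ : Function.Surjective ψ)
    (hker : RingHom.ker ψ = (maximalIdeal R).map (algebraMap R P)) (Q : Ideal K) [Q.IsPrime] (q : Ideal B) [q.IsPrime]
    (hq : q = Q.comap (ψ.comp φ)) :
    Module.length (Localization.AtPrime q) (Localization.AtPrime q ⧸ (RingHom.ker φ).map (algebraMap B (Localization.AtPrime q))) =
      Module.length R R * Module.length (Localization.AtPrime Q) (Localization.AtPrime Q) := by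
  obtain ⟨h1, h1'⟩ := quot_loc φ hφ (Q.comap ψ) q (by rw [hq, Ideal.comap_comap])
  obtain ⟨h2, h2'⟩ := quot_loc ψ hψ Q (Q.comap ψ) rfl
  rw [length_of_surjective _ h1 h1', ← length_of_surjective _ h2 h2', hker, Ideal.map_map,
    ← IsScalarTower.algebraMap_eq R P (Localization.AtPrime (Q.comap ψ))]
  haveI : IsLocalHom (algebraMap R (Localization.AtPrime (Q.comap ψ))) := ⟨fun x hx => by
    by_contra hu
    rw [IsScalarTower.algebraMap_apply R P (Localization.AtPrime (Q.comap ψ)),
      IsLocalization.AtPrime.isUnit_to_map_iff (Localization.AtPrime (Q.comap ψ)) (Q.comap ψ)] at hx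
    refine hx (show ψ (algebraMap R P x) ∈ Q from ?_)
    have h0 : algebraMap R P x ∈ RingHom.ker ψ := hker ▸ Ideal.mem_map_of_mem _ ((mem_maximalIdeal x).2 hu)
    rw [RingHom.mem_ker.1 h0]
    exact Q.zero_mem⟩
  rw [← IsLocalRing.length_baseChange R (Localization.AtPrime (Q.comap ψ)) R,
    (TensorProduct.AlgebraTensorModule.rid R (Localization.AtPrime (Q.comap ψ)) (Localization.AtPrime (Q.comap ψ))).length_eq]

/-- Orders along a flat local map. -/
theorem ord_flat {T T' : Type u} [CommRing T] [CommRing T'] [IsLocalRing T] [IsLocalRing T'] [Algebra T T']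
    [IsLocalHom (algebraMap T T')] [Module.Flat T T'] (x : T) :
    Ring.ord T' (algebraMap T T' x) =
      Ring.ord T x * Module.length T' (T' ⧸ (maximalIdeal T).map (algebraMap T T')) := by
  rw [Ring.ord, ← Set.image_singleton, ← Ideal.map_span,
    (Algebra.TensorProduct.quotIdealMapEquivTensorQuot T' (Ideal.span {x})).toLinearEquiv.length_eq,
    IsLocalRing.length_baseChange]
  rfl

/-- Norms through two presentations of a residue field. -/
theorem norm_congr {k B L L' : Type u} [Field k] [CommRing B] [Field L] [Field L'] [Algebra k L] [Algebra k L']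
    (f : B →+* L) (g : B →+* L') (hf : Function.Surjective f) (hg : Function.Surjective g)
    (hfg : RingHom.ker f = RingHom.ker g) (hk : ∀ c : k, ∃ b, f b = algebraMap k L c ∧ g b = algebraMap k L' c) (z : B) :
    Algebra.norm k (f z) = Algebra.norm k (g z) := by
  let ef := RingHom.quotientKerEquivOfSurjective hf
  let eg := RingHom.quotientKerEquivOfSurjective hg
  let e : L ≃+* L' := ef.symm.trans ((Ideal.quotEquivOfEq hfg).trans eg)
  have he : ∀ b, e (f b) = g b := fun b => by
    have h : ef.symm (f b) = Ideal.Quotient.mk _ b := ef.symm_apply_eq.2 rfl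
    show eg (Ideal.quotEquivOfEq hfg (ef.symm (f b))) = _
    rw [h]
    rfl
  let e' : L ≃ₐ[k] L' := AlgEquiv.ofRingEquiv (f := e) fun c => by
    obtain ⟨b, hb, hb'⟩ := hk c
    rw [← hb, he, hb']
  rw [← Algebra.norm_eq_of_algEquiv e' (f z), show e' (f z) = g z from he z]

theorem lenAt_self_ring {K : Type u} [CommRing K] (p : PrimeSpectrum K) :
    lenAt p K = Module.length (Localization.AtPrime p.asIdeal) (Localization.AtPrime p.asIdeal) :=
  LinearEquiv.length_eq ((IsLocalizedModule.iso p.asIdeal.primeCompl
    (Algebra.linearMap K (Localization.AtPrime p.asIdeal))).extendScalarsOfIsLocalization p.asIdeal.primeCompl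
      (Localization.AtPrime p.asIdeal))

/-- The determinant of a multiplication through the composition factors. -/
theorem det_eq_prod {k K : Type u} [Field k] [CommRing K] [Algebra k K] [Module.Finite k K]
    [Fintype (MaximalSpectrum K)] (z : K) (M : Type u) [AddCommGroup M] [Module K M] (hM : IsFiniteLength K M) :
    ∀ [Module k M] [IsScalarTower k K M], (∀ Q : MaximalSpectrum K, lenAt Q.toPrimeSpectrum M ≠ ⊤) ∧
      LinearMap.det ((Algebra.lsmul k k M z : Module.End k M)) =
        ∏ Q : MaximalSpectrum K, Algebra.norm k (Ideal.Quotient.mk Q.asIdeal z) ^ (lenAt Q.toPrimeSpectrum M).toNat := by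
  classical
  induction hM with
  | @of_subsingleton M _ _ _ =>
    intro _ _
    have h0 : ∀ Q : MaximalSpectrum K, lenAt Q.toPrimeSpectrum M = 0 := fun Q => by
      rw [lenAt, Module.length_eq_zero_iff, LocalizedModule.subsingleton_iff]
      exact fun m => ⟨1, Submonoid.one_mem _, Subsingleton.elim _ _⟩
    refine ⟨fun Q => by rw [h0 Q]; exact WithTop.zero_ne_top, ?_⟩
    simp only [h0, ENat.toNat_zero, pow_zero, Finset.prod_const_one]
    rw [show (Algebra.lsmul k k M z : Module.End k M) = LinearMap.id from Subsingleton.elim _ _, LinearMap.det_id]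
  | @of_simple_quotient M _ _ N hs hN ih =>
    intro _ _
    obtain ⟨hN1, hN2⟩ := ih
    have hM : IsFiniteLength K M := IsFiniteLength.of_simple_quotient hN
    haveI : IsNoetherian K M := (isFiniteLength_iff_isNoetherian_isArtinian.1 hM).1
    haveI : Module.Finite k M := Module.Finite.trans K M
    obtain ⟨q, hq, ⟨e⟩⟩ := isSimpleModule_iff_quot_maximal.1 hs
    let Q₀ : MaximalSpectrum K := ⟨q, hq⟩
    have h2 : ∀ Q : MaximalSpectrum K, lenAt Q.toPrimeSpectrum (M ⧸ N) = if Q = Q₀ then 1 else 0 := fun Q => by
      rw [CycNorm.lenAt_congr' _ e]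
      split
      · next h => subst h; exact CycNorm.lenAt_self Q₀.toPrimeSpectrum
      · next h => exact CycNorm.lenAt_of_not_le fun hle => h (MaximalSpectrum.ext (hq.eq_of_le Q.isMaximal.ne_top hle).symm)
    have h3 : ∀ Q : MaximalSpectrum K, lenAt Q.toPrimeSpectrum M = lenAt Q.toPrimeSpectrum N + if Q = Q₀ then 1 else 0 :=
      fun Q => by
        rw [CycNorm.lenAt_add' _ N.subtype N.mkQ N.injective_subtype N.mkQ_surjective (LinearMap.exact_subtype_mkQ N), h2 Q]
    refine ⟨fun Q => ?_, ?_⟩
    · rw [h3 Q]
      refine WithTop.add_ne_top.2 ⟨hN1 Q, ?_⟩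
      split
      · exact ENat.coe_ne_top 1
      · exact ENat.coe_ne_top 0
    · have he : N.restrictScalars k ≤ (N.restrictScalars k).comap (Algebra.lsmul k k M z : Module.End k M) :=
        fun x hx => N.smul_mem z hx
      have hN' : LinearMap.det (LinearMap.restrict (Algebra.lsmul k k M z : Module.End k M) he) =
          LinearMap.det (Algebra.lsmul k k N z : Module.End k N) := rfl
      let ε : ((M ⧸ N.restrictScalars k)) ≃ₗ[k] K ⧸ q :=
        (Submodule.Quotient.restrictScalarsEquiv k N).trans (e.restrictScalars k)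
      have hQ : LinearMap.det ((N.restrictScalars k).mapQ _ (Algebra.lsmul k k M z : Module.End k M) he) =
          Algebra.norm k (Ideal.Quotient.mk q z) := by
        rw [← LinearMap.det_conj _ ε, Algebra.norm_apply]
        congr 1
        refine LinearMap.ext fun y => ?_
        obtain ⟨w, rfl⟩ := ε.surjective y
        obtain ⟨w, rfl⟩ := Submodule.Quotient.mk_surjective _ w
        simp only [LinearMap.coe_comp, LinearEquiv.coe_coe, Function.comp_apply, ε.symm_apply_apply,
          Submodule.mapQ_apply]
        show e (Submodule.Quotient.mk (z • w)) = Ideal.Quotient.mk q z * e (Submodule.Quotient.mk w)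
        rw [Submodule.Quotient.mk_smul, map_smul]
        rfl
      rw [LinearMap.det_eq_det_mul_det (N.restrictScalars k) _ he, hN', hN2, hQ]
      have : ∀ Q : MaximalSpectrum K, (lenAt Q.toPrimeSpectrum M).toNat =
          (lenAt Q.toPrimeSpectrum N).toNat + if Q = Q₀ then 1 else 0 := fun Q => by
        rw [h3 Q]
        split
        · rw [ENat.toNat_add (hN1 Q) (by simp)]; rfl
        · simp
      simp only [this, pow_add, Finset.prod_mul_distrib]
      congr 1
      rw [Finset.prod_eq_single Q₀ (fun Q _ h => by simp [h]) (by simp)]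
      simp [Q₀]

/-- The norm of a finite algebra over a field through its local factors. -/
theorem norm_eq_prod {k K : Type u} [Field k] [CommRing K] [Algebra k K] [Module.Finite k K]
    [Fintype (MaximalSpectrum K)] (z : K) :
    Algebra.norm k z = ∏ Q : MaximalSpectrum K, Algebra.norm k (Ideal.Quotient.mk Q.asIdeal z) ^
      (Module.length (Localization.AtPrime Q.asIdeal) (Localization.AtPrime Q.asIdeal)).toNat := by
  haveI : IsArtinianRing K := IsArtinianRing.of_finite k K
  have hK : IsFiniteLength K K := isFiniteLength_iff_isNoetherian_isArtinian.2 ⟨inferInstance, inferInstance⟩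
  rw [Algebra.norm_apply]
  refine ((det_eq_prod z K hK).2).trans (Finset.prod_congr rfl fun Q _ => ?_)
  rw [lenAt_self_ring]
  rfl

end Groth.Agent.TameCh.Flat
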