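import Groth.Agent.TameCh.Rules
import Groth.Agent.TameCh.FlatNorm

/-!
The symbol and flat base change of the local ring.
-/

set_option autoImplicit false
set_option linter.style.haveILetI false

universe u

noncomputable section

namespace Groth.Agent.TameCh.FlatBC

open IsLocalRing CycAlg
open scoped TensorProduct

variable {A A' C : Type u} [CommRing A] [IsLocalRing A] [CommRing A'] [IsLocalRing A'] [Algebra A A']
  [IsLocalHom (algebraMap A A')] [CommRing C] [Algebra A C] [Module.Finite A C]

omit [IsLocalHom (algebraMap A A')] [Module.Finite A C] [IsLocalRing A] in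
theorem residue_surj [Module.Finite A C] (p : MaximalSpectrum C) :
    Function.Surjective fun c : C => residue (Localization.AtPrime p.asIdeal) (algebraMap C _ c) := by
  haveI := p.isMaximal
  intro z
  obtain ⟨z, rfl⟩ := residue_surjective z
  let T := Localization.AtPrime p.asIdeal
  obtain ⟨⟨c, s⟩, hcs⟩ := IsLocalization.surj p.asIdeal.primeCompl z
  obtain ⟨w, i, hi, hwi⟩ := p.isMaximal.exists_inv (x := (s : C)) s.2
  refine ⟨c * w, ?_⟩
  show residue T (algebraMap C T (c * w)) = residue T z
  have hi0 : residue T (algebraMap C T i) = 0 := (residue_eq_zero_iff _).2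
    ((IsLocalization.AtPrime.to_map_mem_maximal_iff T p.asIdeal i).2 hi)
  have h1 : residue T (algebraMap C T w) * residue T (algebraMap C T s) = 1 := by
    have := congrArg (fun x => residue T (algebraMap C T x)) hwi
    simpa [hi0] using this
  calc residue T (algebraMap C T (c * w)) = residue T (algebraMap C T c) * residue T (algebraMap C T w) := by
        rw [map_mul, map_mul]
    _ = residue T z * (residue T (algebraMap C T w) * residue T (algebraMap C T s)) := by
        rw [show algebraMap C T c = z * algebraMap C T s from hcs.symm, map_mul]; ring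
    _ = residue T z := by rw [h1, mul_one]

/-- The inclusion of the algebra into its base change. -/
abbrev incl : C →ₐ[A] A' ⊗[A] C := Algebra.TensorProduct.includeRight

theorem pull_aux (p' : MaximalSpectrum (A' ⊗[A] C)) : (p'.asIdeal.comap (incl (A := A) (A' := A'))).IsMaximal := by
  haveI := p'.isMaximal
  haveI : Algebra.IsIntegral A C := Algebra.IsIntegral.of_finite A C
  haveI : Algebra.IsIntegral A' (A' ⊗[A] C) := Algebra.IsIntegral.of_finite A' _
  haveI := (Ideal.comap_isPrime (incl (A := A) (A' := A') (C := C)) p'.asIdeal)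
  refine Ideal.isMaximal_of_isIntegral_of_isMaximal_comap (R := A) _ ?_
  have h : (p'.asIdeal.comap (incl (A := A) (A' := A'))).comap (algebraMap A C) =
      (p'.asIdeal.comap (algebraMap A' (A' ⊗[A] C))).comap (algebraMap A A') := by
    rw [Ideal.comap_comap, ← IsScalarTower.algebraMap_eq]
    ext x
    show incl (algebraMap A C x) ∈ p'.asIdeal ↔ algebraMap A (A' ⊗[A] C) x ∈ p'.asIdeal
    rw [AlgHom.commutes]
  rw [h, IsLocalRing.eq_maximalIdeal (Ideal.isMaximal_comap_of_isIntegral_of_isMaximal (R := A') p'.asIdeal),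
    maximalIdeal_comap]
  exact maximalIdeal.isMaximal A

/-- The maximal ideal below. -/
def pullM (p' : MaximalSpectrum (A' ⊗[A] C)) : MaximalSpectrum C := ⟨_, pull_aux p'⟩

/-- The map of local rings. -/
def lMap (p' : MaximalSpectrum (A' ⊗[A] C)) :
    Localization.AtPrime (pullM p').asIdeal →+* Localization.AtPrime p'.asIdeal :=
  Localization.localRingHom (pullM p').asIdeal p'.asIdeal (incl (A := A) (A' := A')).toRingHom rfl

theorem lMap_apply (p' : MaximalSpectrum (A' ⊗[A] C)) (c : C) :
    lMap p' (algebraMap C _ c) = algebraMap (A' ⊗[A] C) (Localization.AtPrime p'.asIdeal) (incl c) :=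
  Localization.localRingHom_to_map _ _ _ rfl _

theorem lMap_algebraMap (p' : MaximalSpectrum (A' ⊗[A] C)) (z : A) :
    lMap p' (algebraMap A (Localization.AtPrime (pullM p').asIdeal) z) =
      algebraMap A' (Localization.AtPrime p'.asIdeal) (algebraMap A A' z) := by
  rw [IsScalarTower.algebraMap_apply A C (Localization.AtPrime (pullM p').asIdeal), lMap_apply, AlgHom.commutes,
    IsScalarTower.algebraMap_apply A' (A' ⊗[A] C) (Localization.AtPrime p'.asIdeal),
    ← IsScalarTower.algebraMap_apply A A' (A' ⊗[A] C)]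

instance (p' : MaximalSpectrum (A' ⊗[A] C)) : IsLocalHom (lMap p') :=
  Localization.isLocalHom_localRingHom (pullM p').asIdeal p'.asIdeal (incl (A := A) (A' := A')).toRingHom rfl

/-- Pushing a representation to the base change. -/
def pushR {a b : A} (p' : MaximalSpectrum (A' ⊗[A] C))
    (R : Rep (algebraMap A (Localization.AtPrime (pullM p').asIdeal) a) (algebraMap A (Localization.AtPrime (pullM p').asIdeal) b))
    (hp : lMap p' R.π ∈ nonZeroDivisors (Localization.AtPrime p'.asIdeal)) :
    Rep (algebraMap A' (Localization.AtPrime p'.asIdeal) (algebraMap A A' a))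
      (algebraMap A' (Localization.AtPrime p'.asIdeal) (algebraMap A A' b)) where
  π := lMap p' R.π
  π_mem := hp
  u := Units.map (lMap p') R.u
  v := Units.map (lMap p') R.v
  e := R.e
  f := R.f
  eq₁ := ((lMap_algebraMap p' a).symm.trans ((congrArg (lMap p') R.eq₁).trans (by rw [map_mul, map_pow]; rfl)))
  eq₂ := ((lMap_algebraMap p' b).symm.trans ((congrArg (lMap p') R.eq₂).trans (by rw [map_mul, map_pow]; rfl)))

variable [Module.Flat A A']

theorem ord_lMap (p' : MaximalSpectrum (A' ⊗[A] C)) (x : Localization.AtPrime (pullM p').asIdeal) :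
    Ring.ord (Localization.AtPrime p'.asIdeal) (lMap p' x) = Ring.ord (Localization.AtPrime (pullM p').asIdeal) x *
      Module.length (Localization.AtPrime p'.asIdeal) (Localization.AtPrime p'.asIdeal ⧸
        ((pullM p').asIdeal.map (incl (A := A) (A' := A'))).map (algebraMap (A' ⊗[A] C) (Localization.AtPrime p'.asIdeal))) := by
  letI : Algebra C (A' ⊗[A] C) := Algebra.TensorProduct.rightAlgebra
  letI := (lMap p').toAlgebra
  haveI : IsLocalHom (algebraMap (Localization.AtPrime (pullM p').asIdeal) (Localization.AtPrime p'.asIdeal)) :=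
    inferInstanceAs (IsLocalHom (lMap p'))
  haveI : IsScalarTower C (Localization.AtPrime (pullM p').asIdeal) (Localization.AtPrime p'.asIdeal) :=
    IsScalarTower.of_algebraMap_eq fun c => (lMap_apply p' c).symm
  haveI : Module.Flat C (A' ⊗[A] C) :=
    Module.Flat.isBaseChange (R := A) (M := A') (S := C) (A' ⊗[A] C) (TensorProduct.isPushout' (R := A) (S := A') (T := C)).out
  haveI : Module.Flat (Localization.AtPrime (pullM p').asIdeal) (Localization.AtPrime p'.asIdeal) :=
    (Module.flat_iff_of_isLocalization (Localization.AtPrime (pullM p').asIdeal) (pullM p').asIdeal.primeCompl _).2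
      inferInstance
  refine (Flat.ord_flat (T := Localization.AtPrime (pullM p').asIdeal) (T' := Localization.AtPrime p'.asIdeal) x).trans ?_
  congr 1
  rw [← Localization.AtPrime.map_eq_maximalIdeal, Ideal.map_map, ← IsScalarTower.algebraMap_eq,
    show Ideal.map (incl (A := A) (A' := A') (C := C)) (pullM p').asIdeal =
      Ideal.map (algebraMap C (A' ⊗[A] C)) (pullM p').asIdeal from rfl,
    Ideal.map_map, ← IsScalarTower.algebraMap_eq]

omit [Module.Flat A A'] in
theorem sym_lMap {a b : A} (p' : MaximalSpectrum (A' ⊗[A] C))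
    (R : Rep (algebraMap A (Localization.AtPrime (pullM p').asIdeal) a) (algebraMap A (Localization.AtPrime (pullM p').asIdeal) b))
    (hp : lMap p' R.π ∈ nonZeroDivisors (Localization.AtPrime p'.asIdeal)) :
    (pushR p' R hp).sym = ResidueField.map (lMap p') R.sym := by
  simp only [Rep.sym, pushR, map_mul, map_pow, map_inv₀, map_neg, map_one]
  rfl

set_option maxHeartbeats 1600000 in
/-- The product over the maximal ideals above a given one. -/
theorem fibre_prod [Fintype (MaximalSpectrum (A' ⊗[A] C))]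
    [∀ p : MaximalSpectrum C, IsLocalHom (algebraMap A (Localization.AtPrime p.asIdeal))]
    [∀ p' : MaximalSpectrum (A' ⊗[A] C), IsLocalHom (algebraMap A' (Localization.AtPrime p'.asIdeal))] {a b : A}
    (R : ∀ p : MaximalSpectrum C, Rep (algebraMap A (Localization.AtPrime p.asIdeal) a) (algebraMap A (Localization.AtPrime p.asIdeal) b))
    (hnz : ∀ p' : MaximalSpectrum (A' ⊗[A] C), lMap p' (R (pullM p')).π ∈ nonZeroDivisors (Localization.AtPrime p'.asIdeal))
    (p : MaximalSpectrum C) :
    haveI := Classical.decEq (MaximalSpectrum C)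
    ∏ p' ∈ Finset.univ.filter (fun p' : MaximalSpectrum (A' ⊗[A] C) => pullM p' = p),
      (pushR p' (R (pullM p')) (hnz p')).val (ResidueField A') =
      ResidueField.map (algebraMap A A') ((R p).val (ResidueField A)) ^
        (Module.length A' (A' ⧸ Ideal.map (algebraMap A A') (maximalIdeal A))).toNat := by
  classical
  haveI := p.isMaximal
  let k := ResidueField A
  let kp := ResidueField (Localization.AtPrime p.asIdeal)
  let χ : C →ₐ[A] kp := IsScalarTower.toAlgHom A C kp
  have hχ : Function.Surjective χ := residue_surj (A := A) p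
  have hχk : RingHom.ker χ = p.asIdeal := by
    ext c
    show residue (Localization.AtPrime p.asIdeal) (algebraMap C _ c) = 0 ↔ c ∈ p.asIdeal
    rw [residue_eq_zero_iff, IsLocalization.AtPrime.to_map_mem_maximal_iff (Localization.AtPrime p.asIdeal) p.asIdeal]
  haveI : Module.Finite A kp := Module.Finite.of_surjective χ.toLinearMap hχ
  haveI : FiniteDimensional k kp := Module.Finite.of_restrictScalars_finite A _ _
  let mA' : Ideal A' := Ideal.map (algebraMap A A') (maximalIdeal A)
  have hle : mA' ≤ maximalIdeal A' := Ideal.map_le_iff_le_comap.2 (maximalIdeal_comap _).ge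
  haveI : Nontrivial (A' ⧸ mA') :=
    Ideal.Quotient.nontrivial_iff.2 fun h => (maximalIdeal.isMaximal A').ne_top (top_le_iff.1 (h ▸ hle))
  haveI : IsLocalRing (A' ⧸ mA') := IsLocalRing.of_surjective' (Ideal.Quotient.mk mA') Ideal.Quotient.mk_surjective
  letI : Algebra k (A' ⧸ mA') :=
    (Ideal.Quotient.lift (maximalIdeal A) (algebraMap A (A' ⧸ mA'))
      fun x hx => Ideal.Quotient.eq_zero_iff_mem.2 (Ideal.mem_map_of_mem _ hx)).toAlgebra
  haveI : IsScalarTower A k (A' ⧸ mA') := IsScalarTower.of_algebraMap_eq fun _ => rfl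
  haveI : TensorProduct.CompatibleSMul A k (A' ⧸ mA') kp :=
    TensorProduct.CompatibleSMul.of_algebraMap_surjective _ _ residue_surjective
  let φ₀ : A' ⊗[A] C →ₐ[A] (A' ⧸ mA') ⊗[A] kp := Algebra.TensorProduct.map (Ideal.Quotient.mkₐ A mA') χ
  let e₀ : (A' ⧸ mA') ⊗[A] kp ≃ₐ[A] (A' ⧸ mA') ⊗[k] kp :=
    Algebra.TensorProduct.equivOfCompatibleSMul k A A (A' ⧸ mA') kp
  let φ : A' ⊗[A] C →+* (A' ⧸ mA') ⊗[k] kp := (e₀.toAlgHom.comp φ₀).toRingHom
  have hφ : Function.Surjective φ :=
    e₀.surjective.comp (Algebra.TensorProduct.map_surjective _ _ Ideal.Quotient.mk_surjective hχ)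
  have hφk : RingHom.ker φ = p.asIdeal.map (incl (A := A) (A' := A')) := by
    have h1 : RingHom.ker φ = RingHom.ker φ₀ :=
      Ideal.ext fun x => ⟨fun h => e₀.injective ((h : e₀ (φ₀ x) = 0).trans (map_zero e₀).symm),
        fun h => show e₀ (φ₀ x) = 0 by rw [show φ₀ x = 0 from h, map_zero]⟩
    rw [h1, Algebra.TensorProduct.map_ker _ _ Ideal.Quotient.mk_surjective hχ, hχk]
    refine sup_eq_right.2 ?_
    rw [show RingHom.ker (Ideal.Quotient.mkₐ A mA') = mA' from Ideal.mk_ker, Ideal.map_le_iff_le_comap,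
      Ideal.map_le_iff_le_comap]
    intro x hx
    rw [Ideal.mem_comap, Ideal.mem_comap, Algebra.TensorProduct.includeLeft_apply, Algebra.algebraMap_eq_smul_one, TensorProduct.smul_tmul, ← Algebra.algebraMap_eq_smul_one]
    refine Ideal.mem_map_of_mem (incl (A := A) (A' := A')) ?_
    haveI : Algebra.IsIntegral A C := Algebra.IsIntegral.of_finite A C
    exact show x ∈ p.asIdeal.comap (algebraMap A C) from
      (IsLocalRing.eq_maximalIdeal (Ideal.isMaximal_comap_of_isIntegral_of_isMaximal (R := A) p.asIdeal)).symm ▸ hx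
  let ρ : (A' ⧸ mA') →ₐ[k] ResidueField A' :=
    { toRingHom := Ideal.Quotient.lift mA' (residue A') fun x hx => (residue_eq_zero_iff x).2 (hle hx)
      commutes' := fun c => by
        obtain ⟨c, rfl⟩ := residue_surjective c
        rfl }
  have hρ : Function.Surjective ρ := fun c => by
    obtain ⟨c, rfl⟩ := residue_surjective c
    exact ⟨Ideal.Quotient.mk mA' c, rfl⟩
  have hρk : RingHom.ker ρ = maximalIdeal (A' ⧸ mA') :=
    IsLocalRing.eq_maximalIdeal (RingHom.ker_isMaximal_of_surjective (ρ : (A' ⧸ mA') →+* ResidueField A') hρ)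
  let ψ : (A' ⧸ mA') ⊗[k] kp →+* ResidueField A' ⊗[k] kp :=
    (Algebra.TensorProduct.map ρ (AlgHom.id k kp)).toRingHom
  have hψ : Function.Surjective ψ := Algebra.TensorProduct.map_surjective _ _ hρ Function.surjective_id
  have hψk : RingHom.ker ψ = (maximalIdeal (A' ⧸ mA')).map (algebraMap (A' ⧸ mA') ((A' ⧸ mA') ⊗[k] kp)) := by
    show RingHom.ker (Algebra.TensorProduct.map ρ (AlgHom.id k kp)) = _
    rw [Algebra.TensorProduct.map_ker _ _ hρ Function.surjective_id, hρk,
      show RingHom.ker (AlgHom.id k kp) = ⊥ from (RingHom.injective_iff_ker_eq_bot _).1 Function.injective_id, Ideal.map_bot,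
      sup_bot_eq]
    rfl
  let η : A' ⊗[A] C →+* ResidueField A' ⊗[k] kp := ψ.comp φ
  have hη : Function.Surjective η := hψ.comp hφ
  have hφ1 : ∀ (x : A') (c : C), φ (x ⊗ₜ c) = Ideal.Quotient.mk mA' x ⊗ₜ χ c := fun _ _ => rfl
  haveI : IsArtinianRing (ResidueField A' ⊗[k] kp) := IsArtinianRing.of_finite (ResidueField A') _
  letI := Fintype.ofFinite (MaximalSpectrum (ResidueField A' ⊗[k] kp))
  -- the maximal ideals above
  let Φ : MaximalSpectrum (ResidueField A' ⊗[k] kp) → MaximalSpectrum (A' ⊗[A] C) := fun Q =>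
    ⟨Q.asIdeal.comap η, by haveI := Q.isMaximal; exact Ideal.comap_isMaximal_of_surjective η hη⟩
  have hΦp : ∀ Q, pullM (Φ Q) = p := fun Q => MaximalSpectrum.ext
    ((p.isMaximal.eq_of_le (pullM (Φ Q)).isMaximal.ne_top fun c hc => show η (incl c) ∈ Q.asIdeal by
      have h0 : φ (incl c) = 0 := RingHom.mem_ker.1 (hφk.symm ▸ Ideal.mem_map_of_mem (incl (A := A) (A' := A')) hc)
      rw [show η (incl c) = ψ (φ (incl c)) from rfl, h0, map_zero]
      exact Q.asIdeal.zero_mem).symm)
  have hkerη : ∀ p' : MaximalSpectrum (A' ⊗[A] C), pullM p' = p → RingHom.ker η ≤ p'.asIdeal := by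
    intro p' h
    haveI := p'.isMaximal
    have hmk : maximalIdeal (A' ⧸ mA') = (maximalIdeal A').map (Ideal.Quotient.mk mA') := by
      rcases Ideal.map_eq_top_or_isMaximal_of_surjective _ (Ideal.Quotient.mk_surjective (I := mA'))
        (maximalIdeal.isMaximal A') with h' | h'
      · refine absurd h' fun h' => (maximalIdeal.isMaximal A').ne_top ?_
        have := congrArg (Ideal.comap (Ideal.Quotient.mk mA')) h'
        rwa [Ideal.comap_map_quotientMk, sup_eq_right.2 hle, Ideal.comap_top] at this
      · exact (IsLocalRing.eq_maximalIdeal h').symm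
    have h1 : RingHom.ker ψ = ((maximalIdeal A').map (algebraMap A' (A' ⊗[A] C))).map φ := by
      rw [hψk, hmk, Ideal.map_map, Ideal.map_map]
      congr 1
      refine RingHom.ext fun x => ?_
      show Ideal.Quotient.mk mA' x ⊗ₜ[k] (1 : kp) = φ (x ⊗ₜ 1)
      rw [hφ1, map_one]
    rw [← RingHom.comap_ker, h1, Ideal.comap_map_of_surjective φ hφ, sup_le_iff]
    refine ⟨Ideal.map_le_iff_le_comap.2
      (IsLocalRing.eq_maximalIdeal (Ideal.isMaximal_comap_of_isIntegral_of_isMaximal (R := A') p'.asIdeal)).ge, ?_⟩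
    rw [← RingHom.ker_eq_comap_bot, hφk, Ideal.map_le_iff_le_comap]
    exact (congrArg MaximalSpectrum.asIdeal h).ge
  haveI : Algebra.IsIntegral A' (A' ⊗[A] C) := Algebra.IsIntegral.of_finite A' _
  have hΦinj : Function.Injective Φ := fun Q Q' h =>
    MaximalSpectrum.ext (Ideal.comap_injective_of_surjective η hη (congrArg MaximalSpectrum.asIdeal h))
  have hfilter : Finset.univ.filter (fun p' : MaximalSpectrum (A' ⊗[A] C) => pullM p' = p) = Finset.univ.image Φ := by
    ext p'
    simp only [Finset.mem_filter, Finset.mem_univ, true_and, Finset.mem_image]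
    refine ⟨fun h => ?_, fun ⟨Q, hQ⟩ => hQ ▸ hΦp Q⟩
    have hc : (p'.asIdeal.map η).comap η = p'.asIdeal := by
      rw [Ideal.comap_map_of_surjective η hη, ← RingHom.ker_eq_comap_bot, sup_eq_left.2 (hkerη p' h)]
    exact ⟨⟨p'.asIdeal.map η, (Ideal.map_eq_top_or_isMaximal_of_surjective η hη p'.isMaximal).resolve_left fun ht =>
      p'.isMaximal.ne_top (by rw [← hc, ht, Ideal.comap_top])⟩, MaximalSpectrum.ext hc⟩
  obtain ⟨z, hz⟩ := hχ (R p).sym
  have hterm : ∀ p' : MaximalSpectrum (A' ⊗[A] C), pullM p' = p →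
      (pushR p' (R (pullM p')) (hnz p')).val (ResidueField A') =
        Algebra.norm (ResidueField A') (residue (Localization.AtPrime p'.asIdeal) (algebraMap (A' ⊗[A] C) (Localization.AtPrime p'.asIdeal) (incl z))) ^
          ((Ring.ord (Localization.AtPrime p.asIdeal) (R p).π).toNat *
            (Module.length (Localization.AtPrime p'.asIdeal) (Localization.AtPrime p'.asIdeal ⧸
              (p.asIdeal.map (incl (A := A) (A' := A'))).map (algebraMap (A' ⊗[A] C) (Localization.AtPrime p'.asIdeal)))).toNat) := by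
    intro p' h
    subst h
    rw [Rep.val, Rep.wt, sym_lMap, show (pushR p' (R (pullM p')) (hnz p')).π = lMap p' (R (pullM p')).π from rfl,
      ord_lMap, ENat.toNat_mul, ← hz]
    show Algebra.norm _ (ResidueField.map (lMap p') (residue _ (algebraMap C _ z))) ^ _ = _
    rw [ResidueField.map_residue, lMap_apply]
  rw [Finset.prod_congr rfl fun p' hp' => hterm p' (Finset.mem_filter.1 hp').2, hfilter,
    Finset.prod_image fun Q _ Q' _ h => hΦinj h]
  have hQ : ∀ Q : MaximalSpectrum (ResidueField A' ⊗[k] kp),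
      Algebra.norm (ResidueField A') (residue (Localization.AtPrime (Φ Q).asIdeal) (algebraMap (A' ⊗[A] C) (Localization.AtPrime (Φ Q).asIdeal) (incl z))) =
        Algebra.norm (ResidueField A') (Ideal.Quotient.mk Q.asIdeal ((1 : ResidueField A') ⊗ₜ[k] (R p).sym)) := by
    intro Q
    haveI := Q.isMaximal
    haveI := (Φ Q).isMaximal
    letI := Ideal.Quotient.field Q.asIdeal
    rw [show (1 : ResidueField A') ⊗ₜ[k] (R p).sym = η (incl z) by
      show _ = ψ (φ ((1 : A') ⊗ₜ z))
      rw [hφ1, hz]; rfl]
    refine Flat.norm_congr ((residue (Localization.AtPrime (Φ Q).asIdeal)).comp (algebraMap (A' ⊗[A] C) _))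
      ((Ideal.Quotient.mk Q.asIdeal).comp η) (residue_surj (A := A') (Φ Q)) (Ideal.Quotient.mk_surjective.comp hη)
      ?_ (fun c => ?_) (incl z)
    · ext w
      simp only [RingHom.mem_ker, RingHom.comp_apply, residue_eq_zero_iff, IsLocalization.AtPrime.to_map_mem_maximal_iff,
        Ideal.Quotient.eq_zero_iff_mem]
      exact IsLocalization.AtPrime.to_map_mem_maximal_iff (Localization.AtPrime (Φ Q).asIdeal) (Φ Q).asIdeal w
    · obtain ⟨c, rfl⟩ := residue_surjective c
      refine ⟨algebraMap A' _ c, ?_, ?_⟩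
      · show residue _ (algebraMap _ _ (algebraMap A' (A' ⊗[A] C) c)) = _
        rw [← IsScalarTower.algebraMap_apply]
        rfl
      · show Ideal.Quotient.mk Q.asIdeal (ψ (φ (c ⊗ₜ 1))) = _
        rw [hφ1, map_one]
        rfl
  have hL : Module.length (A' ⧸ mA') (A' ⧸ mA') = Module.length A' (A' ⧸ mA') :=
    (Module.length_eq_of_surjective (R := A' ⧸ mA') (S := A') (M := A' ⧸ mA') Ideal.Quotient.mk_surjective).symm
  have hlen : ∀ Q : MaximalSpectrum (ResidueField A' ⊗[k] kp),
      Module.length (Localization.AtPrime (Φ Q).asIdeal) (Localization.AtPrime (Φ Q).asIdeal ⧸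
        (p.asIdeal.map (incl (A := A) (A' := A'))).map (algebraMap (A' ⊗[A] C) (Localization.AtPrime (Φ Q).asIdeal))) =
        Module.length A' (A' ⧸ mA') * Module.length (Localization.AtPrime Q.asIdeal) (Localization.AtPrime Q.asIdeal) := by
    intro Q
    rw [← hL, ← hφk]
    exact Flat.fibre_length φ hφ ψ hψ hψk Q.asIdeal (Φ Q).asIdeal rfl
  simp only [hQ, hlen, ENat.toNat_mul]
  have hnorm : ResidueField.map (algebraMap A A') (Algebra.norm k (R p).sym) =
      Algebra.norm (ResidueField A') ((1 : ResidueField A') ⊗ₜ[k] (R p).sym) := by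
    rw [Algebra.norm_apply, Algebra.norm_apply]
    refine (LinearMap.det_baseChange _).symm.trans (congrArg _ ?_)
    ext w
    simp
    exact ((Algebra.TensorProduct.tmul_mul_tmul _ _ _ _).trans (by rw [one_mul])).symm
  rw [Rep.val, Rep.wt, map_pow, hnorm, Flat.norm_eq_prod, ← Finset.prod_pow, ← Finset.prod_pow]
  refine Finset.prod_congr rfl fun Q _ => ?_
  rw [← pow_mul, ← pow_mul]
  congr 1
  ring

omit [IsLocalHom (algebraMap A A')] [Module.Finite A C] [IsLocalRing A] [IsLocalRing A'] in
/-- Regular elements stay regular after the base change. -/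
theorem incl_mem_nonZeroDivisors {t : A} (ht : algebraMap A C t ∈ nonZeroDivisors C) :
    algebraMap A (A' ⊗[A] C) t ∈ nonZeroDivisors (A' ⊗[A] C) := by
  have h1 : IsSMulRegular C t := fun x y h => by
    simp only [Algebra.smul_def] at h
    exact (mul_cancel_left_mem_nonZeroDivisors ht).1 h
  have h2 : IsSMulRegular (A' ⊗[A] C) t := IsSMulRegular.lTensor A' h1
  rw [mem_nonZeroDivisors_iff_right]
  intro z hz
  exact h2 (by
    show t • z = t • (0 : A' ⊗[A] C)
    rw [Algebra.smul_def, mul_comm, hz, smul_zero])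

omit [IsLocalHom (algebraMap A A')] [IsLocalRing A] [IsLocalRing A'] in
theorem map_mem_nonZeroDivisors {t : A} (ht : t ∈ nonZeroDivisors A) :
    algebraMap A A' t ∈ nonZeroDivisors A' := by
  have h2 : IsSMulRegular (A' ⊗[A] A) t := IsSMulRegular.lTensor A' fun x y h => (mul_cancel_left_mem_nonZeroDivisors ht).1 h
  rw [mem_nonZeroDivisors_iff_right]
  intro z hz
  have h3 : z ⊗ₜ[A] (1 : A) = 0 := h2 (by
    show t • (z ⊗ₜ[A] (1 : A)) = t • (0 : A' ⊗[A] A)
    rw [TensorProduct.smul_tmul', Algebra.smul_def, mul_comm, hz, TensorProduct.zero_tmul, smul_zero])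
  simpa using congrArg (TensorProduct.rid A A') h3

omit [Module.Finite A C] [IsLocalHom (algebraMap A A')] in
/-- The base change of a finite modification. -/
theorem isFinExt_baseChange [IsNoetherianRing A'] (hK : Ring.KrullDimLE 1 A') (hC : IsFinExt A C (maximalIdeal A))
    {t : A} (ht : t ∈ maximalIdeal A) (htn : t ∈ nonZeroDivisors A) :
    IsFinExt A' (A' ⊗[A] C) (maximalIdeal A') := by
  obtain ⟨hinj, hfin, k, hk⟩ := hC
  refine ⟨?_, inferInstance, ?_⟩
  · have h1 : Function.Injective ((Algebra.linearMap A C).lTensor A') :=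
      Module.Flat.lTensor_preserves_injective_linearMap _ hinj
    intro x y h
    refine (TensorProduct.rid A A').symm.injective (h1 ?_)
    simpa [Algebra.TensorProduct.algebraMap_apply] using h
  · obtain ⟨j, hj⟩ : ∃ j, maximalIdeal A' ^ j ≤ Ideal.span {algebraMap A A' t ^ k} := by
      refine Ideal.exists_pow_le_of_le_radical_of_fg ?_ (IsNoetherian.noetherian _)
      rw [Ideal.radical_eq_sInf]
      refine le_sInf ?_
      rintro P ⟨hP, hPp⟩
      haveI : P.IsPrime := hPp
      exact (IsLocalRing.eq_maximalIdeal (isMaximal_of_mem P (map_mem_nonZeroDivisors htn)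
        (hPp.mem_of_pow_mem k (hP (Ideal.mem_span_singleton_self _))))).ge
    refine ⟨j, fun r hr z => ?_⟩
    obtain ⟨d, rfl⟩ := Ideal.mem_span_singleton'.1 (hj hr)
    have key : t ^ k • z ∈ (algebraMap A' (A' ⊗[A] C)).range := by
      induction z using TensorProduct.induction_on with
      | zero => rw [smul_zero]; exact zero_mem _
      | add x y hx hy => rw [smul_add]; exact add_mem hx hy
      | tmul x c =>
        obtain ⟨w, hw⟩ := hk _ (Ideal.pow_mem_pow ht k) c
        refine ⟨w • x, ?_⟩
        rw [← TensorProduct.tmul_smul, ← hw, Algebra.TensorProduct.algebraMap_apply, Algebra.algebraMap_self_apply,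
          TensorProduct.smul_tmul, ← Algebra.algebraMap_eq_smul_one]
    obtain ⟨w, hw⟩ := key
    refine ⟨d * w, ?_⟩
    rw [map_mul, hw, mul_smul, ← map_pow, algebraMap_smul, Algebra.smul_def d]

set_option maxHeartbeats 1600000 in
/-- The symbol after a flat base change. -/
theorem tameSymbol_map [IsNoetherianRing A] [IsNoetherianRing A'] (hA : ringKrullDim A = 1) (hA' : ringKrullDim A' = 1)
    {a b : A} (ha : a ∈ nonZeroDivisors A) (hb : b ∈ nonZeroDivisors A) :
    ResidueField.map (algebraMap A A') (tameSymbol A a b) ^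
      (Module.length A' (A' ⧸ Ideal.map (algebraMap A A') (maximalIdeal A))).toNat =
      tameSymbol A' (algebraMap A A' a) (algebraMap A A' b) := by
  classical
  by_cases hab : a * b ∈ maximalIdeal A
  swap
  · have hu : IsUnit (a * b) := not_not.1 fun h => hab ((mem_maximalIdeal _).2 h)
    rw [tameSymbol_eq_one (isUnit_of_mul_isUnit_left hu) (isUnit_of_mul_isUnit_right hu),
      tameSymbol_eq_one ((isUnit_of_mul_isUnit_left hu).map (algebraMap A A')) ((isUnit_of_mul_isUnit_right hu).map (algebraMap A A')),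
      map_one, one_pow]
  have hK : Ring.KrullDimLE 1 A := Ring.krullDimLE_iff.2 hA.le
  have hK' : Ring.KrullDimLE 1 A' := Ring.krullDimLE_iff.2 hA'.le
  obtain ⟨C, _, _, hC, hsp⟩ := exists_common hA [a, b] (by simp [ha, hb])
  haveI := hC.2.1
  choose π hπ hx using hsp
  choose u e hu using fun p => hx p a (by simp)
  choose v f hv using fun p => hx p b (by simp)
  let R : ∀ p : MaximalSpectrum C, Rep (algebraMap A (Localization.AtPrime p.asIdeal) a)
    (algebraMap A (Localization.AtPrime p.asIdeal) b) := fun p => ⟨π p, hπ p, u p, v p, e p, f p, hu p, hv p⟩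
  have htC : algebraMap A C (a * b) ∈ nonZeroDivisors C := by
    rw [mem_nonZeroDivisors_iff_right]
    intro y hy
    refine eq_zero_of_localization y fun m hm => ?_
    let p : MaximalSpectrum C := ⟨m, hm⟩
    have h := congrArg (algebraMap C (Localization.AtPrime m)) hy
    rw [map_mul, map_zero, ← IsScalarTower.algebraMap_apply, map_mul, hu p, hv p] at h
    exact (mem_nonZeroDivisors_iff_right.1 (mul_mem
      (mul_mem (u p).isUnit.mem_nonZeroDivisors (pow_mem (hπ p) _))
      (mul_mem (v p).isUnit.mem_nonZeroDivisors (pow_mem (hπ p) _)))) _ h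
  have hC' : IsFinExt A' (A' ⊗[A] C) (maximalIdeal A') := isFinExt_baseChange hK' hC hab (mul_mem ha hb)
  haveI := finite_maximalSpectrum A (B := C)
  haveI := finite_maximalSpectrum A' (B := A' ⊗[A] C)
  letI := Fintype.ofFinite (MaximalSpectrum C)
  letI := Fintype.ofFinite (MaximalSpectrum (A' ⊗[A] C))
  haveI : ∀ p : MaximalSpectrum C, IsLocalHom (algebraMap A (Localization.AtPrime p.asIdeal)) := isLocalHom_atPrime hC
  haveI : ∀ p' : MaximalSpectrum (A' ⊗[A] C), IsLocalHom (algebraMap A' (Localization.AtPrime p'.asIdeal)) :=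
    isLocalHom_atPrime hC'
  have hnz : ∀ p' : MaximalSpectrum (A' ⊗[A] C), lMap p' (R (pullM p')).π ∈ nonZeroDivisors (Localization.AtPrime p'.asIdeal) := by
    intro p'
    set Rn := R (pullM p')
    have hnu : ¬ IsUnit (algebraMap A (Localization.AtPrime (pullM p').asIdeal) a *
        algebraMap A (Localization.AtPrime (pullM p').asIdeal) b) := fun h => by
      rw [← map_mul] at h
      exact (mem_maximalIdeal _).1 hab (isUnit_of_map_unit _ _ h)
    have h1 : algebraMap A' (Localization.AtPrime p'.asIdeal) (algebraMap A A' (a * b)) ∈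
        nonZeroDivisors (Localization.AtPrime p'.asIdeal) := by
      rw [IsScalarTower.algebraMap_apply A' (A' ⊗[A] C), ← IsScalarTower.algebraMap_apply A A' (A' ⊗[A] C)]
      exact IsLocalization.map_nonZeroDivisors_le p'.asIdeal.primeCompl _ ⟨_, incl_mem_nonZeroDivisors htC, rfl⟩
    have h2 : algebraMap A' (Localization.AtPrime p'.asIdeal) (algebraMap A A' (a * b)) =
        lMap p' ((Rn.u : Localization.AtPrime (pullM p').asIdeal) * Rn.v) * lMap p' Rn.π ^ (Rn.e + Rn.f) := by
      rw [← lMap_algebraMap p', ← map_pow, ← map_mul]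
      refine congrArg (lMap p') ?_
      refine (map_mul (algebraMap A (Localization.AtPrime (pullM p').asIdeal)) a b).trans
        ((congrArg₂ (· * ·) Rn.eq₁ Rn.eq₂).trans ?_)
      ring
    rw [h2] at h1
    have h3 := (mul_mem_nonZeroDivisors.1 h1).2
    obtain ⟨d, hd⟩ := Nat.exists_eq_add_of_le (Rn.one_le_exp hnu)
    rw [hd, pow_add, pow_one] at h3
    exact (mul_mem_nonZeroDivisors.1 h3).1
  rw [tameSymbol_eq_prod hK ha hb C hC R,
    tameSymbol_eq_prod hK' (map_mem_nonZeroDivisors ha) (map_mem_nonZeroDivisors hb) (A' ⊗[A] C) hC'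
      (fun p' => pushR p' (R (pullM p')) (hnz p')),
    map_prod, ← Finset.prod_pow, ← Finset.prod_fiberwise Finset.univ pullM fun p' =>
      (pushR p' (R (pullM p')) (hnz p')).val (ResidueField A')]
  exact Finset.prod_congr rfl fun p _ => (fibre_prod R hnz p).symm

end Groth.Agent.TameCh.FlatBC
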