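import Groth.Agent.TameCh.Master
import Mathlib

/-!
Reciprocity for two elements on an algebra finite over a local ring, all of whose regular sections cut out curves.
-/

set_option autoImplicit false
set_option linter.style.haveILetI false

universe u

noncomputable section

namespace Groth.Agent.TameCh

open CycAlg Groth.Agent.CycHex

section Avoid

variable {C : Type u} [CommRing C]

/-- Every prime containing a nonzerodivisor is maximal or has coheight one. -/
def Thin (C : Type u) [CommRing C] : Prop :=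
  ∀ x ∈ nonZeroDivisors C, ∀ q : PrimeSpectrum C, x ∈ q.asIdeal → q.asIdeal.IsMaximal ∨ Curve q

theorem thin_of_dim (h : ringKrullDim C ≤ 2) : Thin C := by
  intro x hx q hxq
  by_contra hh
  obtain ⟨hq, hc⟩ := not_or.1 hh
  obtain ⟨q', hq'p, hlt, hq'⟩ : ∃ q' : Ideal C, q'.IsPrime ∧ q.asIdeal < q' ∧ ¬ q'.IsMaximal := by
    simp only [Curve, not_and, not_forall] at hc
    obtain ⟨q', h1, h2, h3⟩ := hc hq
    exact ⟨q', h1, h2, h3⟩
  obtain ⟨n, hn, hle⟩ := Ideal.exists_le_maximal q' hq'p.ne_top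
  obtain ⟨p0, hp0, hp0le⟩ := Ideal.exists_minimalPrimes_le (J := q.asIdeal) (I := (⊥ : Ideal C)) bot_le
  have hne : p0 ≠ q.asIdeal := fun he =>
    Set.disjoint_left.1 (Ideal.disjoint_nonZeroDivisors_of_mem_minimalPrimes hp0) (show x ∈ p0 from he.symm ▸ hxq) hx
  let l : LTSeries (PrimeSpectrum C) :=
    { length := 3
      toFun := ![⟨p0, hp0.1.1⟩, q, ⟨q', hq'p⟩, ⟨n, hn.isPrime⟩]
      step := by
        intro i
        fin_cases i
        · show (⟨p0, hp0.1.1⟩ : PrimeSpectrum C) < q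
          exact lt_of_le_of_ne hp0le fun he => hne (congrArg PrimeSpectrum.asIdeal he)
        · show q < (⟨q', hq'p⟩ : PrimeSpectrum C)
          exact hlt
        · show (⟨q', hq'p⟩ : PrimeSpectrum C) < ⟨n, hn.isPrime⟩
          exact lt_of_le_of_ne hle fun he => hq' (by rw [show q' = n from congrArg PrimeSpectrum.asIdeal he]; exact hn) }
  have h3 := (Order.LTSeries.length_le_krullDim l).trans h
  norm_cast at h3

variable [IsNoetherianRing C]

/-- The curves through a regular element form a finite set. -/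
theorem exists_cover (hC : Thin C) {x : C} (hx : x ∈ nonZeroDivisors C) :
    ∃ U : Finset (PrimeSpectrum C), ∀ r, r ∈ U ↔ Curve r ∧ x ∈ r.asIdeal := by
  have hfin : {r : PrimeSpectrum C | Curve r ∧ x ∈ r.asIdeal}.Finite := by
    refine Set.Finite.subset (((Ideal.span {x}).finite_minimalPrimes_of_isNoetherianRing C).preimage
      (f := PrimeSpectrum.asIdeal) (fun a _ b _ hab => PrimeSpectrum.ext hab)) ?_
    rintro r ⟨hr, hxr⟩
    obtain ⟨q, hq, hle⟩ := Ideal.exists_minimalPrimes_le ((Ideal.span_singleton_le_iff_mem r.asIdeal).2 hxr)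
    rcases hC x hx ⟨q, hq.1.1⟩ (show x ∈ q from hq.1.2 (Ideal.mem_span_singleton_self x)) with hm | hc
    · exact absurd ((show q.IsMaximal from hm).eq_of_le r.2.ne_top hle ▸ (show q.IsMaximal from hm)) hr.1
    · refine show r.asIdeal ∈ (Ideal.span {x}).minimalPrimes from ?_
      rw [show r.asIdeal = q from (congrArg PrimeSpectrum.asIdeal (hc.eq_of_le hr hle)).symm]
      exact hq
  exact ⟨hfin.toFinset, fun r => hfin.mem_toFinset⟩

/-- A regular element in a coset of a regular multiple. -/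
theorem exists_add_mul (s : C) {Q : C} (hQ : Q ∈ nonZeroDivisors C) : ∃ u, s + Q * u ∈ nonZeroDivisors C := by
  classical
  let T0 := (associatedPrimes.finite C C).toFinset
  let T := T0.filter fun P => ∀ P' ∈ T0, P ≤ P' → P' = P
  have hzd : ∀ {y : C}, y ∉ nonZeroDivisors C ↔ ∃ P ∈ associatedPrimes C C, y ∈ P := by
    intro y
    have h := Set.ext_iff.1 (biUnion_associatedPrimes_eq_compl_nonZeroDivisors (R := C)) y
    simp only [Set.mem_iUnion, SetLike.mem_coe, exists_prop, Set.mem_compl_iff] at h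
    exact h.symm
  have hT : ∀ P ∈ associatedPrimes C C, ∃ P' ∈ T, P ≤ P' := by
    intro P hP
    obtain ⟨m, hle, hm⟩ := Finset.exists_le_maximal T0 ((associatedPrimes.finite C C).mem_toFinset.2 hP)
    exact ⟨m, Finset.mem_filter.2 ⟨hm.1, fun P' hP' h => le_antisymm (hm.2 hP' h) h⟩, hle⟩
  have hprime : ∀ P ∈ T, P.IsPrime := fun P hP =>
    IsAssociatedPrime.isPrime ((associatedPrimes.finite C C).mem_toFinset.1 (Finset.mem_filter.1 hP).1)
  let I : Ideal C := (T.filter fun P => s ∉ P).inf id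
  have hI : ¬ ((I : Set C) ⊆ ⋃ P ∈ (↑(T.filter fun P => s ∈ P) : Set (Ideal C)), (id P : Ideal C)) := by
    rw [Ideal.subset_union_prime (f := id) ⊥ ⊥ (fun P hP _ _ => hprime P (Finset.mem_filter.1 hP).1)]
    rintro ⟨P, hP, hle⟩
    obtain ⟨P', hP', hle'⟩ := (hprime P (Finset.mem_filter.1 hP).1).inf_le'.1 hle
    have he : P = P' := (Finset.mem_filter.1 (Finset.mem_filter.1 hP').1).2 P
      (Finset.mem_filter.1 (Finset.mem_filter.1 hP).1).1 hle'
    exact (Finset.mem_filter.1 hP').2 (he ▸ (Finset.mem_filter.1 hP).2)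
  obtain ⟨u, huI, hu⟩ := Set.not_subset.1 hI
  refine ⟨u, ?_⟩
  by_contra hc
  obtain ⟨P0, hP0, hmem⟩ := hzd.1 hc
  obtain ⟨P, hP, hle⟩ := hT P0 hP0
  have hQP : Q ∉ P := fun h =>
    hzd.2 ⟨P, (associatedPrimes.finite C C).mem_toFinset.1 (Finset.mem_filter.1 hP).1, h⟩ hQ
  by_cases hs : s ∈ P
  · refine hu (Set.mem_iUnion₂.2 ⟨P, Finset.mem_filter.2 ⟨hP, hs⟩, ?_⟩)
    exact ((hprime P hP).mem_or_mem ((Ideal.add_mem_iff_right P hs).1 (hle hmem))).resolve_left hQP
  · have hu' : u ∈ P := (Finset.inf_le (f := id) (Finset.mem_filter.2 ⟨hP, hs⟩)) huI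
    exact hs ((Ideal.add_mem_iff_left P (P.mul_mem_left Q hu')).1 (hle hmem))

/-- Solving `b s = P w` while avoiding given curves. -/
theorem exists_avoid (R : Finset (PrimeSpectrum C)) (hR : ∀ r ∈ R, Curve r) {b P z : C}
    (hb : b ∈ nonZeroDivisors C) (hP : P ∈ nonZeroDivisors C) (hz : z ∈ nonZeroDivisors C) (hzR : ∀ r ∈ R, z ∈ r.asIdeal)
    (ca cb : PrimeSpectrum C → Prop)
    (h : ∀ r ∈ R, ∃ σ τ, b * σ = P * τ ∧ (ca r → σ ∉ r.asIdeal) ∧ (cb r → τ ∉ r.asIdeal)) :
    ∃ s w, s ∈ nonZeroDivisors C ∧ w ∈ nonZeroDivisors C ∧ b * s = P * w ∧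
      ∀ r ∈ R, (ca r → s ∉ r.asIdeal) ∧ (cb r → w ∉ r.asIdeal) := by
  classical
  choose! σ τ hστ hσ hτ using h
  have he : ∀ r ∈ R, ∃ e : C, e ∉ r.asIdeal ∧ ∀ r' ∈ R, r' ≠ r → e ∈ r'.asIdeal := by
    intro r hr
    have hn : ¬ ((R.erase r).inf fun r' => r'.asIdeal) ≤ r.asIdeal := fun hle => by
      obtain ⟨r', hr', hle'⟩ := r.2.inf_le'.1 hle
      exact (Finset.mem_erase.1 hr').1 ((hR r' (Finset.mem_erase.1 hr').2).eq_of_le (hR r hr) hle')
    obtain ⟨e, he1, he2⟩ := SetLike.not_le_iff_exists.1 hn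
    exact ⟨e, he2, fun r' hr' hne => (Finset.inf_le (f := fun r'' => r''.asIdeal)
      (Finset.mem_erase.2 ⟨hne, hr'⟩)) he1⟩
  choose! e he1 he2 using he
  have key : ∀ (v : PrimeSpectrum C → C) (r : PrimeSpectrum C), r ∈ R → v r ∉ r.asIdeal →
      ∀ c : C, (∑ r' ∈ R, e r' * v r') + c * z ∉ r.asIdeal := by
    intro v r hr hv c hmem
    rw [← Finset.add_sum_erase R _ hr, add_assoc] at hmem
    have hrest : (∑ r' ∈ R.erase r, e r' * v r') + c * z ∈ r.asIdeal :=
      add_mem (sum_mem fun r' hr' => r.asIdeal.mul_mem_right _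
        (he2 r' (Finset.mem_erase.1 hr').2 r hr (Finset.mem_erase.1 hr').1.symm))
        (r.asIdeal.mul_mem_left _ (hzR r hr))
    exact (r.2.mem_or_mem ((Ideal.add_mem_iff_left r.asIdeal hrest).1 hmem)).elim (he1 r hr) hv
  obtain ⟨u, hu⟩ := exists_add_mul (∑ r ∈ R, e r * σ r) (mul_mem hP hz)
  have heq : b * ((∑ r ∈ R, e r * σ r) + P * z * u) = P * ((∑ r ∈ R, e r * τ r) + b * z * u) := by
    rw [mul_add, mul_add, Finset.mul_sum, Finset.mul_sum]
    congr 1
    · refine Finset.sum_congr rfl fun r hr => ?_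
      rw [mul_left_comm, hστ r hr, mul_left_comm]
    · ring
  refine ⟨_, _, hu, (mul_mem_nonZeroDivisors.1 (heq ▸ mul_mem hb hu)).2, heq, fun r hr => ⟨fun hc => ?_, fun hc => ?_⟩⟩
  · have := key σ r hr (hσ r hr hc) (P * u)
    rwa [show P * u * z = P * z * u by ring] at this
  · have := key τ r hr (hτ r hr hc) (b * u)
    rwa [show b * u * z = b * z * u by ring] at this

end Avoid

section Core

variable {A : Type u} {C : Type u} [CommRing A] [CommRing C] [Algebra A C]

theorem perH_length_congr {M M' L : Type u} [AddCommGroup M] [Module A M] [AddCommGroup M'] [Module A M']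
    [AddCommGroup L] [Module A L] (φ ψ : M →ₗ[A] M) (φ' ψ' : M' →ₗ[A] M') (q : L →ₗ[A] M) (q' : L →ₗ[A] M')
    (h : ∀ l, φ (q l) = 0) (h' : ∀ l, φ' (q' l) = 0) (hs : ∀ m, φ m = 0 → ∃ l, q l = m)
    (hs' : ∀ m, φ' m = 0 → ∃ l, q' l = m)
    (hker : ∀ l, q l ∈ LinearMap.range ψ ↔ q' l ∈ LinearMap.range ψ') :
    Module.length A (perH φ ψ) = Module.length A (perH φ' ψ') := by
  let α : L →ₗ[A] perH φ ψ := (Submodule.mkQ _).comp (q.codRestrict (LinearMap.ker φ) h)
  let β : L →ₗ[A] perH φ' ψ' := (Submodule.mkQ _).comp (q'.codRestrict (LinearMap.ker φ') h')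
  have hα : Function.Surjective α := (Submodule.mkQ_surjective _).comp fun m => by
    obtain ⟨l, hl⟩ := hs m.1 m.2
    exact ⟨l, Subtype.ext hl⟩
  have hβ : Function.Surjective β := (Submodule.mkQ_surjective _).comp fun m => by
    obtain ⟨l, hl⟩ := hs' m.1 m.2
    exact ⟨l, Subtype.ext hl⟩
  have hk : LinearMap.ker α = LinearMap.ker β := by
    ext l
    show Submodule.mkQ _ (q.codRestrict (LinearMap.ker φ) h l) = 0 ↔
      Submodule.mkQ _ (q'.codRestrict (LinearMap.ker φ') h' l) = 0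
    rw [Submodule.mkQ_apply, Submodule.mkQ_apply, Submodule.Quotient.mk_eq_zero, Submodule.Quotient.mk_eq_zero]
    exact hker l
  exact LinearEquiv.length_eq (((α.quotKerEquivOfSurjective hα).symm.trans (Submodule.quotEquivOfEq _ _ hk)).trans
    (β.quotKerEquivOfSurjective hβ))

theorem mulA_mk (f : C) (I : Ideal C) (x : C) :
    mulA A f (C ⧸ I) (Ideal.Quotient.mk I x) = Ideal.Quotient.mk I (f * x) := by
  rw [mulA_apply, Algebra.smul_def, Ideal.Quotient.algebraMap_eq, map_mul]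

theorem mk_mem_range_mulA (g h x : C) :
    Ideal.Quotient.mk (Ideal.span {h}) x ∈ LinearMap.range (mulA A g (C ⧸ Ideal.span {h})) ↔
      ∃ a b, x = g * a + h * b := by
  constructor
  · rintro ⟨k, hk⟩
    obtain ⟨a, rfl⟩ := Ideal.Quotient.mk_surjective k
    rw [mulA_mk, Ideal.Quotient.eq, Ideal.mem_span_singleton'] at hk
    obtain ⟨b, hb⟩ := hk
    exact ⟨a, -b, by linear_combination hb⟩
  · rintro ⟨a, b, rfl⟩
    refine ⟨Ideal.Quotient.mk _ a, ?_⟩
    rw [mulA_mk, Ideal.Quotient.eq, Ideal.mem_span_singleton']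
    exact ⟨-b, by ring⟩

theorem perH_subsingleton {M : Type u} [AddCommGroup M] [Module A M] (φ ψ : M →ₗ[A] M)
    (h : ∀ m, φ m = 0 → m ∈ LinearMap.range ψ) : Module.length A (perH φ ψ) = 0 := by
  haveI : Subsingleton (perH φ ψ) := by
    refine Submodule.Quotient.subsingleton_iff.2 (eq_top_iff.2 fun m _ => ?_)
    exact h m.1 m.2
  exact Module.length_eq_zero

/-- The order of vanishing at a prime. -/
def od (r : PrimeSpectrum C) (x : C) : ℤ := ((lenAt r (C ⧸ Ideal.span {x})).toNat : ℤ)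

theorem od_eq_zero {r : PrimeSpectrum C} {x : C} (h : x ∉ r.asIdeal) : od r x = 0 := by
  rw [od, lenAt_quot_of_not_le (fun hle => h (hle (Ideal.mem_span_singleton_self x)))]
  rfl

variable [IsNoetherianRing A] [IsLocalRing A] [Module.Finite A C]

/-- The subtraction of the two products. -/
def crossMap (A : Type u) [CommRing A] [Algebra A C] (u v : C) : C × C →ₗ[A] C :=
  (LinearMap.mul A C u).comp (LinearMap.fst A C C) - (LinearMap.mul A C v).comp (LinearMap.snd A C C)

theorem mem_crossMap {u v : C} {l : C × C} : l ∈ LinearMap.ker (crossMap A u v) ↔ u * l.1 = v * l.2 := by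
  rw [LinearMap.mem_ker, crossMap, LinearMap.sub_apply, sub_eq_zero]
  rfl

/-- The two cohomological pairs attached to `p' s = p w` agree. -/
theorem he_exchange {p p' s w : C} (hp : p ∈ nonZeroDivisors C) (hp' : p' ∈ nonZeroDivisors C)
    (hs : s ∈ nonZeroDivisors C) (hw : w ∈ nonZeroDivisors C) (h : p' * s = p * w) :
    he A p w (C ⧸ Ideal.span {s}) = he A p' s (C ⧸ Ideal.span {w}) := by
  let πs : C →ₗ[A] C ⧸ Ideal.span {s} := (Submodule.mkQ (Ideal.span {s})).restrictScalars A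
  let πw : C →ₗ[A] C ⧸ Ideal.span {w} := (Submodule.mkQ (Ideal.span {w})).restrictScalars A
  have h0 : Module.length A (perH (mulA A p (C ⧸ Ideal.span {s})) (mulA A w (C ⧸ Ideal.span {s}))) =
      Module.length A (perH (mulA A p' (C ⧸ Ideal.span {w})) (mulA A s (C ⧸ Ideal.span {w}))) := by
    let L := LinearMap.ker (crossMap A p s)
    refine perH_length_congr _ _ _ _ (πs.comp ((LinearMap.fst A C C).comp L.subtype))
      (πw.comp ((LinearMap.fst A C C).comp L.subtype)) ?_ ?_ ?_ ?_ ?_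
    · intro l
      show mulA A p _ (Ideal.Quotient.mk _ l.1.1) = 0
      rw [mulA_mk, Ideal.Quotient.eq_zero_iff_mem, mem_crossMap.1 l.2]
      exact Ideal.mem_span_singleton'.2 ⟨l.1.2, mul_comm _ _⟩
    · intro l
      show mulA A p' _ (Ideal.Quotient.mk _ l.1.1) = 0
      rw [mulA_mk, Ideal.Quotient.eq_zero_iff_mem]
      refine Ideal.mem_span_singleton'.2 ⟨l.1.2, mul_cancel_left_mem_nonZeroDivisors hp |>.1 ?_⟩
      calc p * (l.1.2 * w) = p' * (s * l.1.2) := by rw [← mul_assoc p', h]; ring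
        _ = p * (p' * l.1.1) := by rw [← mem_crossMap.1 l.2]; ring
    · intro m hm
      obtain ⟨x, rfl⟩ := Ideal.Quotient.mk_surjective m
      rw [mulA_mk, Ideal.Quotient.eq_zero_iff_mem] at hm
      obtain ⟨z, hz⟩ := Ideal.mem_span_singleton'.1 hm
      exact ⟨⟨(x, z), mem_crossMap.2 (by rw [← hz, mul_comm])⟩, rfl⟩
    · intro m hm
      obtain ⟨x, rfl⟩ := Ideal.Quotient.mk_surjective m
      rw [mulA_mk, Ideal.Quotient.eq_zero_iff_mem] at hm
      obtain ⟨z, hz⟩ := Ideal.mem_span_singleton'.1 hm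
      refine ⟨⟨(x, z), mem_crossMap.2 (mul_cancel_left_mem_nonZeroDivisors hp' |>.1 ?_)⟩, rfl⟩
      show p' * (p * x) = p' * (s * z)
      calc p' * (p * x) = p * (p' * x) := by ring
        _ = p * (z * w) := by rw [hz]
        _ = p' * (s * z) := by rw [← mul_assoc p' s, h]; ring
    · intro l
      show Ideal.Quotient.mk _ l.1.1 ∈ _ ↔ Ideal.Quotient.mk _ l.1.1 ∈ _
      rw [mk_mem_range_mulA, mk_mem_range_mulA]
      exact ⟨fun ⟨a, b, hab⟩ => ⟨b, a, by rw [hab, add_comm]⟩, fun ⟨a, b, hab⟩ => ⟨b, a, by rw [hab, add_comm]⟩⟩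
  have h1 : Module.length A (perH (mulA A w (C ⧸ Ideal.span {s})) (mulA A p (C ⧸ Ideal.span {s}))) =
      Module.length A (perH (mulA A s (C ⧸ Ideal.span {w})) (mulA A p' (C ⧸ Ideal.span {w}))) := by
    let L := LinearMap.ker (crossMap A w s)
    refine perH_length_congr _ _ _ _ (πs.comp ((LinearMap.fst A C C).comp L.subtype))
      (πw.comp ((LinearMap.snd A C C).comp L.subtype)) ?_ ?_ ?_ ?_ ?_
    · intro l
      show mulA A w _ (Ideal.Quotient.mk _ l.1.1) = 0
      rw [mulA_mk, Ideal.Quotient.eq_zero_iff_mem, mem_crossMap.1 l.2]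
      exact Ideal.mem_span_singleton'.2 ⟨l.1.2, mul_comm _ _⟩
    · intro l
      show mulA A s _ (Ideal.Quotient.mk _ l.1.2) = 0
      rw [mulA_mk, Ideal.Quotient.eq_zero_iff_mem, ← mem_crossMap.1 l.2]
      exact Ideal.mem_span_singleton'.2 ⟨l.1.1, mul_comm _ _⟩
    · intro m hm
      obtain ⟨x, rfl⟩ := Ideal.Quotient.mk_surjective m
      rw [mulA_mk, Ideal.Quotient.eq_zero_iff_mem] at hm
      obtain ⟨z, hz⟩ := Ideal.mem_span_singleton'.1 hm
      exact ⟨⟨(x, z), mem_crossMap.2 (by rw [← hz, mul_comm])⟩, rfl⟩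
    · intro m hm
      obtain ⟨x, rfl⟩ := Ideal.Quotient.mk_surjective m
      rw [mulA_mk, Ideal.Quotient.eq_zero_iff_mem] at hm
      obtain ⟨z, hz⟩ := Ideal.mem_span_singleton'.1 hm
      exact ⟨⟨(z, x), mem_crossMap.2 (by rw [← hz, mul_comm])⟩, rfl⟩
    · intro l
      show Ideal.Quotient.mk _ l.1.1 ∈ _ ↔ Ideal.Quotient.mk _ l.1.2 ∈ _
      rw [mk_mem_range_mulA, mk_mem_range_mulA]
      have hl := mem_crossMap.1 l.2
      constructor
      · rintro ⟨a, b, hab⟩
        refine ⟨a, b, mul_cancel_left_mem_nonZeroDivisors hs |>.1 ?_⟩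
        rw [← hl, hab]
        linear_combination -a * h
      · rintro ⟨a, b, hab⟩
        refine ⟨a, b, mul_cancel_left_mem_nonZeroDivisors hw |>.1 ?_⟩
        rw [hl, hab]
        linear_combination a * h
  simp only [he, herbrand, h0, h1]

section Orders

theorem mem_quot_span (hC : Thin C) {x : C} (hx : x ∈ nonZeroDivisors C) (U : Finset (PrimeSpectrum C))
    (hxU : ∀ r, Curve r → x ∈ r.asIdeal → r ∈ U) (q : PrimeSpectrum C)
    (hq : Module.annihilator C (C ⧸ Ideal.span {x}) ≤ q.asIdeal) : q.asIdeal.IsMaximal ∨ q ∈ U := by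
  rw [Ideal.annihilator_quotient] at hq
  have hxq := hq (Ideal.mem_span_singleton_self x)
  exact (hC x hx q hxq).imp_right fun hc => hxU q hc hxq

variable (A) in
include A in
theorem lenAt_lt_top (hC : Thin C) {x : C} (hx : x ∈ nonZeroDivisors C) {r : PrimeSpectrum C} (hr : Curve r) :
    lenAt r (C ⧸ Ideal.span {x}) < ⊤ := by
  classical
  haveI := isNoetherian_C A (C := C)
  obtain ⟨U, hU⟩ := exists_cover hC hx
  obtain ⟨-, h2, -⟩ := he_eq_sum (A := A) U (fun r hr => ((hU r).1 hr).1) (f := x) (g := 1)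
    (fun r _ => Or.inr fun h => r.2.ne_top ((Ideal.eq_top_iff_one _).2 h)) (C ⧸ Ideal.span {x})
    (mem_quot_span hC hx U fun r h1 h2 => (hU r).2 ⟨h1, h2⟩)
    (by rw [Ideal.annihilator_quotient, mul_one]; exact Ideal.mem_span_singleton_self x)
  by_cases hxr : x ∈ r.asIdeal
  · exact h2 r ((hU r).2 ⟨hr, hxr⟩)
  · rw [lenAt_quot_of_not_le (fun hle => hxr (hle (Ideal.mem_span_singleton_self x)))]
    exact WithTop.coe_lt_top 0

theorem lenAt_mul {x y : C} (hy : y ∈ nonZeroDivisors C) (r : PrimeSpectrum C) :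
    lenAt r (C ⧸ Ideal.span {x * y}) = lenAt r (C ⧸ Ideal.span {x}) + lenAt r (C ⧸ Ideal.span {y}) := by
  have hle : Ideal.span {x} ≤ Submodule.comap (LinearMap.lsmul C C y) (Ideal.span {x * y}) := by
    intro z hz
    obtain ⟨c, rfl⟩ := Ideal.mem_span_singleton'.1 hz
    exact Ideal.mem_span_singleton'.2 ⟨c, by show c * (x * y) = y * (c * x); ring⟩
  have hle' : Ideal.span {x * y} ≤ Ideal.span {y} :=
    (Ideal.span_singleton_le_iff_mem _).2 (Ideal.mem_span_singleton'.2 ⟨x, rfl⟩)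
  refine lenAt_add r (Submodule.mapQ _ _ (LinearMap.lsmul C C y) hle) (Submodule.factor hle') ?_
    (Submodule.factor_surjective _) ?_
  · rw [← LinearMap.ker_eq_bot, eq_bot_iff]
    intro z hz
    obtain ⟨z, rfl⟩ := Submodule.Quotient.mk_surjective _ z
    rw [LinearMap.mem_ker, Submodule.mapQ_apply, Submodule.Quotient.mk_eq_zero, Ideal.mem_span_singleton'] at hz
    obtain ⟨c, hc⟩ := hz
    rw [Submodule.mem_bot, Submodule.Quotient.mk_eq_zero, Ideal.mem_span_singleton']
    exact ⟨c, mul_cancel_left_mem_nonZeroDivisors hy |>.1 (by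
      have hc' : c * (x * y) = y * z := hc
      rw [← hc']; ring)⟩
  · intro z
    obtain ⟨z, rfl⟩ := Submodule.Quotient.mk_surjective _ z
    constructor
    · intro h
      have h' : z ∈ Ideal.span {y} := (Submodule.Quotient.mk_eq_zero _).1 h
      obtain ⟨c, rfl⟩ := Ideal.mem_span_singleton'.1 h'
      exact ⟨Submodule.Quotient.mk c, congrArg Submodule.Quotient.mk (mul_comm y c)⟩
    · rintro ⟨c, hc⟩
      obtain ⟨c, rfl⟩ := Submodule.Quotient.mk_surjective _ c
      rw [← hc]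
      exact (Submodule.Quotient.mk_eq_zero _).2 (Ideal.mem_span_singleton'.2 ⟨c, mul_comm c y⟩)

variable (A) in
include A in
theorem od_mul (hC : Thin C) {x y : C} (hx : x ∈ nonZeroDivisors C) (hy : y ∈ nonZeroDivisors C) {r : PrimeSpectrum C}
    (hr : Curve r) : od r (x * y) = od r x + od r y := by
  rw [od, lenAt_mul hy r, ENat.toNat_add (lenAt_lt_top A hC hx hr).ne (lenAt_lt_top A hC hy hr).ne,
    Nat.cast_add]
  rfl

/-- Symmetry for two elements without a common curve. -/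
theorem od_symm (hC : Thin C) {x y : C} (hx : x ∈ nonZeroDivisors C) (hy : y ∈ nonZeroDivisors C) (U : Finset (PrimeSpectrum C))
    (hU : ∀ r ∈ U, Curve r) (hxU : ∀ r, Curve r → x ∈ r.asIdeal → r ∈ U)
    (hyU : ∀ r, Curve r → y ∈ r.asIdeal → r ∈ U) (hd : ∀ r ∈ U, x ∈ r.asIdeal → y ∉ r.asIdeal) :
    ∑ r ∈ U, od r x * cf A r y = ∑ r ∈ U, od r y * cf A r x := by
  have hxyU : ∀ r, Curve r → x * y ∈ r.asIdeal → r ∈ U := fun r hr h =>
    (r.2.mem_or_mem h).elim (hxU r hr) (hyU r hr)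
  obtain ⟨-, -, h3⟩ := he_eq_sum (A := A) U hU (f := x) (g := y)
    (fun r hr => by by_cases h : x ∈ r.asIdeal; exacts [Or.inr (hd r hr h), Or.inl h]) (C ⧸ Ideal.span {x * y})
    (mem_quot_span hC (mul_mem hx hy) U hxyU)
    (by rw [Ideal.annihilator_quotient]; exact Ideal.mem_span_singleton_self _)
  have hzero : ∀ {u v : C}, u ∈ nonZeroDivisors C →
      Module.length A (perH (mulA A u (C ⧸ Ideal.span {u * v})) (mulA A v (C ⧸ Ideal.span {u * v}))) = 0 := by
    intro u v hu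
    refine perH_subsingleton _ _ fun m hm => ?_
    obtain ⟨z, rfl⟩ := Ideal.Quotient.mk_surjective m
    rw [mulA_mk, Ideal.Quotient.eq_zero_iff_mem, Ideal.mem_span_singleton'] at hm
    obtain ⟨c, hc⟩ := hm
    refine (mk_mem_range_mulA v (u * v) z).2 ⟨c, 0, mul_cancel_left_mem_nonZeroDivisors hu |>.1 ?_⟩
    rw [← hc]; ring
  have h0 : he A x y (C ⧸ Ideal.span {x * y}) = 0 := by
    have h1 := hzero (v := y) hx
    have h2 := hzero (v := x) hy
    rw [mul_comm y x] at h2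
    rw [he, herbrand, h1, h2, sub_self]
  rw [h0] at h3
  rw [← sub_eq_zero, ← Finset.sum_sub_distrib]
  refine Eq.trans (Finset.sum_congr rfl fun r hr => ?_) h3.symm
  show _ = ((lenAt r (C ⧸ Ideal.span {x * y})).toNat : ℤ) * eps A r x y
  rw [show ((lenAt r (C ⧸ Ideal.span {x * y})).toNat : ℤ) = od r x + od r y from od_mul A hC hx hy (hU r hr)]
  by_cases h : x ∈ r.asIdeal
  · rw [eps_mem h, od_eq_zero (hd r hr h)]; ring
  · rw [eps_not_mem h, od_eq_zero h]; ring

/-- Two elements with at most one common curve. -/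
theorem od_common (hC : Thin C) {p p' : C} (hp : p ∈ nonZeroDivisors C) (hp' : p' ∈ nonZeroDivisors C)
    (U : Finset (PrimeSpectrum C)) (hU : ∀ r ∈ U, Curve r) (hpU : ∀ r, Curve r → p ∈ r.asIdeal → r ∈ U)
    (hp'U : ∀ r, Curve r → p' ∈ r.asIdeal → r ∈ U) (r0 : PrimeSpectrum C) (h0 : r0 ∈ U)
    (hpr0 : p ∈ r0.asIdeal) (hW : ∀ r ∈ U, p ∈ r.asIdeal → p' ∈ r.asIdeal → r = r0) {σ τ : C} (hσ : σ ∉ r0.asIdeal) (hτ : τ ∉ r0.asIdeal)
    (h : p' * σ = p * τ) :
    od r0 p * (cf A r0 τ - cf A r0 σ) +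
      (haveI := Classical.decEq (PrimeSpectrum C)
       ∑ r ∈ U.erase r0, (od r p * cf A r p' - od r p' * cf A r p)) = 0 := by
  classical
  haveI := isNoetherian_C A (C := C)
  obtain ⟨R, hR⟩ := exists_cover hC (mul_mem hp hp')
  obtain ⟨s, w, hs, hw, hsw, hav⟩ := exists_avoid R (fun r hr => ((hR r).1 hr).1) hp' hp (mul_mem hp hp')
    (fun r hr => ((hR r).1 hr).2) (fun r => p' ∈ r.asIdeal ∨ r = r0) (fun r => p ∈ r.asIdeal ∨ r = r0) (by
      intro r hr
      obtain ⟨hc, hpp⟩ := (hR r).1 hr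
      by_cases he : r = r0
      · subst he
        exact ⟨σ, τ, h, fun _ => hσ, fun _ => hτ⟩
      refine ⟨p, p', mul_comm _ _, ?_, ?_⟩
      · rintro (h1 | h1)
        · exact fun h2 => he (hW r (hpU r hc h2) h2 h1)
        · exact absurd h1 he
      · rintro (h1 | h1)
        · exact fun h2 => he (hW r (hpU r hc h1) h1 h2)
        · exact absurd h1 he)
  obtain ⟨Us, hUs⟩ := exists_cover hC hs
  obtain ⟨Uw, hUw⟩ := exists_cover hC hw
  let V := U ∪ (Us ∪ Uw)
  have hV : ∀ r ∈ V, Curve r := fun r hr => by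
    rcases Finset.mem_union.1 hr with h1 | h1
    · exact hU r h1
    rcases Finset.mem_union.1 h1 with h2 | h2
    · exact ((hUs r).1 h2).1
    · exact ((hUw r).1 h2).1
  have hsV : ∀ r, Curve r → s ∈ r.asIdeal → r ∈ V := fun r h1 h2 =>
    Finset.mem_union_right _ (Finset.mem_union_left _ ((hUs r).2 ⟨h1, h2⟩))
  have hwV : ∀ r, Curve r → w ∈ r.asIdeal → r ∈ V := fun r h1 h2 =>
    Finset.mem_union_right _ (Finset.mem_union_right _ ((hUw r).2 ⟨h1, h2⟩))
  have hpV : ∀ r, Curve r → p ∈ r.asIdeal → r ∈ V := fun r h1 h2 => Finset.mem_union_left _ (hpU r h1 h2)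
  have hp'V : ∀ r, Curve r → p' ∈ r.asIdeal → r ∈ V := fun r h1 h2 => Finset.mem_union_left _ (hp'U r h1 h2)
  have hp's : ∀ r ∈ V, p' ∈ r.asIdeal → s ∉ r.asIdeal := fun r hr h1 =>
    (hav r ((hR r).2 ⟨hV r hr, r.asIdeal.mul_mem_left _ h1⟩)).1 (Or.inl h1)
  have hpw : ∀ r ∈ V, p ∈ r.asIdeal → w ∉ r.asIdeal := fun r hr h1 =>
    (hav r ((hR r).2 ⟨hV r hr, r.asIdeal.mul_mem_right _ h1⟩)).2 (Or.inl h1)
  have hR0 : r0 ∈ R := (hR r0).2 ⟨hU r0 h0, r0.asIdeal.mul_mem_right _ hpr0⟩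
  have hs0 : s ∉ r0.asIdeal := (hav r0 hR0).1 (Or.inr rfl)
  have hw0 : w ∉ r0.asIdeal := (hav r0 hR0).2 (Or.inr rfl)
  have h0V : r0 ∈ V := Finset.mem_union_left _ h0
  have heq : ∀ r ∈ V, od r p' + od r s = od r p + od r w := fun r hr => by
    rw [← od_mul A hC hp' hs (hV r hr), hsw, od_mul A hC hp hw (hV r hr)]
  obtain ⟨-, -, hA⟩ := he_eq_sum (A := A) V hV (f := p) (g := w)
    (fun r hr => by by_cases h1 : p ∈ r.asIdeal; exacts [Or.inr (hpw r hr h1), Or.inl h1]) (C ⧸ Ideal.span {s})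
    (mem_quot_span hC hs V hsV)
    (by rw [Ideal.annihilator_quotient]; exact hsw ▸ Ideal.mul_mem_left _ p' (Ideal.mem_span_singleton_self s))
  obtain ⟨-, -, hB⟩ := he_eq_sum (A := A) V hV (f := p') (g := s)
    (fun r hr => by by_cases h1 : p' ∈ r.asIdeal; exacts [Or.inr (hp's r hr h1), Or.inl h1]) (C ⧸ Ideal.span {w})
    (mem_quot_span hC hw V hwV)
    (by rw [Ideal.annihilator_quotient]; exact hsw.symm ▸ Ideal.mul_mem_left _ p (Ideal.mem_span_singleton_self w))
  rw [he_exchange hp hp' hs hw hsw] at hA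
  have hS1 := od_symm (A := A) hC hs hp' V hV hsV hp'V (fun r hr h1 h2 => hp's r hr h2 h1)
  have hS2 := od_symm (A := A) hC hw hp V hV hwV hpV (fun r hr h1 h2 => hpw r hr h2 h1)
  have hcw : cf A r0 τ - cf A r0 σ = cf A r0 w - cf A r0 s := by
    have h1 : w * σ = s * τ := mul_cancel_left_mem_nonZeroDivisors hp |>.1 (by
      calc p * (w * σ) = (p * w) * σ := by ring
        _ = (p' * σ) * s := by rw [← hsw]; ring
        _ = p * (s * τ) := by rw [h]; ring)
    have h2 := congrArg (cf A r0) h1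
    rw [cf_mul (hU r0 h0) hw0 hσ, cf_mul (hU r0 h0) hs0 hτ] at h2
    omega
  have hsum : ∑ r ∈ V.erase r0, (od r p * cf A r p' - od r p' * cf A r p) + od r0 p * (cf A r0 w - cf A r0 s) =
      - ∑ r ∈ V, (((lenAt r (C ⧸ Ideal.span {s})).toNat : ℤ) * eps A r p w
        - ((lenAt r (C ⧸ Ideal.span {w})).toNat : ℤ) * eps A r p' s
        + (od r w * cf A r p - od r p * cf A r w) - (od r s * cf A r p' - od r p' * cf A r s)) := by
    rw [← Finset.sum_neg_distrib, ← Finset.add_sum_erase V _ h0V, add_comm]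
    congr 1
    · have h1 := heq r0 h0V
      rw [od_eq_zero hs0, od_eq_zero hw0, add_zero, add_zero] at h1
      show _ = -(od r0 s * _ - od r0 w * _ + _ - _)
      rw [od_eq_zero hs0, od_eq_zero hw0, h1]
      ring
    · refine Finset.sum_congr rfl fun r hr => ?_
      obtain ⟨hne, hrV⟩ := Finset.mem_erase.1 hr
      have h1 := heq r hrV
      show _ = -(od r s * _ - od r w * _ + _ - _)
      by_cases hpr : p ∈ r.asIdeal
      · have hp'r : p' ∉ r.asIdeal := fun h2 => hne (hW r (hpU r (hV r hrV) hpr) hpr h2)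
        rw [od_eq_zero hp'r, od_eq_zero (hpw r hrV hpr), zero_add, add_zero] at h1
        rw [eps_mem hpr, eps_not_mem hp'r, od_eq_zero hp'r, od_eq_zero (hpw r hrV hpr), h1]
        ring
      · rw [od_eq_zero hpr, zero_add] at h1
        rw [eps_not_mem hpr, od_eq_zero hpr]
        by_cases hp'r : p' ∈ r.asIdeal
        · rw [od_eq_zero (hp's r hrV hp'r), add_zero] at h1
          rw [eps_mem hp'r, od_eq_zero (hp's r hrV hp'r), h1]
          ring
        · rw [od_eq_zero hp'r, zero_add] at h1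
          rw [eps_not_mem hp'r, od_eq_zero hp'r, h1]
          ring
  have hz : ∑ r ∈ V, (((lenAt r (C ⧸ Ideal.span {s})).toNat : ℤ) * eps A r p w
        - ((lenAt r (C ⧸ Ideal.span {w})).toNat : ℤ) * eps A r p' s
        + (od r w * cf A r p - od r p * cf A r w) - (od r s * cf A r p' - od r p' * cf A r s)) = 0 := by
    simp only [Finset.sum_sub_distrib, Finset.sum_add_distrib]
    rw [← hA, ← hB, hS1, hS2]
    ring
  rw [hz, neg_zero] at hsum
  have hext : ∑ r ∈ U.erase r0, (od r p * cf A r p' - od r p' * cf A r p) =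
      ∑ r ∈ V.erase r0, (od r p * cf A r p' - od r p' * cf A r p) := by
    refine Finset.sum_subset (Finset.erase_subset_erase _ Finset.subset_union_left) fun r hr hnr => ?_
    obtain ⟨hne, hrV⟩ := Finset.mem_erase.1 hr
    have hrU : r ∉ U := fun h1 => hnr (Finset.mem_erase.2 ⟨hne, h1⟩)
    rw [od_eq_zero fun h1 => hrU (hpU r (hV r hrV) h1), od_eq_zero fun h1 => hrU (hp'U r (hV r hrV) h1)]
    ring
  rw [hcw, hext, add_comm, hsum]

theorem cf_one {r : PrimeSpectrum C} (hr : Curve r) : cf A r (1 : C) = 0 := by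
  have h1 : (1 : C) ∉ r.asIdeal := fun h => r.2.ne_top ((Ideal.eq_top_iff_one _).2 h)
  have h := cf_mul (A := A) hr h1 h1
  rw [mul_one] at h
  omega

/-- A factor invertible at the prime does not change the multiplicity. -/
theorem od_mul_unit {r : PrimeSpectrum C} (x : C) {s : C} (hs : s ∉ r.asIdeal) : od r (x * s) = od r x := by
  have hle : Ideal.span {x * s} ≤ Ideal.span {x} :=
    (Ideal.span_singleton_le_iff_mem _).2 (Ideal.mul_mem_right _ _ (Ideal.mem_span_singleton_self x))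
  have h := lenAt_add r (LinearMap.ker (Submodule.factor hle)).subtype (Submodule.factor hle)
    (Submodule.subtype_injective _) (Submodule.factor_surjective _) (LinearMap.exact_subtype_ker_map _)
  have h0 : lenAt r (LinearMap.ker (Submodule.factor hle)) = 0 := by
    rw [lenAt, Module.length_eq_zero_iff]
    refine LocalizedModule.subsingleton_iff.2 fun m => ⟨s, hs, Subtype.ext ?_⟩
    obtain ⟨⟨m, hm⟩, rfl⟩ : ∃ m', m' = m := ⟨m, rfl⟩
    obtain ⟨z, rfl⟩ := Submodule.Quotient.mk_surjective _ m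
    obtain ⟨c, hc⟩ := Ideal.mem_span_singleton'.1 ((Submodule.Quotient.mk_eq_zero _).1 (LinearMap.mem_ker.1 hm))
    show s • Submodule.Quotient.mk z = 0
    rw [← Submodule.Quotient.mk_smul, Submodule.Quotient.mk_eq_zero, smul_eq_mul, Ideal.mem_span_singleton']
    exact ⟨c, by rw [show z = c * x from hc.symm]; ring⟩
  rw [h0, zero_add] at h
  rw [od, h]
  rfl

theorem od_one (r : PrimeSpectrum C) : od r (1 : C) = 0 :=
  od_eq_zero fun h => r.2.ne_top ((Ideal.eq_top_iff_one _).2 h)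

variable (A) in
include A in
theorem od_pow (hC : Thin C) {x : C} (hx : x ∈ nonZeroDivisors C) {r : PrimeSpectrum C} (hr : Curve r) (k : ℕ) :
    od r (x ^ k) = k * od r x := by
  induction k with
  | zero => simp [od_one]
  | succ k ih =>
    rw [pow_succ, od_mul A hC (pow_mem hx _) hx hr, ih]
    push_cast
    ring

variable (A) in
include A in
theorem od_prod (hC : Thin C) {ι : Type*} (s : Finset ι) (g : ι → C) (n : ι → ℕ) (hg : ∀ i ∈ s, g i ∈ nonZeroDivisors C)
    {r : PrimeSpectrum C} (hr : Curve r) : od r (∏ i ∈ s, g i ^ n i) = ∑ i ∈ s, (n i : ℤ) * od r (g i) := by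
  classical
  induction s using Finset.induction with
  | empty => simp [od_one]
  | @insert i s hi ih =>
    have hg' : ∀ j ∈ s, g j ∈ nonZeroDivisors C := fun j hj => hg j (Finset.mem_insert_of_mem hj)
    have hgi := hg i (Finset.mem_insert_self i s)
    rw [Finset.prod_insert hi, Finset.sum_insert hi,
      od_mul A hC (pow_mem hgi _) (prod_mem fun j hj => pow_mem (hg' j hj) _) hr, ih hg']
    congr 1
    exact od_pow A hC hgi hr (n i)

theorem cf_pow {r : PrimeSpectrum C} (hr : Curve r) {x : C} (hx : x ∉ r.asIdeal) (k : ℕ) :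
    cf A r (x ^ k) = k * cf A r x := by
  induction k with
  | zero => simp [cf_one hr]
  | succ k ih =>
    rw [pow_succ, cf_mul hr (fun h => hx (r.2.mem_of_pow_mem k h)) hx, ih]
    push_cast
    ring

theorem cf_prod {ι : Type*} (s : Finset ι) (g : ι → C) (n : ι → ℕ) {r : PrimeSpectrum C} (hr : Curve r)
    (hg : ∀ i ∈ s, g i ∉ r.asIdeal) : cf A r (∏ i ∈ s, g i ^ n i) = ∑ i ∈ s, (n i : ℤ) * cf A r (g i) := by
  classical
  induction s using Finset.induction with
  | empty => simp [cf_one hr]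
  | @insert i s hi ih =>
    have hg' : ∀ j ∈ s, g j ∉ r.asIdeal := fun j hj => hg j (Finset.mem_insert_of_mem hj)
    have hgi := hg i (Finset.mem_insert_self i s)
    rw [Finset.prod_insert hi, Finset.sum_insert hi, cf_mul hr (fun h => hgi (r.2.mem_of_pow_mem _ h))
      (fun h => by
        obtain ⟨j, hj, hj'⟩ := r.2.prod_mem_iff.1 h
        exact hg' j hj (r.2.mem_of_pow_mem _ hj')), cf_pow hr hgi, ih hg']

/-- The reciprocity formula. -/
theorem reciprocity (hC : Thin C) {a b : C} (ha : a ∈ nonZeroDivisors C) (hb : b ∈ nonZeroDivisors C)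
    (R : Finset (PrimeSpectrum C)) (hR : ∀ r, r ∈ R ↔ Curve r ∧ a * b ∈ r.asIdeal) (p : PrimeSpectrum C → C)
    (hp : ∀ r ∈ R, p r ∈ nonZeroDivisors C) (hpm : ∀ r ∈ R, p r ∈ r.asIdeal)
    (hpn : ∀ r ∈ R, ∀ r' ∈ R, r' ≠ r → p r ∉ r'.asIdeal) (e f : PrimeSpectrum C → ℕ)
    (s1 c1 s2 c2 : PrimeSpectrum C → C) (hs1 : ∀ r ∈ R, s1 r ∉ r.asIdeal) (hc1 : ∀ r ∈ R, c1 r ∉ r.asIdeal)
    (hs2 : ∀ r ∈ R, s2 r ∉ r.asIdeal) (hc2 : ∀ r ∈ R, c2 r ∉ r.asIdeal)
    (hea : ∀ r ∈ R, a * s1 r = p r ^ e r * c1 r) (heb : ∀ r ∈ R, b * s2 r = p r ^ f r * c2 r) :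
    ∑ r ∈ R, od r (p r) *
      ((f r : ℤ) * (cf A r (c1 r) - cf A r (s1 r)) - (e r : ℤ) * (cf A r (c2 r) - cf A r (s2 r))) = 0 := by
  classical
  haveI := isNoetherian_C A (C := C)
  have hRc : ∀ r ∈ R, Curve r := fun r hr => ((hR r).1 hr).1
  have haR : ∀ r, Curve r → a ∈ r.asIdeal → r ∈ R := fun r h1 h2 => (hR r).2 ⟨h1, r.asIdeal.mul_mem_right _ h2⟩
  choose Ux hUx using fun j : {j // j ∈ R} => exists_cover hC (hp j.1 j.2)
  let P : C := ∏ j ∈ R, p j ^ f j
  have hP : P ∈ nonZeroDivisors C := prod_mem fun j hj => pow_mem (hp j hj) _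
  let Q : PrimeSpectrum C → C := fun r => ∏ j ∈ R.erase r, p j ^ f j
  have hQ : ∀ r ∈ R, Q r ∉ r.asIdeal := fun r hr h => by
    obtain ⟨j, hj, hj'⟩ := r.2.prod_mem_iff.1 h
    exact hpn j (Finset.mem_erase.1 hj).2 r hr (Finset.mem_erase.1 hj).1.symm (r.2.mem_of_pow_mem _ hj')
  have hbP : ∀ r ∈ R, b * (s2 r * Q r) = P * c2 r := fun r hr => by
    rw [← mul_assoc, heb r hr, show P = p r ^ f r * Q r from (Finset.mul_prod_erase R _ hr).symm]
    ring
  have hσ : ∀ r ∈ R, s2 r * Q r ∉ r.asIdeal := fun r hr h => (r.2.mem_or_mem h).elim (hs2 r hr) (hQ r hr)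
  obtain ⟨s, w, hs, hw, hsw, hav⟩ := exists_avoid R hRc hb hP (mul_mem ha hb) (fun r hr => ((hR r).1 hr).2)
    (fun _ => True) (fun _ => True) (fun r hr => ⟨_, _, hbP r hr, fun _ => hσ r hr, fun _ => hc2 r hr⟩)
  obtain ⟨Us, hUs⟩ := exists_cover hC hs
  obtain ⟨Uw, hUw⟩ := exists_cover hC hw
  let V := (R ∪ R.attach.biUnion Ux) ∪ (Us ∪ Uw)
  have hV : ∀ r ∈ V, Curve r := fun r hr => by
    rcases Finset.mem_union.1 hr with h1 | h1
    · rcases Finset.mem_union.1 h1 with h2 | h2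
      · exact hRc r h2
      · obtain ⟨j, -, hj⟩ := Finset.mem_biUnion.1 h2
        exact ((hUx j r).1 hj).1
    · rcases Finset.mem_union.1 h1 with h2 | h2
      · exact ((hUs r).1 h2).1
      · exact ((hUw r).1 h2).1
  have hRV : R ⊆ V := fun r hr => Finset.mem_union_left _ (Finset.mem_union_left _ hr)
  have hpV : ∀ j ∈ R, ∀ r, Curve r → p j ∈ r.asIdeal → r ∈ V := fun j hj r h1 h2 =>
    Finset.mem_union_left _
      (Finset.mem_union_right _ (Finset.mem_biUnion.2 ⟨⟨j, hj⟩, Finset.mem_attach _ _, (hUx _ r).2 ⟨h1, h2⟩⟩))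
  have hsV : ∀ r, Curve r → s ∈ r.asIdeal → r ∈ V := fun r h1 h2 =>
    Finset.mem_union_right _ (Finset.mem_union_left _ ((hUs r).2 ⟨h1, h2⟩))
  have hwV : ∀ r, Curve r → w ∈ r.asIdeal → r ∈ V := fun r h1 h2 =>
    Finset.mem_union_right _ (Finset.mem_union_right _ ((hUw r).2 ⟨h1, h2⟩))
  have haV : ∀ r, Curve r → a ∈ r.asIdeal → r ∈ V := fun r h1 h2 => hRV (haR r h1 h2)
  have hoda : ∀ r ∈ R, od r a = (e r : ℤ) * od r (p r) := fun r hr => by
    rw [← od_mul_unit a (hs1 r hr), hea r hr, od_mul_unit _ (hc1 r hr), od_pow A hC (hp r hr) (hRc r hr)]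
  -- the relation given by each member of `R`
  have hL : ∀ j ∈ R, od j (p j) * (cf A j (c1 j) - cf A j (s1 j)) + ∑ q ∈ V \ R, od q (p j) * cf A q a
      - ∑ r ∈ R.erase j, od r a * cf A r (p j) = 0 := by
    intro j hj
    have hX : ∑ q ∈ V \ R, od q (p j) * cf A q a = ∑ q ∈ V.erase j, od q (p j) * cf A q a := by
      refine Finset.sum_subset (fun q hq => Finset.mem_erase.2
        ⟨fun h => (Finset.mem_sdiff.1 hq).2 (h ▸ hj), (Finset.mem_sdiff.1 hq).1⟩) fun q hq hnq => ?_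
      obtain ⟨hne, hqV⟩ := Finset.mem_erase.1 hq
      have hqR : q ∈ R := by
        by_contra h
        exact hnq (Finset.mem_sdiff.2 ⟨hqV, h⟩)
      rw [od_eq_zero (hpn j hj q hqR hne), zero_mul]
    have hY : ∑ r ∈ R.erase j, od r a * cf A r (p j) = ∑ r ∈ V.erase j, od r a * cf A r (p j) := by
      refine Finset.sum_subset (Finset.erase_subset_erase _ hRV) fun q hq hnq => ?_
      obtain ⟨hne, hqV⟩ := Finset.mem_erase.1 hq
      rw [od_eq_zero fun h => hnq (Finset.mem_erase.2 ⟨hne, haR q (hV q hqV) h⟩), zero_mul]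
    rw [hX, hY]
    by_cases he : e j = 0
    · have haj : a ∉ j.asIdeal := fun h => hc1 j hj (by
        have h1 := hea j hj
        rw [he, pow_zero, one_mul] at h1
        rw [← h1]
        exact j.asIdeal.mul_mem_right _ h)
      have hS := od_symm (A := A) hC (hp j hj) ha V hV (hpV j hj) haV (fun r hr h1 h2 => by
        by_cases hne : r = j
        · exact haj (hne ▸ h2)
        · exact hpn j hj r (haR r (hV r hr) h2) hne h1)
      rw [← Finset.add_sum_erase V _ (hRV hj), ← Finset.add_sum_erase V _ (hRV hj), od_eq_zero haj, zero_mul,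
        zero_add] at hS
      have hca : cf A j (c1 j) - cf A j (s1 j) = cf A j a := by
        have h1 := congrArg (cf A j) (hea j hj)
        rw [cf_mul (hRc j hj) haj (hs1 j hj), he, pow_zero, one_mul] at h1
        omega
      rw [hca]
      linarith
    · have hK := od_common (A := A) hC (pow_mem (hp j hj) (e j)) ha V hV
        (fun r h1 h2 => hpV j hj r h1 (r.2.mem_of_pow_mem _ h2)) haV j (hRV hj)
        (Ideal.pow_mem_of_mem _ (hpm j hj) _ (Nat.pos_of_ne_zero he))
        (fun r hr h1 h2 => by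
          by_contra hne
          exact hpn j hj r (haR r (hV r hr) h2) hne (r.2.mem_of_pow_mem _ h1))
        (hs1 j hj) (hc1 j hj) (hea j hj)
      rw [od_pow A hC (hp j hj) (hRc j hj), Finset.sum_congr rfl fun r hr =>
        show od r (p j ^ e j) * cf A r a - od r a * cf A r (p j ^ e j) =
          (e j : ℤ) * (od r (p j) * cf A r a - od r a * cf A r (p j)) by
        rw [od_pow A hC (hp j hj) (hV r (Finset.mem_erase.1 hr).2)]
        by_cases har : a ∈ r.asIdeal
        · rw [cf_pow (hV r (Finset.mem_erase.1 hr).2)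
            (hpn j hj r (haR r (hV r (Finset.mem_erase.1 hr).2) har) (Finset.mem_erase.1 hr).1)]
          ring
        · rw [od_eq_zero har]
          ring, ← Finset.mul_sum, mul_assoc, ← mul_add, Finset.sum_sub_distrib] at hK
      have h0 := (mul_eq_zero.1 hK).resolve_left (by exact_mod_cast he)
      linarith
  -- the symmetric relations with `s` and `w`
  have hSw := od_symm (A := A) hC ha hw V hV haV hwV
    (fun r hr h1 => (hav r (haR r (hV r hr) h1)).2 trivial)
  have hSs := od_symm (A := A) hC ha hs V hV haV hsV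
    (fun r hr h1 => (hav r (haR r (hV r hr) h1)).1 trivial)
  have hl : ∑ r ∈ V, (od r a * cf A r w - od r a * cf A r s) =
      ∑ r ∈ R, ((e r : ℤ) * od r (p r) * (cf A r (c2 r) - cf A r (s2 r))
        - ∑ j ∈ R.erase r, (f j : ℤ) * (od r a * cf A r (p j))) := by
    rw [← Finset.sum_subset hRV fun r hr hnr => by
      rw [od_eq_zero fun h => hnr (haR r (hV r hr) h)]; ring]
    refine Finset.sum_congr rfl fun r hr => ?_
    obtain ⟨hsr, hwr⟩ := hav r hr
    have h1 : w * (s2 r * Q r) = s * c2 r := mul_cancel_left_mem_nonZeroDivisors hP |>.1 (by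
      calc P * (w * (s2 r * Q r)) = (P * w) * (s2 r * Q r) := by ring
        _ = s * (b * (s2 r * Q r)) := by rw [← hsw]; ring
        _ = P * (s * c2 r) := by rw [hbP r hr]; ring)
    have h2 := congrArg (cf A r) h1
    rw [cf_mul (hRc r hr) (hwr trivial) (hσ r hr), cf_mul (hRc r hr) (hs2 r hr) (hQ r hr),
      cf_mul (hRc r hr) (hsr trivial) (hc2 r hr),
      show cf A r (Q r) = ∑ j ∈ R.erase r, (f j : ℤ) * cf A r (p j) from cf_prod _ _ _ (hRc r hr) fun j hj =>
        hpn j (Finset.mem_erase.1 hj).2 r hr (Finset.mem_erase.1 hj).1.symm] at h2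
    have h3 : cf A r w - cf A r s =
        cf A r (c2 r) - cf A r (s2 r) - ∑ j ∈ R.erase r, (f j : ℤ) * cf A r (p j) := by linarith
    rw [← mul_sub, h3, mul_sub, Finset.mul_sum, hoda r hr]
    congr 1
    exact Finset.sum_congr rfl fun j _ => by ring
  have hr' : ∑ r ∈ V, (od r w * cf A r a - od r s * cf A r a) =
      - ∑ j ∈ R, (f j : ℤ) * ∑ q ∈ V \ R, od q (p j) * cf A q a := by
    rw [← Finset.sum_subset (Finset.sdiff_subset (s := V) (t := R)) fun r hr hnr => by
      have hrR : r ∈ R := by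
        by_contra h
        exact hnr (Finset.mem_sdiff.2 ⟨hr, h⟩)
      rw [od_eq_zero ((hav r hrR).1 trivial), od_eq_zero ((hav r hrR).2 trivial)]
      ring]
    simp only [Finset.mul_sum, ← Finset.sum_neg_distrib]
    rw [Finset.sum_comm (s := R)]
    refine Finset.sum_congr rfl fun q hq => ?_
    obtain ⟨hqV, hqR⟩ := Finset.mem_sdiff.1 hq
    have hbq : b ∉ q.asIdeal := fun h => hqR ((hR q).2 ⟨hV q hqV, q.asIdeal.mul_mem_left _ h⟩)
    have h1 : od q w + ∑ j ∈ R, (f j : ℤ) * od q (p j) = od q s := by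
      rw [← od_prod A hC R p f hp (hV q hqV), add_comm, ← od_mul A hC hP hw (hV q hqV), ← hsw,
        od_mul A hC hb hs (hV q hqV), od_eq_zero hbq, zero_add]
    rw [← sub_mul, show od q w - od q s = -∑ j ∈ R, (f j : ℤ) * od q (p j) by omega, neg_mul, Finset.sum_mul,
      ← Finset.sum_neg_distrib]
    exact Finset.sum_congr rfl fun j _ => by ring
  have hswap : ∑ r ∈ R, ∑ j ∈ R.erase r, (f j : ℤ) * (od r a * cf A r (p j)) =
      ∑ j ∈ R, (f j : ℤ) * ∑ r ∈ R.erase j, od r a * cf A r (p j) := by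
    simp only [Finset.mul_sum]
    refine Finset.sum_comm' fun r j => ?_
    simp only [Finset.mem_erase, ne_eq]
    constructor
    · rintro ⟨h1, h2, h3⟩; exact ⟨⟨fun h => h2 h.symm, h1⟩, h3⟩
    · rintro ⟨⟨h1, h2⟩, h3⟩; exact ⟨h2, fun h => h1 h.symm, h3⟩
  have hlr : ∑ r ∈ V, (od r a * cf A r w - od r a * cf A r s) =
      ∑ r ∈ V, (od r w * cf A r a - od r s * cf A r a) := by
    rw [Finset.sum_sub_distrib, Finset.sum_sub_distrib, hSw, hSs]
  rw [hl, hr', Finset.sum_sub_distrib, hswap] at hlr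
  have hsumL : ∑ j ∈ R, (f j : ℤ) * (od j (p j) * (cf A j (c1 j) - cf A j (s1 j))
      + ∑ q ∈ V \ R, od q (p j) * cf A q a - ∑ r ∈ R.erase j, od r a * cf A r (p j)) = 0 :=
    Finset.sum_eq_zero fun j hj => by rw [hL j hj, mul_zero]
  simp only [mul_sub, mul_add, Finset.sum_sub_distrib, Finset.sum_add_distrib] at hsumL
  rw [Finset.sum_congr rfl fun r _ => show od r (p r) *
      ((f r : ℤ) * (cf A r (c1 r) - cf A r (s1 r)) - (e r : ℤ) * (cf A r (c2 r) - cf A r (s2 r))) =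
      ((f r : ℤ) * (od r (p r) * cf A r (c1 r)) - (f r : ℤ) * (od r (p r) * cf A r (s1 r)))
        - (e r : ℤ) * od r (p r) * (cf A r (c2 r) - cf A r (s2 r)) by ring]
  simp only [Finset.sum_sub_distrib]
  linarith

end Orders

end Core

end Groth.Agent.TameCh
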