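import Mathlib

/-!
Gluing finite modifications at the minimal primes over a regular element inside the localization away from it.
-/

set_option autoImplicit false
set_option linter.style.haveILetI false

universe u

noncomputable section

namespace Groth.Agent.TameCh

open Localization

variable {A : Type u} [CommRing A] [IsNoetherianRing A] {t : A} {ι : Type u} [Finite ι]
  (q : ι → PrimeSpectrum A) (E : ι → Type u) [∀ i, CommRing (E i)] [∀ i, Algebra A (E i)]
  [∀ i, Algebra (Localization.AtPrime (q i).asIdeal) (E i)]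
  [∀ i, IsScalarTower A (Localization.AtPrime (q i).asIdeal) (E i)]

/-- The localization of `E i` away from `t`. -/
abbrev Et (t : A) (i : ι) : Type u := Localization.Away (algebraMap A (E i) t)

/-- The map of localizations away from `t`. -/
def phi (t : A) (i : ι) : Localization.Away t →ₐ[A] Et E t i :=
  IsLocalization.Away.liftAlgHom (x := t) (f := (IsScalarTower.toAlgHom A (E i) (Et E t i)).comp (Algebra.ofId A (E i)))
    (IsLocalization.Away.algebraMap_isUnit (algebraMap A (E i) t))

theorem phi_algebraMap (i : ι) (a : A) :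
    phi E t i (algebraMap A (Localization.Away t) a) = algebraMap (E i) (Et E t i) (algebraMap A (E i) a) :=
  (phi E t i).commutes a

/-- The fractions with denominator `t ^ k` lying in every modification. -/
def lattice (t : A) (k : ℕ) : Submodule A (Localization.Away t) where
  carrier := {x | (∃ a, t ^ k • x = algebraMap A (Localization.Away t) a) ∧
    ∀ i, phi E t i x ∈ (IsScalarTower.toAlgHom A (E i) (Et E t i)).range}
  add_mem' := by
    rintro x y ⟨⟨a, ha⟩, hx⟩ ⟨⟨b, hb⟩, hy⟩
    exact ⟨⟨a + b, by rw [smul_add, ha, hb, map_add]⟩, fun i => by rw [map_add]; exact add_mem (hx i) (hy i)⟩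
  zero_mem' := ⟨⟨0, by rw [smul_zero, map_zero]⟩, fun i => by rw [map_zero]; exact zero_mem _⟩
  smul_mem' := by
    rintro c x ⟨⟨a, ha⟩, hx⟩
    exact ⟨⟨c * a, by rw [smul_comm, ha, Algebra.smul_def, map_mul]⟩,
      fun i => by rw [map_smul]; exact Subalgebra.smul_mem _ (hx i) c⟩

theorem mul_mem_lattice {k l : ℕ} {x y : Localization.Away t} (hx : x ∈ lattice E t k) (hy : y ∈ lattice E t l) :
    x * y ∈ lattice E t (k + l) := by
  obtain ⟨⟨a, ha⟩, hx⟩ := hx
  obtain ⟨⟨b, hb⟩, hy⟩ := hy
  refine ⟨⟨a * b, ?_⟩, fun i => by rw [map_mul]; exact mul_mem (hx i) (hy i)⟩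
  rw [map_mul, ← ha, ← hb, smul_mul_smul_comm, pow_add]

theorem one_mem_lattice (k : ℕ) : (1 : Localization.Away t) ∈ lattice E t k :=
  ⟨⟨t ^ k, by rw [Algebra.smul_def, mul_one]⟩, fun i => by rw [map_one]; exact one_mem _⟩

theorem fg_lattice (k : ℕ) : (lattice E t k).FG := by
  have hle : lattice E t k ≤ Submodule.span A {(IsLocalization.Away.invSelf t : Localization.Away t) ^ k} := by
    rintro x ⟨⟨a, ha⟩, -⟩
    refine Submodule.mem_span_singleton.2 ⟨a, ?_⟩
    rw [Algebra.smul_def, ← ha, Algebra.smul_def, map_pow, mul_comm _ x, mul_assoc, ← mul_pow,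
      IsLocalization.Away.mul_invSelf, one_pow, mul_one]
  haveI := isNoetherian_span_of_finite A (Set.finite_singleton ((IsLocalization.Away.invSelf t : Localization.Away t) ^ k))
  haveI := isNoetherian_of_le hle
  exact Module.Finite.iff_fg.1 inferInstance

/-- The elements multiplying the double lattice into the single one. -/
def conductor (t : A) (n : ℕ) : Ideal A where
  carrier := {j | ∀ y ∈ lattice E t (n + n), j • y ∈ lattice E t n}
  add_mem' := fun h h' y hy => by rw [add_smul]; exact add_mem (h y hy) (h' y hy)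
  zero_mem' := fun y hy => by rw [zero_smul]; exact zero_mem _
  smul_mem' := fun c j h y hy => by rw [smul_eq_mul, mul_smul]; exact Submodule.smul_mem _ c (h y hy)

theorem exists_smul_mem_lattice (ht : t ∈ nonZeroDivisors A) (i : ι)
    (hinj : Function.Injective (algebraMap (Localization.AtPrime (q i).asIdeal) (E i)))
    (htE : algebraMap A (E i) t ∈ nonZeroDivisors (E i)) {n : ℕ}
    (hn : ∀ e : E i, ∃ α, algebraMap A (E i) (t ^ n) * e = algebraMap (Localization.AtPrime (q i).asIdeal) (E i) α)
    {y : Localization.Away t} (hy : y ∈ lattice E t (n + n)) : ∃ c ∉ (q i).asIdeal, c • y ∈ lattice E t n := by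
  obtain ⟨⟨a, ha⟩, hy⟩ := hy
  obtain ⟨e, he⟩ := hy i
  obtain ⟨α, hα⟩ := hn e
  obtain ⟨⟨a', s⟩, hs⟩ := IsLocalization.surj (q i).asIdeal.primeCompl α
  have h1 : algebraMap A (E i) (t ^ (n + n)) * e = algebraMap A (E i) a := by
    apply IsLocalization.injective (Et E t i) (Submonoid.powers_le.2 htE)
    have h := congrArg (phi E t i) ha
    rw [Algebra.smul_def, map_mul, phi_algebraMap, phi_algebraMap, ← he] at h
    rw [map_mul]
    exact h
  have h2 : algebraMap A (Localization.AtPrime (q i).asIdeal) (t ^ n) * α =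
      algebraMap A (Localization.AtPrime (q i).asIdeal) a := by
    apply hinj
    rw [map_mul, ← hα, ← IsScalarTower.algebraMap_apply, ← IsScalarTower.algebraMap_apply, ← h1, pow_add, map_mul]
    ring
  have h3 : algebraMap A (Localization.AtPrime (q i).asIdeal) (t ^ n * a') =
      algebraMap A (Localization.AtPrime (q i).asIdeal) (a * s) := by
    rw [map_mul, ← hs, ← mul_assoc, h2, map_mul]
  obtain ⟨c, hc⟩ := (IsLocalization.eq_iff_exists (q i).asIdeal.primeCompl _).1 h3
  refine ⟨c * s, ((c * s : (q i).asIdeal.primeCompl)).2, ⟨c * a', ?_⟩, fun j => ?_⟩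
  · have hu : IsUnit (algebraMap A (Localization.Away t) (t ^ n)) := by
      rw [map_pow]; exact (IsLocalization.Away.algebraMap_isUnit t).pow n
    refine hu.mul_left_cancel ?_
    rw [Algebra.smul_def, ← mul_assoc, ← map_mul, ← pow_add, Algebra.smul_def, ← mul_assoc, ← map_mul,
      mul_comm (t ^ (n + n)), map_mul, mul_assoc, ← Algebra.smul_def (t ^ (n + n)) y, ha, ← map_mul, ← map_mul]
    congr 1
    calc (c : A) * s * a = c * (a * s) := by ring
      _ = c * (t ^ n * a') := hc.symm
      _ = t ^ n * (c * a') := by ring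
  · rw [map_smul]
    exact Subalgebra.smul_mem _ (hy j) _

/-- Gluing. -/
theorem exists_glue (ht : t ∈ nonZeroDivisors A) (hq : Function.Injective q)
    (hmin : ∀ i, (q i).asIdeal ∈ (Ideal.span {t}).minimalPrimes)
    (hinj : ∀ i, Function.Injective (algebraMap (Localization.AtPrime (q i).asIdeal) (E i)))
    (htE : ∀ i, algebraMap A (E i) t ∈ nonZeroDivisors (E i))
    (hbd : ∀ i, ∃ n : ℕ, ∀ e : E i,
      ∃ α, algebraMap A (E i) (t ^ n) * e = algebraMap (Localization.AtPrime (q i).asIdeal) (E i) α) :
    ∃ C : Subalgebra A (Localization.Away t), Module.Finite A C ∧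
      (∃ n : ℕ, ∀ x : C, ∃ a, t ^ n • x = algebraMap A C a) ∧
      ∃ ψ : ∀ i, C →ₐ[A] E i, ∀ i,
        letI := (ψ i).toRingHom.toAlgebra
        IsLocalization (Algebra.algebraMapSubmonoid C (q i).asIdeal.primeCompl) (E i) := by
  classical
  haveI := Fintype.ofFinite ι
  choose ni hni using hbd
  let n := ∑ i, ni i
  have hn : ∀ i (e : E i),
      ∃ α, algebraMap A (E i) (t ^ n) * e = algebraMap (Localization.AtPrime (q i).asIdeal) (E i) α := fun i e => by
    obtain ⟨α, hα⟩ := hni i e
    obtain ⟨d, hd⟩ := Nat.exists_eq_add_of_le (Finset.single_le_sum (fun j _ => Nat.zero_le (ni j)) (Finset.mem_univ i))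
    refine ⟨algebraMap A _ (t ^ d) * α, ?_⟩
    rw [map_mul, ← IsScalarTower.algebraMap_apply, ← hα, show t ^ n = t ^ d * t ^ ni i by
      rw [← pow_add, Nat.add_comm d]; exact congrArg (t ^ ·) hd, map_mul, mul_assoc]
  let L := lattice E t n
  let J := conductor E t n
  have hJ : ∀ i, ∃ j ∈ J, j ∉ (q i).asIdeal := by
    intro i
    obtain ⟨G, hG⟩ := fg_lattice E (t := t) (n + n)
    choose c hc hcm using fun y : {y // y ∈ G} =>
      exists_smul_mem_lattice q E ht i (hinj i) (htE i) (hn i) (y := y.1) (hG ▸ Submodule.subset_span y.2)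
    refine ⟨∏ y, c y, fun y hy => ?_, fun h => ?_⟩
    · rw [← hG] at hy
      refine Submodule.span_induction (fun z hz => ?_) (by rw [smul_zero]; exact zero_mem _)
        (fun _ _ _ _ h h' => by rw [smul_add]; exact add_mem h h')
        (fun r _ _ h => by rw [smul_comm]; exact Submodule.smul_mem _ r h) hy
      rw [← Finset.prod_erase_mul _ _ (Finset.mem_univ (⟨z, hz⟩ : {y // y ∈ G})), mul_smul]
      exact Submodule.smul_mem _ _ (hcm ⟨z, hz⟩)
    · obtain ⟨y, -, hy⟩ := (q i).2.prod_mem_iff.1 h
      exact hc y hy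
  let P : Submodule A (Localization.Away t) := Submodule.span A {1} ⊔ J • L
  have hPL : P ≤ L := sup_le ((Submodule.span_singleton_le_iff_mem _ _).2 (one_mem_lattice E n)) Submodule.smul_le_right
  have h11 : ∀ {z}, z ∈ J • L → z ∈ P := fun hz => Submodule.mem_sup_right hz
  have hmul : ∀ x y, x ∈ P → y ∈ P → x * y ∈ P := by
    intro x y hx hy
    obtain ⟨x₁, hx₁, x₂, hx₂, rfl⟩ := Submodule.mem_sup.1 hx
    obtain ⟨y₁, hy₁, y₂, hy₂, rfl⟩ := Submodule.mem_sup.1 hy
    obtain ⟨r₁, rfl⟩ := Submodule.mem_span_singleton.1 hx₁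
    obtain ⟨r₂, rfl⟩ := Submodule.mem_span_singleton.1 hy₁
    have hJJ : x₂ * y₂ ∈ J • L := by
      refine Submodule.smul_induction_on hx₂ (fun j hj u hu => ?_) (fun _ _ h h' => by rw [add_mul]; exact add_mem h h')
      rw [smul_mul_assoc]
      refine Submodule.smul_mem_smul hj ?_
      refine Submodule.smul_induction_on hy₂ (fun j' hj' v hv => ?_) (fun _ _ h h' => by rw [mul_add]; exact add_mem h h')
      rw [mul_smul_comm]
      exact hj' _ (mul_mem_lattice E hu hv)
    rw [add_mul, mul_add, mul_add, smul_mul_assoc, one_mul, smul_mul_assoc, one_mul, mul_smul_comm, mul_one]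
    exact add_mem (add_mem (P.smul_mem r₁ (Submodule.mem_sup_left hy₁)) (P.smul_mem r₁ (h11 hy₂)))
      (add_mem (P.smul_mem r₂ (h11 hx₂)) (h11 hJJ))
  let C : Subalgebra A (Localization.Away t) :=
    P.toSubalgebra (Submodule.mem_sup_left (Submodule.mem_span_singleton_self 1)) hmul
  have hCL : ∀ x : C, (x : Localization.Away t) ∈ L := fun x => hPL x.2
  refine ⟨C, ?_, ⟨n, fun x => ?_⟩, ?_⟩
  · haveI : Module.Finite A (lattice E t n) := Module.Finite.iff_fg.2 (fg_lattice E n)
    haveI : IsNoetherian A (lattice E t n) := inferInstance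
    haveI : IsNoetherian A P := isNoetherian_of_le hPL
    exact Module.IsNoetherian.finite A P
  · obtain ⟨⟨a, ha⟩, -⟩ := hCL x
    exact ⟨a, Subtype.ext ha⟩
  have hιinj : ∀ i, Function.Injective (IsScalarTower.toAlgHom A (E i) (Et E t i)) := fun i =>
    IsLocalization.injective (Et E t i) (Submonoid.powers_le.2 (htE i))
  let ψ : ∀ i, C →ₐ[A] E i := fun i =>
    (AlgEquiv.ofInjective _ (hιinj i)).symm.toAlgHom.comp
      (((phi E t i).comp C.val).codRestrict _ fun x => (hCL x).2 i)
  have hψ : ∀ i (x : C), algebraMap (E i) (Et E t i) (ψ i x) = phi E t i x := fun i x =>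
    congrArg Subtype.val ((AlgEquiv.ofInjective _ (hιinj i)).apply_symm_apply
      ⟨phi E t i x, (hCL x).2 i⟩)
  refine ⟨ψ, fun i => ?_⟩
  letI := (ψ i).toRingHom.toAlgebra
  have hunit : ∀ c ∉ (q i).asIdeal, IsUnit (algebraMap A (E i) c) := fun c hc => by
    rw [IsScalarTower.algebraMap_apply A (Localization.AtPrime (q i).asIdeal) (E i)]
    exact (IsLocalization.map_units (Localization.AtPrime (q i).asIdeal) (⟨c, hc⟩ : (q i).asIdeal.primeCompl)).map _
  rw [isLocalization_iff]
  refine ⟨?_, fun e => ?_, fun {x y} hxy => ?_⟩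
  · rintro ⟨_, c, hc, rfl⟩
    show IsUnit (ψ i (algebraMap A C c))
    rw [AlgHom.commutes]
    exact hunit c hc
  · obtain ⟨α, hα⟩ := hn i e
    obtain ⟨⟨a, s⟩, hs⟩ := IsLocalization.surj (q i).asIdeal.primeCompl α
    -- an element in high powers of the other primes
    have hε : ∀ k, ∃ ε, ε ∉ (q i).asIdeal ∧ (k ≠ i → ∃ α', algebraMap A (Localization.AtPrime (q k).asIdeal) ε =
        algebraMap A (Localization.AtPrime (q k).asIdeal) (t ^ n) * α') := by
      intro k
      by_cases hk : k = i
      · exact ⟨1, fun h => (q i).2.ne_top ((Ideal.eq_top_iff_one _).2 h), fun h => absurd hk h⟩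
      obtain ⟨η, hη, hη'⟩ : ∃ η ∈ (q k).asIdeal, η ∉ (q i).asIdeal := by
        refine SetLike.not_le_iff_exists.1 fun hle => hk (hq ?_)
        exact PrimeSpectrum.ext (le_antisymm hle ((hmin i).2 (hmin k).1 hle))
      have hrad : algebraMap A (Localization.AtPrime (q k).asIdeal) η ∈
          (Ideal.span {algebraMap A (Localization.AtPrime (q k).asIdeal) (t ^ n)}).radical := by
        rw [Ideal.radical_eq_sInf, Submodule.mem_sInf]
        rintro (p : Ideal (Localization.AtPrime (q k).asIdeal)) ⟨hp, hpp⟩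
        have h1 : t ∈ p.comap (algebraMap A _) := by
          have h2 := hp (Ideal.mem_span_singleton_self _)
          rw [map_pow] at h2
          exact hpp.mem_of_pow_mem n h2
        have hdis := ((IsLocalization.isPrime_iff_isPrime_disjoint (q k).asIdeal.primeCompl
          (Localization.AtPrime (q k).asIdeal) p).1 hpp)
        have hle : p.comap (algebraMap A _) ≤ (q k).asIdeal := fun z hz => by
          by_contra hzq
          exact Set.disjoint_left.1 hdis.2 hzq hz
        exact (hmin k).2 ⟨hdis.1, (Ideal.span_singleton_le_iff_mem _).2 h1⟩ hle hη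
      obtain ⟨m, hm⟩ := hrad
      rw [Ideal.mem_span_singleton'] at hm
      obtain ⟨α', hα'⟩ := hm
      exact ⟨η ^ m, fun h => hη' ((q i).2.mem_of_pow_mem m h), fun _ => ⟨α', by rw [map_pow, ← hα', mul_comm]⟩⟩
    choose ε hε hε' using hε
    obtain ⟨j, hjJ, hjq⟩ := hJ i
    let c : A := ∏ k, ε k
    have hcq : c ∉ (q i).asIdeal := fun h => by
      obtain ⟨k, -, hk⟩ := (q i).2.prod_mem_iff.1 h
      exact hε k hk
    let y : Localization.Away t :=
      algebraMap A (Localization.Away t) a * (IsLocalization.Away.invSelf t : Localization.Away t) ^ n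
    have hy : t ^ n • y = algebraMap A (Localization.Away t) a := by
      rw [Algebra.smul_def, map_pow, mul_left_comm, ← mul_pow, IsLocalization.Away.mul_invSelf, one_pow, mul_one]
    have hphi : ∀ k, algebraMap (E k) (Et E t k) (algebraMap A (E k) (t ^ n)) * phi E t k y =
        algebraMap (E k) (Et E t k) (algebraMap A (E k) a) := fun k => by
      rw [← phi_algebraMap (t := t) E k, ← phi_algebraMap (t := t) E k, ← map_mul, ← Algebra.smul_def, hy]
    have hu : ∀ k, IsUnit (algebraMap (E k) (Et E t k) (algebraMap A (E k) (t ^ n))) := fun k => by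
      rw [map_pow, map_pow]
      exact (IsLocalization.Away.algebraMap_isUnit (algebraMap A (E k) t)).pow n
    have hyi : phi E t i y = algebraMap (E i) (Et E t i) (algebraMap A (E i) s * e) := by
      refine (hu i).mul_left_cancel ?_
      rw [hphi i, ← map_mul, IsScalarTower.algebraMap_apply A (Localization.AtPrime (q i).asIdeal) (E i) a, ← hs,
        map_mul, ← hα, ← IsScalarTower.algebraMap_apply]
      congr 1
      ring
    have hcy : c • y ∈ L := by
      refine ⟨⟨c * a, by rw [smul_comm, hy, Algebra.smul_def, map_mul]⟩, fun k => ?_⟩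
      by_cases hk : k = i
      · subst hk
        rw [map_smul]
        exact Subalgebra.smul_mem _ (show phi E t k y ∈ (IsScalarTower.toAlgHom A (E k) (Et E t k)).range from ⟨_, hyi.symm⟩) c
      · obtain ⟨α', hα'⟩ := hε' k hk
        rw [show c • y = (∏ l ∈ Finset.univ.erase k, ε l) • (ε k • y) by
          rw [← mul_smul, Finset.prod_erase_mul _ _ (Finset.mem_univ k)], map_smul]
        refine Subalgebra.smul_mem _ (show phi E t k (ε k • y) ∈ (IsScalarTower.toAlgHom A (E k) (Et E t k)).range from ?_) _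
        refine ⟨algebraMap (Localization.AtPrime (q k).asIdeal) (E k) α' * algebraMap A (E k) a, ?_⟩
        show algebraMap (E k) (Et E t k) _ = phi E t k (ε k • y)
        rw [map_smul, Algebra.smul_def, IsScalarTower.algebraMap_apply A (E k) (Et E t k),
          IsScalarTower.algebraMap_apply A (Localization.AtPrime (q k).asIdeal) (E k) (ε k), hα', map_mul, map_mul,
          ← IsScalarTower.algebraMap_apply A (Localization.AtPrime (q k).asIdeal) (E k), ← hphi k, map_mul]
        simp only [map_mul]
        ring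
    have hx : (j * c) • y ∈ P := h11 (mul_smul j c y ▸ Submodule.smul_mem_smul hjJ hcy)
    refine ⟨⟨⟨(j * c) • y, hx⟩, ⟨algebraMap A C (j * c * s), ⟨j * c * s, ?_, rfl⟩⟩⟩, ?_⟩
    · exact fun h => ((q i).2.mem_or_mem h).elim
        (fun h => ((q i).2.mem_or_mem h).elim hjq hcq) s.2
    · show e * ψ i (algebraMap A C (j * c * s)) = ψ i ⟨(j * c) • y, hx⟩
      refine hιinj i (Eq.trans ?_ (hψ i _).symm)
      show algebraMap (E i) (Et E t i) _ = phi E t i ((j * c) • y)
      rw [map_smul, hyi, Algebra.smul_def, AlgHom.commutes, IsScalarTower.algebraMap_apply A (E i) (Et E t i),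
        ← map_mul, map_mul (algebraMap A (E i)) (j * c) s]
      congr 1
      ring
  · have hxy' : ψ i x = ψ i y := hxy
    obtain ⟨⟨a, ha⟩, -⟩ := hCL x
    obtain ⟨⟨b, hb⟩, -⟩ := hCL y
    have h1 : algebraMap A (Localization.AtPrime (q i).asIdeal) a =
        algebraMap A (Localization.AtPrime (q i).asIdeal) b := by
      apply hinj i
      rw [← IsScalarTower.algebraMap_apply, ← IsScalarTower.algebraMap_apply]
      apply hιinj i
      show algebraMap (E i) (Et E t i) _ = algebraMap (E i) (Et E t i) _
      rw [← phi_algebraMap (t := t) E i, ← phi_algebraMap (t := t) E i, ← ha, ← hb, map_smul, map_smul, ← hψ, ← hψ, hxy']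
    obtain ⟨c, hc⟩ := (IsLocalization.eq_iff_exists (q i).asIdeal.primeCompl _).1 h1
    refine ⟨⟨algebraMap A C c, ⟨c, c.2, rfl⟩⟩, Subtype.ext ?_⟩
    show algebraMap A (Localization.Away t) c * x = algebraMap A (Localization.Away t) c * y
    have hu : IsUnit (algebraMap A (Localization.Away t) (t ^ n)) := by
      rw [map_pow]; exact (IsLocalization.Away.algebraMap_isUnit t).pow n
    refine hu.mul_left_cancel ?_
    rw [mul_left_comm, ← Algebra.smul_def (t ^ n), ha, ← map_mul, hc, map_mul, ← hb, Algebra.smul_def (t ^ n),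
      mul_left_comm]

end Groth.Agent.TameCh
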