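import Groth.Prelude.Def_Tame
import Mathlib

/-!
Representations of two elements of a local ring as units times powers of one element, and independence of their symbol.
-/

set_option autoImplicit false
set_option linter.style.haveILetI false

universe u

noncomputable section

namespace Groth.Agent.TameCh

open IsLocalRing

/-- Two elements written as units times powers of one regular element. -/
structure Rep {T : Type u} [CommRing T] (a b : T) where
  π : T
  π_mem : π ∈ nonZeroDivisors T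
  u : Tˣ
  v : Tˣ
  e : ℕ
  f : ℕ
  eq₁ : a = (u : T) * π ^ e
  eq₂ : b = (v : T) * π ^ f

namespace Rep

variable {T : Type u} [CommRing T] [IsLocalRing T] {a b : T}

/-- The residue symbol of a representation. -/
def sym (R : Rep a b) : ResidueField T :=
  (-1 : ResidueField T) ^ (R.e * R.f) * residue T (R.u : T) ^ R.f * (residue T (R.v : T) ^ R.e)⁻¹

theorem sym_ne_zero (R : Rep a b) : R.sym ≠ 0 :=
  mul_ne_zero (mul_ne_zero (pow_ne_zero _ (neg_ne_zero.2 one_ne_zero))
    (pow_ne_zero _ ((residue_ne_zero_iff_isUnit _).2 R.u.isUnit)))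
    (inv_ne_zero (pow_ne_zero _ ((residue_ne_zero_iff_isUnit _).2 R.v.isUnit)))

/-- The weight of a representation. -/
def wt (R : Rep a b) : ℕ := (Ring.ord T R.π).toNat

/-- The value of a representation in a subfield. -/
def val (k : Type u) [Field k] [Algebra k (ResidueField T)] (R : Rep a b) : k :=
  Algebra.norm k R.sym ^ R.wt

theorem not_isUnit_π (R : Rep a b) (hab : ¬ IsUnit (a * b)) : ¬ IsUnit R.π := fun h => hab <| by
  have h' := (R.u.isUnit.mul (h.pow R.e)).mul (R.v.isUnit.mul (h.pow R.f))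
  rwa [← R.eq₁, ← R.eq₂] at h'

theorem one_le_exp (R : Rep a b) (hab : ¬ IsUnit (a * b)) : 1 ≤ R.e + R.f := by
  by_contra h
  refine hab ?_
  have h' : IsUnit ((R.u : T) * R.π ^ R.e * ((R.v : T) * R.π ^ R.f)) := by
    rw [show R.e = 0 by omega, show R.f = 0 by omega, pow_zero, mul_one, mul_one]
    exact R.u.isUnit.mul R.v.isUnit
  rwa [← R.eq₁, ← R.eq₂] at h'

variable [IsNoetherianRing T] [Ring.KrullDimLE 1 T]

theorem ord_toNat (R : Rep a b) : (Ring.ord T a).toNat = R.e * R.wt ∧ (Ring.ord T b).toNat = R.f * R.wt := by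
  constructor
  · refine (congrArg (fun z => (Ring.ord T z).toNat) R.eq₁).trans ?_
    rw [Ring.ord_mul_of_isUnit_left R.u.isUnit, Ring.ord_pow R.π_mem, nsmul_eq_mul, ENat.toNat_mul]
    simp [wt]
  · refine (congrArg (fun z => (Ring.ord T z).toNat) R.eq₂).trans ?_
    rw [Ring.ord_mul_of_isUnit_left R.v.isUnit, Ring.ord_pow R.π_mem, nsmul_eq_mul, ENat.toNat_mul]
    simp [wt]

theorem wt_pos (R : Rep a b) (hab : ¬ IsUnit (a * b)) : 0 < R.wt := by
  refine Nat.pos_of_ne_zero fun h => ?_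
  rcases ENat.toNat_eq_zero.1 h with h | h
  · refine R.not_isUnit_π hab ?_
    haveI := Module.length_eq_zero_iff.1 (show Module.length T (T ⧸ Ideal.span {R.π}) = 0 from h)
    exact Ideal.span_singleton_eq_top.1 (Ideal.Quotient.subsingleton_iff.1 inferInstance)
  · exact Ring.ord_ne_top R.π_mem h

/-- The symbol does not depend on the representation. -/
theorem sym_pow_eq (R R' : Rep a b) (hab : ¬ IsUnit (a * b)) : R.sym ^ R.wt = R'.sym ^ R'.wt := by
  have hP := R.wt_pos hab
  have hP' := R'.wt_pos hab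
  obtain ⟨a1, a2⟩ := R.ord_toNat
  obtain ⟨b1, b2⟩ := R'.ord_toNat
  obtain ⟨g, i, j, hg, hcop, hi, hj⟩ := Nat.exists_coprime' (Nat.gcd_pos_of_pos_left R'.wt hP)
  have he : R.e * i = R'.e * j := by
    refine Nat.eq_of_mul_eq_mul_right hg ?_
    rw [mul_assoc, ← hi, mul_assoc, ← hj, ← a1, ← b1]
  have hf : R.f * i = R'.f * j := by
    refine Nat.eq_of_mul_eq_mul_right hg ?_
    rw [mul_assoc, ← hi, mul_assoc, ← hj, ← a2, ← b2]
  have hi0 : i ≠ 0 := fun h => by simp [h] at hi; omega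
  obtain ⟨k, hk⟩ : j ∣ R.e := Nat.Coprime.dvd_of_dvd_mul_right hcop.symm ⟨R'.e, by rw [he, mul_comm]⟩
  obtain ⟨l, hl⟩ : j ∣ R.f := Nat.Coprime.dvd_of_dvd_mul_right hcop.symm ⟨R'.f, by rw [hf, mul_comm]⟩
  have hj0 : j ≠ 0 := fun h => by simp [h] at hj; omega
  have hk' : R'.e = i * k := Nat.eq_of_mul_eq_mul_right (Nat.pos_of_ne_zero hj0) (by rw [← he, hk]; ring)
  have hl' : R'.f = i * l := Nat.eq_of_mul_eq_mul_right (Nat.pos_of_ne_zero hj0) (by rw [← hf, hl]; ring)
  have hunits : (R.u : T) ^ l * (R'.v : T) ^ k = (R'.u : T) ^ l * (R.v : T) ^ k := by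
    refine (mul_cancel_right_mem_nonZeroDivisors
      (mul_mem (pow_mem R.π_mem (j * k * l)) (pow_mem R'.π_mem (i * k * l)))).1 ?_
    calc (R.u : T) ^ l * (R'.v : T) ^ k * (R.π ^ (j * k * l) * R'.π ^ (i * k * l))
        = ((R.u : T) * R.π ^ R.e) ^ l * ((R'.v : T) * R'.π ^ R'.f) ^ k := by rw [hk, hl']; ring
      _ = ((R'.u : T) * R'.π ^ R'.e) ^ l * ((R.v : T) * R.π ^ R.f) ^ k := by
        rw [← R.eq₁, ← R'.eq₂, ← R'.eq₁, ← R.eq₂]
      _ = (R'.u : T) ^ l * (R.v : T) ^ k * (R.π ^ (j * k * l) * R'.π ^ (i * k * l)) := by rw [hl, hk']; ring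
  have hres := congrArg (residue T) hunits
  simp only [map_mul, map_pow] at hres
  have hu0 := (residue_ne_zero_iff_isUnit (R.u : T)).2 R.u.isUnit
  have hv0 := (residue_ne_zero_iff_isUnit (R.v : T)).2 R.v.isUnit
  have hv0' := (residue_ne_zero_iff_isUnit (R'.v : T)).2 R'.v.isUnit
  have hsign : ((-1 : ResidueField T) ^ (R.e * R.f)) ^ i = ((-1 : ResidueField T) ^ (R'.e * R'.f)) ^ j := by
    rw [← pow_mul, ← pow_mul, hk, hl, hk', hl']
    rw [neg_one_pow_eq_pow_mod_two, neg_one_pow_eq_pow_mod_two (n := i * k * (i * l) * j)]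
    congr 1
    rcases Nat.mod_two_eq_zero_or_one k with h1 | h1 <;> rcases Nat.mod_two_eq_zero_or_one l with h2 | h2 <;>
      rcases Nat.mod_two_eq_zero_or_one i with h3 | h3 <;> rcases Nat.mod_two_eq_zero_or_one j with h4 | h4 <;>
      simp [Nat.mul_mod, h1, h2, h3, h4]
  rw [hi, hj, pow_mul, pow_mul]
  congr 1
  simp only [sym, mul_pow]
  rw [hsign, mul_assoc, mul_assoc]
  congr 1
  rw [inv_pow, inv_pow, ← div_eq_mul_inv, ← div_eq_mul_inv,
    div_eq_div_iff (pow_ne_zero _ (pow_ne_zero _ hv0)) (pow_ne_zero _ (pow_ne_zero _ hv0'))]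
  rw [← pow_mul, ← pow_mul, ← pow_mul, ← pow_mul, hl, hk, hl', hk',
    show j * l * i = l * (i * j) by ring, show i * l * j = l * (i * j) by ring,
    show j * k * i = k * (i * j) by ring, show i * k * j = k * (i * j) by ring,
    pow_mul, pow_mul, pow_mul, pow_mul, ← mul_pow, ← mul_pow, hres, mul_pow, mul_pow]
  ring

theorem val_eq (k : Type u) [Field k] [Algebra k (ResidueField T)] (R R' : Rep a b) (hab : ¬ IsUnit (a * b)) :
    R.val k = R'.val k := by
  rw [val, val, ← map_pow, ← map_pow, sym_pow_eq R R' hab]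

end Rep

end Groth.Agent.TameCh
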