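import Groth.Agent.TameCh.Rep
import Groth.Agent.TameCh.Data
import Groth.Agent.CycDim.Norm

/-!
The value of tame data computed on any finite modification dominating them.
-/

set_option autoImplicit false
set_option linter.style.haveILetI false

universe u

noncomputable section

namespace Groth.Agent.TameCh

open CycAlg IsLocalRing Groth.Agent.CycHex

section Finite

variable {A : Type u} [CommRing A] [IsNoetherianRing A] [IsLocalRing A] {B : Type u} [CommRing B] [Algebra A B]
  [Module.Finite A B]

theorem krullDimLE_localization {R : Type u} [CommRing R] [Ring.KrullDimLE 1 R] (P : Ideal R) [P.IsPrime] :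
    Ring.KrullDimLE 1 (Localization.AtPrime P) := by
  rw [Ring.krullDimLE_iff, IsLocalization.AtPrime.ringKrullDim_eq_height P (Localization.AtPrime P)]
  exact (Ideal.height_le_ringKrullDim_of_ne_top (‹P.IsPrime›).ne_top).trans (Ring.krullDimLE_iff.1 inferInstance)

omit [IsNoetherianRing A] [IsLocalRing A] in
theorem krullDimLE_of_finite (h : Ring.KrullDimLE 1 A) : Ring.KrullDimLE 1 B := by
  haveI : Algebra.IsIntegral A B := Algebra.IsIntegral.of_finite A B
  exact Ring.krullDimLE_iff.2 ((Order.krullDim_le_of_strictMono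
    (fun p : PrimeSpectrum B => PrimeSpectrum.comap (algebraMap A B) p) fun p p' h => by
      obtain ⟨z, hz, hzn⟩ := SetLike.exists_of_lt (show p.asIdeal < p'.asIdeal from h)
      exact Ideal.comap_lt_comap_of_integral_mem_sdiff h.le ⟨hz, hzn⟩ (Algebra.IsIntegral.isIntegral z)).trans
    (Ring.krullDimLE_iff.1 h))

variable (A) in
include A in
/-- A finite algebra over a local ring has finitely many maximal ideals. -/
theorem finite_maximalSpectrum : Finite (MaximalSpectrum B) := by
  haveI : Algebra.IsIntegral A B := Algebra.IsIntegral.of_finite A B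
  haveI := isNoetherian_C A (C := B)
  let I : Ideal B := (maximalIdeal A).map (algebraMap A B)
  haveI : IsArtinianRing (B ⧸ I) := by
    letI := Ideal.Quotient.field (maximalIdeal A)
    haveI : Module.Finite (A ⧸ maximalIdeal A) (B ⧸ I) := Module.Finite.of_restrictScalars_finite A _ _
    exact IsArtinianRing.of_finite (A ⧸ maximalIdeal A) (B ⧸ I)
  have hle : ∀ P : MaximalSpectrum B, I ≤ P.asIdeal := fun P => by
    haveI := P.isMaximal
    exact Ideal.map_le_iff_le_comap.2
      (IsLocalRing.eq_maximalIdeal (Ideal.isMaximal_comap_of_isIntegral_of_isMaximal (R := A) P.asIdeal)).ge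
  exact Finite.of_injective (β := MaximalSpectrum (B ⧸ I))
    (fun P => ⟨P.asIdeal.map (Ideal.Quotient.mk I), (Ideal.map_eq_top_or_isMaximal_of_surjective _
      Ideal.Quotient.mk_surjective P.isMaximal).resolve_left fun h => P.isMaximal.ne_top (by
        have := congrArg (Ideal.comap (Ideal.Quotient.mk I)) h
        rwa [Ideal.comap_map_quotientMk, sup_eq_right.2 (hle P), Ideal.comap_top] at this)⟩)
    (fun P P' h => MaximalSpectrum.ext (by
      have := congrArg (fun z : MaximalSpectrum (B ⧸ I) => z.asIdeal.comap (Ideal.Quotient.mk I)) h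
      simpa [Ideal.comap_map_quotientMk, sup_eq_right.2 (hle P), sup_eq_right.2 (hle P')] using this))

omit [IsNoetherianRing A] in
theorem finite_residueField (p : MaximalSpectrum B) [IsLocalHom (algebraMap A (Localization.AtPrime p.asIdeal))] :
    FiniteDimensional (ResidueField A) (ResidueField (Localization.AtPrime p.asIdeal)) ∧
      Module.length A (B ⧸ p.asIdeal) = Module.finrank (ResidueField A) (ResidueField (Localization.AtPrime p.asIdeal)) := by
  haveI := p.isMaximal
  let T := Localization.AtPrime p.asIdeal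
  let π : B →ₐ[A] ResidueField T := IsScalarTower.toAlgHom A B (ResidueField T)
  have hsurj : Function.Surjective π := by
    intro z
    obtain ⟨z, rfl⟩ := residue_surjective z
    obtain ⟨⟨c, s⟩, hcs⟩ := IsLocalization.surj p.asIdeal.primeCompl z
    obtain ⟨w, i, hi, hwi⟩ := p.isMaximal.exists_inv (x := (s : B)) s.2
    refine ⟨c * w, ?_⟩
    show residue T (algebraMap B T (c * w)) = residue T z
    have hi0 : residue T (algebraMap B T i) = 0 := (residue_eq_zero_iff _).2
      ((IsLocalization.AtPrime.to_map_mem_maximal_iff T p.asIdeal i).2 hi)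
    have h1 : residue T (algebraMap B T w) * residue T (algebraMap B T s) = 1 := by
      have := congrArg (fun x => residue T (algebraMap B T x)) hwi
      simpa [hi0] using this
    calc residue T (algebraMap B T (c * w)) = residue T (algebraMap B T c) * residue T (algebraMap B T w) := by
          rw [map_mul, map_mul]
      _ = residue T z * (residue T (algebraMap B T w) * residue T (algebraMap B T s)) := by
          rw [show algebraMap B T c = z * algebraMap B T s from hcs.symm, map_mul]; ring
      _ = residue T z := by rw [h1, mul_one]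
  haveI : Module.Finite A (ResidueField T) := Module.Finite.of_surjective π.toLinearMap hsurj
  haveI hfd : FiniteDimensional (ResidueField A) (ResidueField T) := Module.Finite.of_restrictScalars_finite A _ _
  refine ⟨hfd, ?_⟩
  have hk : LinearMap.ker π.toLinearMap = p.asIdeal.restrictScalars A := by
    ext z
    show residue T (algebraMap B T z) = 0 ↔ z ∈ p.asIdeal
    rw [residue_eq_zero_iff, IsLocalization.AtPrime.to_map_mem_maximal_iff T p.asIdeal]
  rw [← Module.length_eq_finrank,
    ← Module.length_eq_of_surjective (R := ResidueField A) (S := A) (M := ResidueField T) residue_surjective]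
  exact LinearEquiv.length_eq ((Submodule.Quotient.restrictScalarsEquiv A p.asIdeal).symm.trans
    ((Submodule.quotEquivOfEq _ _ hk.symm).trans (π.toLinearMap.quotKerEquivOfSurjective hsurj)))

/-- The length cut out by a regular element, in terms of local orders and residue degrees. -/
theorem length_quot_eq_sum [Fintype (MaximalSpectrum B)]
    [∀ p : MaximalSpectrum B, IsLocalHom (algebraMap A (Localization.AtPrime p.asIdeal))] (hA : Ring.KrullDimLE 1 A)
    {x : B} (hx : x ∈ nonZeroDivisors B) :
    Module.length A (B ⧸ Ideal.span {x}) < ⊤ ∧ ((Module.length A (B ⧸ Ideal.span {x})).toNat : ℕ) =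
      ∑ p : MaximalSpectrum B, Module.finrank (ResidueField A) (ResidueField (Localization.AtPrime p.asIdeal)) *
        (Ring.ord (Localization.AtPrime p.asIdeal) (algebraMap B _ x)).toNat := by
  classical
  haveI := isNoetherian_C A (C := B)
  haveI := krullDimLE_of_finite (B := B) hA
  let S : Finset (PrimeSpectrum B) := Finset.univ.image MaximalSpectrum.toPrimeSpectrum
  have hS : ∀ p : PrimeSpectrum B, p.asIdeal.IsMaximal ↔ p ∈ S := fun p => by
    simp only [S, Finset.mem_image, Finset.mem_univ, true_and]
    exact ⟨fun h => ⟨⟨p.asIdeal, h⟩, rfl⟩, fun ⟨q, hq⟩ => hq ▸ q.isMaximal⟩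
  have hfin : IsFiniteLength B (B ⧸ Ideal.span {x}) := isFiniteLength_quotient_span_singleton B hx
  have h := CycNorm.length_eq_sum_lenAt (A := A) S hS (B ⧸ Ideal.span {x}) hfin
  rw [Finset.sum_image (fun p _ q _ h => MaximalSpectrum.ext (congrArg PrimeSpectrum.asIdeal h))] at h
  have hlt : Module.length A (B ⧸ Ideal.span {x}) < ⊤ := length_lt_top_of_support (C := B) A _ fun q hq => by
    rw [Ideal.annihilator_quotient] at hq
    exact isMaximal_of_mem q.asIdeal hx (hq (Ideal.mem_span_singleton_self x))
  refine ⟨hlt, ?_⟩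
  rw [h] at hlt
  rw [h, ENat.toNat_sum fun p hp => (ENat.sum_lt_top.1 hlt p hp).ne]
  refine Finset.sum_congr rfl fun p _ => ?_
  haveI := p.isMaximal
  rw [ENat.toNat_mul, show p.toPrimeSpectrum.asIdeal = p.asIdeal from rfl, (finite_residueField p).2, ENat.toNat_coe]
  congr 1
  haveI : IsLocalization.AtPrime (Localization.AtPrime p.asIdeal) p.toPrimeSpectrum.asIdeal :=
    show IsLocalization.AtPrime (Localization.AtPrime p.asIdeal) p.asIdeal from inferInstance
  have h2 := ord_eq_od p.toPrimeSpectrum (Localization.AtPrime p.asIdeal) x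
  exact (Nat.cast_inj.1 h2).symm

end Finite

section Refine

variable {A : Type u} [CommRing A] [IsNoetherianRing A] [IsLocalRing A] {B C : Type u} [CommRing B] [Algebra A B]
  [Module.Finite A B] [CommRing C] [Algebra A C] [Module.Finite A C]

/-- The preimage of a maximal ideal. -/
def pull (ι : B →ₐ[A] C) (p : MaximalSpectrum C) : MaximalSpectrum B :=
  ⟨p.asIdeal.comap ι, by
    haveI := p.isMaximal
    letI := ι.toRingHom.toAlgebra
    haveI : IsScalarTower A B C := IsScalarTower.of_algebraMap_eq fun z => (ι.commutes z).symm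
    haveI : Module.Finite B C := Module.Finite.of_restrictScalars_finite A B C
    haveI : Algebra.IsIntegral B C := Algebra.IsIntegral.of_finite B C
    exact Ideal.isMaximal_comap_of_isIntegral_of_isMaximal (R := B) p.asIdeal⟩

/-- The map of local rings. -/
def locMap (ι : B →ₐ[A] C) (p : MaximalSpectrum C) :
    Localization.AtPrime (pull ι p).asIdeal →+* Localization.AtPrime p.asIdeal :=
  Localization.localRingHom (pull ι p).asIdeal p.asIdeal ι.toRingHom rfl

omit [IsNoetherianRing A] [IsLocalRing A] in
theorem locMap_algebraMap (ι : B →ₐ[A] C) (p : MaximalSpectrum C) (z : A) :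
    locMap ι p (algebraMap A (Localization.AtPrime (pull ι p).asIdeal) z) =
      algebraMap A (Localization.AtPrime p.asIdeal) z := by
  rw [IsScalarTower.algebraMap_apply A B (Localization.AtPrime (pull ι p).asIdeal),
    IsScalarTower.algebraMap_apply A C (Localization.AtPrime p.asIdeal), locMap]
  exact (Localization.localRingHom_to_map _ _ _ rfl _).trans (congrArg _ (ι.commutes z))

variable (ι : B →ₐ[A] C) (hA : Ring.KrullDimLE 1 A) {a b : A}

/-- Pushing a representation forward. -/
def pushRep (p : MaximalSpectrum C)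
    (R : Rep (algebraMap A (Localization.AtPrime (pull ι p).asIdeal) a) (algebraMap A (Localization.AtPrime (pull ι p).asIdeal) b))
    (hp : locMap ι p R.π ∈ nonZeroDivisors (Localization.AtPrime p.asIdeal)) :
    Rep (algebraMap A (Localization.AtPrime p.asIdeal) a) (algebraMap A (Localization.AtPrime p.asIdeal) b) where
  π := locMap ι p R.π
  π_mem := hp
  u := Units.map (locMap ι p) R.u
  v := Units.map (locMap ι p) R.v
  e := R.e
  f := R.f
  eq₁ := ((locMap_algebraMap ι p a).symm.trans ((congrArg (locMap ι p) R.eq₁).trans (by rw [map_mul, map_pow]; rfl)))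
  eq₂ := ((locMap_algebraMap ι p b).symm.trans ((congrArg (locMap ι p) R.eq₂).trans (by rw [map_mul, map_pow]; rfl)))

variable [Fintype (MaximalSpectrum B)] [Fintype (MaximalSpectrum C)]
  [∀ n : MaximalSpectrum B, IsLocalHom (algebraMap A (Localization.AtPrime n.asIdeal))]
  [∀ p : MaximalSpectrum C, IsLocalHom (algebraMap A (Localization.AtPrime p.asIdeal))]

omit [IsNoetherianRing A] [IsLocalRing A] [Fintype (MaximalSpectrum C)]
  [∀ n : MaximalSpectrum B, IsLocalHom (algebraMap A (Localization.AtPrime n.asIdeal))]
  [∀ p : MaximalSpectrum C, IsLocalHom (algebraMap A (Localization.AtPrime p.asIdeal))] [Module.Finite A C] in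
/-- An element equal to a given one up to a unit at one maximal ideal and invertible at the others. -/
theorem exists_separated [IsNoetherianRing B] [Ring.KrullDimLE 1 B] (n : MaximalSpectrum B) {t : B}
    (ht : t ∈ nonZeroDivisors B) (htn : ∀ m : MaximalSpectrum B, t ∈ m.asIdeal) {π κ : Localization.AtPrime n.asIdeal}
    (hπ : π ∈ nonZeroDivisors (Localization.AtPrime n.asIdeal)) (hκ : algebraMap B _ t = π * κ) (hκu : ¬ IsUnit κ) :
    ∃ q : B, q ∈ nonZeroDivisors B ∧ Associated π (algebraMap B (Localization.AtPrime n.asIdeal) q) ∧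
      ∀ m : MaximalSpectrum B, m ≠ n → q ∉ m.asIdeal := by
  classical
  haveI := n.isMaximal
  let T := Localization.AtPrime n.asIdeal
  haveI : IsNoetherianRing T := IsLocalization.isNoetherianRing n.asIdeal.primeCompl T ‹_›
  obtain ⟨N, hN⟩ : ∃ N, n.asIdeal ^ N ≤ (Ideal.span {algebraMap B T t}).comap (algebraMap B T) := by
    obtain ⟨N, hN⟩ := Ideal.exists_pow_le_of_le_radical_of_fg (I := maximalIdeal T)
      (J := Ideal.span {algebraMap B T t}) (by
        rw [Ideal.radical_eq_sInf]
        refine le_sInf ?_
        rintro (P : Ideal T) ⟨hP, hPp⟩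
        have htP : t ∈ P.comap (algebraMap B T) := hP (Ideal.mem_span_singleton_self _)
        obtain ⟨hPp', hdis⟩ := (IsLocalization.isPrime_iff_isPrime_disjoint n.asIdeal.primeCompl T P).1 hPp
        haveI : (P.comap (algebraMap B T)).IsPrime := hPp'
        have hle : P.comap (algebraMap B T) ≤ n.asIdeal := fun z hz => by
          by_contra hzn
          exact Set.disjoint_left.1 hdis hzn hz
        have he := (isMaximal_of_mem _ ht htP).eq_of_le n.isMaximal.ne_top hle
        rw [← Localization.AtPrime.map_eq_maximalIdeal]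
        exact Ideal.map_le_iff_le_comap.2 he.ge) (IsNoetherian.noetherian _)
    refine ⟨N, Ideal.map_le_iff_le_comap.1 ?_⟩
    rw [Ideal.map_pow, Localization.AtPrime.map_eq_maximalIdeal]
    exact hN
  obtain ⟨⟨c, s⟩, hcs⟩ := IsLocalization.surj n.asIdeal.primeCompl π
  obtain ⟨x, hx, y, hy, hxy⟩ := Submodule.mem_sup.1 ((Ideal.eq_top_iff_one
    (n.asIdeal ^ N ⊔ (Finset.univ.erase n).inf fun m : MaximalSpectrum B => m.asIdeal)).1 (by
      by_contra h
      obtain ⟨P, hP, hle⟩ := Ideal.exists_le_maximal _ h
      have hn : P = n.asIdeal := by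
        rcases Nat.eq_zero_or_pos N with h0 | h0
        · exact absurd (le_sup_left.trans hle) (by rw [h0, pow_zero, Ideal.one_eq_top, top_le_iff]; exact hP.ne_top)
        · exact (n.isMaximal.eq_of_le hP.ne_top (hP.isPrime.le_of_pow_le (le_sup_left.trans hle))).symm
      obtain ⟨m, hm, hm'⟩ := hP.isPrime.inf_le'.1 (le_sup_right.trans hle)
      exact (Finset.mem_erase.1 hm).1 (MaximalSpectrum.ext ((m.isMaximal.eq_of_le hP.ne_top hm').trans hn))))
  obtain ⟨β, hβ⟩ := Ideal.mem_span_singleton'.1 (hN hx)
  have hy1 : IsUnit (algebraMap B T y) := by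
    refine (IsLocalization.AtPrime.isUnit_to_map_iff T n.asIdeal y).2 fun h => ?_
    have h1 : IsUnit (algebraMap B T x) := (IsLocalization.AtPrime.isUnit_to_map_iff T n.asIdeal x).2 fun h' =>
      n.isMaximal.ne_top ((Ideal.eq_top_iff_one _).2 (hxy ▸ add_mem h' h))
    rw [← hβ] at h1
    exact (IsLocalization.AtPrime.isUnit_to_map_iff T n.asIdeal t).1 (isUnit_of_mul_isUnit_right h1) (htn n)
  have hlam : IsUnit (algebraMap B T (s : B) * algebraMap B T y + κ * β) := by
    by_contra h
    have h1 : algebraMap B T (s : B) * algebraMap B T y ∈ maximalIdeal T :=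
      (Ideal.add_mem_iff_left _ (Ideal.mul_mem_right _ _ ((mem_maximalIdeal _).2 hκu))).1 ((mem_maximalIdeal _).2 h)
    exact (mem_maximalIdeal _).1 h1 (((IsLocalization.map_units T s)).mul hy1)
  have hq : algebraMap B T (c * y + x) = π * hlam.unit := by
    rw [IsUnit.unit_spec, map_add, map_mul, ← hβ, ← hcs, hκ]
    ring
  have hother : ∀ m : MaximalSpectrum B, m ≠ n → c * y + x ∉ m.asIdeal := by
    intro m hm h
    have hym : y ∈ m.asIdeal := (Finset.inf_le (f := fun m : MaximalSpectrum B => m.asIdeal) (Finset.mem_erase.2 ⟨hm, Finset.mem_univ m⟩)) hy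
    have hxm : x ∈ m.asIdeal := (Ideal.add_mem_iff_right _ (m.asIdeal.mul_mem_left c hym)).1 h
    exact m.isMaximal.ne_top ((Ideal.eq_top_iff_one _).2 (hxy ▸ add_mem hxm hym))
  refine ⟨c * y + x, ?_, ⟨hlam.unit, hq.symm⟩, hother⟩
  rw [mem_nonZeroDivisors_iff_right]
  intro z hz
  refine eq_zero_of_localization z fun m hm => ?_
  have h1 := congrArg (algebraMap B (Localization.AtPrime m)) hz
  rw [map_mul, map_zero] at h1
  by_cases hmn : (⟨m, hm⟩ : MaximalSpectrum B) = n
  · subst hmn
    rw [hq] at h1
    exact (mem_nonZeroDivisors_iff_right.1 (mul_mem hπ hlam.unit.isUnit.mem_nonZeroDivisors)) _ h1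
  · exact ((IsLocalization.AtPrime.isUnit_to_map_iff (Localization.AtPrime m) m _).2 (hother ⟨m, hm⟩ hmn)).mul_left_eq_zero.1 h1

include hA in
/-- Residue degrees times orders are preserved. -/
theorem sum_fiber (hι : Function.Injective ι) {k : ℕ}
    (hk : ∀ r ∈ maximalIdeal A ^ k, ∀ z : C, r • z ∈ (algebraMap A C).range)
    (R : ∀ n : MaximalSpectrum B, Rep (algebraMap A (Localization.AtPrime n.asIdeal) a) (algebraMap A (Localization.AtPrime n.asIdeal) b))
    (hab : a * b ∈ maximalIdeal A) (htB : algebraMap A B (a * b) ∈ nonZeroDivisors B)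
    (htC : algebraMap A C (a * b) ∈ nonZeroDivisors C) (n : MaximalSpectrum B) :
    (∀ (p : MaximalSpectrum C), locMap ι p (R (pull ι p)).π ∈ nonZeroDivisors (Localization.AtPrime p.asIdeal)) ∧
    (haveI := Classical.decEq (MaximalSpectrum B)
     ∑ p ∈ Finset.univ.filter (fun p : MaximalSpectrum C => pull ι p = n),
      Module.finrank (ResidueField A) (ResidueField (Localization.AtPrime p.asIdeal)) *
        (Ring.ord (Localization.AtPrime p.asIdeal) (locMap ι p (R (pull ι p)).π)).toNat) =
      Module.finrank (ResidueField A) (ResidueField (Localization.AtPrime n.asIdeal)) * (R n).wt := by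
  classical
  haveI := isNoetherian_C A (C := B)
  haveI := isNoetherian_C A (C := C)
  haveI := krullDimLE_of_finite (B := B) hA
  haveI := krullDimLE_of_finite (B := C) hA
  have hnu : ∀ m : MaximalSpectrum B, ¬ IsUnit (algebraMap A (Localization.AtPrime m.asIdeal) a *
      algebraMap A (Localization.AtPrime m.asIdeal) b) := fun m h => by
    rw [← map_mul] at h
    exact (mem_maximalIdeal _).1 hab (isUnit_of_map_unit _ _ h)
  have hnzC : ∀ p : MaximalSpectrum C, locMap ι p (R (pull ι p)).π ∈ nonZeroDivisors (Localization.AtPrime p.asIdeal) := by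
    intro p
    set Rn := R (pull ι p)
    have h1 : algebraMap A (Localization.AtPrime p.asIdeal) (a * b) ∈ nonZeroDivisors (Localization.AtPrime p.asIdeal) := by
      rw [IsScalarTower.algebraMap_apply A C]
      exact IsLocalization.map_nonZeroDivisors_le p.asIdeal.primeCompl _ ⟨_, htC, rfl⟩
    have h2 : algebraMap A (Localization.AtPrime p.asIdeal) (a * b) =
        locMap ι p ((Rn.u : Localization.AtPrime (pull ι p).asIdeal) * Rn.v) * locMap ι p Rn.π ^ (Rn.e + Rn.f) := by
      rw [← locMap_algebraMap ι p, ← map_pow, ← map_mul]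
      refine congrArg (locMap ι p) ?_
      refine (map_mul (algebraMap A (Localization.AtPrime (pull ι p).asIdeal)) a b).trans
        ((congrArg₂ (· * ·) Rn.eq₁ Rn.eq₂).trans ?_)
      ring
    rw [h2] at h1
    have h3 := (mul_mem_nonZeroDivisors.1 h1).2
    obtain ⟨d, hd⟩ := Nat.exists_eq_add_of_le (Rn.one_le_exp (hnu _))
    rw [hd, pow_add, pow_one] at h3
    exact (mul_mem_nonZeroDivisors.1 h3).1
  refine ⟨hnzC, ?_⟩
  -- a global element
  obtain ⟨κ, hκ, hκu⟩ : ∃ κ, algebraMap B (Localization.AtPrime n.asIdeal) (algebraMap A B (a * b) ^ 2) =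
      (R n).π * κ ∧ ¬ IsUnit κ := by
    have h1 := (R n).one_le_exp (hnu n)
    refine ⟨(((R n).u : Localization.AtPrime n.asIdeal) * (R n).v) ^ 2 * (R n).π ^ (2 * ((R n).e + (R n).f) - 1), ?_, fun h => ?_⟩
    · rw [map_pow, ← IsScalarTower.algebraMap_apply, map_mul]
      conv_rhs => rw [mul_left_comm, ← pow_succ', show 2 * ((R n).e + (R n).f) - 1 + 1 = 2 * ((R n).e + (R n).f) by omega]
      refine (congrArg (· ^ 2) (congrArg₂ (· * ·) (R n).eq₁ (R n).eq₂)).trans ?_
      ring
    · exact (R n).not_isUnit_π (hnu n) ((isUnit_pow_iff (by omega)).1 (isUnit_of_mul_isUnit_right h))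
  haveI : Algebra.IsIntegral A B := Algebra.IsIntegral.of_finite A B
  have htn : ∀ m : MaximalSpectrum B, algebraMap A B (a * b) ^ 2 ∈ m.asIdeal := fun m => by
    haveI := m.isMaximal
    refine Ideal.pow_mem_of_mem _ ?_ 2 two_pos
    exact show a * b ∈ m.asIdeal.comap (algebraMap A B) from
      (IsLocalRing.eq_maximalIdeal (Ideal.isMaximal_comap_of_isIntegral_of_isMaximal (R := A) m.asIdeal)).symm ▸ hab
  obtain ⟨q, hq, ⟨w, hw⟩, hqo⟩ := exists_separated n (pow_mem htB 2) htn (R n).π_mem hκ hκu
  -- the image of q
  have hqC : ι q ∈ nonZeroDivisors C := by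
    rw [mem_nonZeroDivisors_iff_right]
    intro z hz
    refine eq_zero_of_localization z fun m hm => ?_
    let p : MaximalSpectrum C := ⟨m, hm⟩
    have h1 : algebraMap C (Localization.AtPrime m) z * locMap ι p (algebraMap B _ q) = 0 := by
      have h0 : locMap ι p (algebraMap B _ q) = algebraMap C (Localization.AtPrime m) (ι q) :=
        Localization.localRingHom_to_map _ _ _ rfl q
      rw [h0, ← map_mul, hz, map_zero]
    by_cases hpn : pull ι p = n
    · subst hpn
      rw [← hw, map_mul] at h1
      exact (mem_nonZeroDivisors_iff_right.1 (mul_mem (hnzC p) (w.isUnit.map _).mem_nonZeroDivisors)) _ h1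
    · exact (((IsLocalization.AtPrime.isUnit_to_map_iff (Localization.AtPrime (pull ι p).asIdeal) _ q).2 (hqo _ hpn)).map
        (locMap ι p)).mul_left_eq_zero.1 h1
  obtain ⟨l1, e1⟩ := length_quot_eq_sum (B := B) hA hq
  obtain ⟨l2, e2⟩ := length_quot_eq_sum (B := C) hA hqC
  have hordB : ∀ m : MaximalSpectrum B, (Ring.ord (Localization.AtPrime m.asIdeal) (algebraMap B _ q)).toNat =
      if m = n then (R n).wt else 0 := by
    intro m
    split_ifs with h
    · subst h
      rw [← hw, Ring.ord_mul_of_isUnit_right w.isUnit]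
      rfl
    · rw [Ring.ord_of_isUnit ((IsLocalization.AtPrime.isUnit_to_map_iff _ _ q).2 (hqo m h))]
      rfl
  have hordC : ∀ p : MaximalSpectrum C, (Ring.ord (Localization.AtPrime p.asIdeal) (algebraMap C _ (ι q))).toNat =
      if pull ι p = n then (Ring.ord (Localization.AtPrime p.asIdeal) (locMap ι p (R (pull ι p)).π)).toNat else 0 := by
    intro p
    have h0 : locMap ι p (algebraMap B _ q) = algebraMap C (Localization.AtPrime p.asIdeal) (ι q) :=
      Localization.localRingHom_to_map _ _ _ rfl q
    rw [← h0]
    split_ifs with h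
    · subst h
      rw [← hw, map_mul, Ring.ord_mul_of_isUnit_right (w.isUnit.map _)]
    · rw [Ring.ord_of_isUnit (((IsLocalization.AtPrime.isUnit_to_map_iff _ _ q).2 (hqo _ h)).map (locMap ι p))]
      rfl
  have heq : (Module.length A (B ⧸ Ideal.span {q})).toNat = (Module.length A (C ⧸ Ideal.span {ι q})).toNat := by
    have hzero : ∀ {D : Type u} [CommRing D] [Algebra A D] {y : D}, y ∈ nonZeroDivisors D →
        Module.length A (perH (mulA A y D) (0 : D →ₗ[A] D)) = 0 := by
      intro D _ _ y hy
      haveI : Subsingleton (LinearMap.ker (mulA A y D)) :=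
        subsingleton_of_forall_eq 0 fun m => Subtype.ext ((mem_nonZeroDivisors_iff.1 hy).1 m.1 m.2)
      haveI : Subsingleton (perH (mulA A y D) (0 : D →ₗ[A] D)) := (Submodule.Quotient.mk_surjective _).subsingleton
      exact Module.length_eq_zero
    have hker : Module.length A (LinearMap.ker ι.toLinearMap) < ⊤ := by
      haveI : Subsingleton (LinearMap.ker ι.toLinearMap) :=
        subsingleton_of_forall_eq 0 fun m => Subtype.ext (hι (m.2.trans (map_zero _).symm))
      rw [Module.length_eq_zero]
      exact WithTop.coe_lt_top 0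
    have hcoker : Module.length A (C ⧸ LinearMap.range ι.toLinearMap) < ⊤ := by
      refine length_lt_top_of_support (C := A) A _ fun Q hQ => ?_
      have hle : maximalIdeal A ^ k ≤ Q.asIdeal := fun r hr => hQ (Module.mem_annihilator.2 fun z => by
        obtain ⟨z, rfl⟩ := Submodule.Quotient.mk_surjective _ z
        rw [← Submodule.Quotient.mk_smul, Submodule.Quotient.mk_eq_zero]
        obtain ⟨d, hd⟩ := hk r hr z
        exact ⟨algebraMap A B d, (ι.commutes d).trans hd⟩)
      rw [eq_comm.1 ((maximalIdeal.isMaximal A).eq_of_le Q.2.ne_top (Q.2.le_of_pow_le hle))]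
      exact maximalIdeal.isMaximal A
    have h := of_finite_ker_coker (0 : B →ₗ[A] B) (mulA A q B) (0 : C →ₗ[A] C) (mulA A (ι q) C)
      ⟨LinearMap.zero_comp _, LinearMap.comp_zero _⟩ ⟨LinearMap.zero_comp _, LinearMap.comp_zero _⟩
      ι.toLinearMap (by ext; simp) (LinearMap.ext fun z => (map_mul ι q z).symm)
      ⟨by rw [perH_zero_length]; exact l1, by rw [hzero hq]; exact WithTop.coe_lt_top 0⟩
      ⟨by rw [perH_zero_length]; exact l2, by rw [hzero hqC]; exact WithTop.coe_lt_top 0⟩ hker hcoker
    simp only [herbrand, perH_zero_length, hzero hq, hzero hqC, ENat.toNat_zero, Nat.cast_zero, sub_zero] at h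
    exact_mod_cast h
  rw [e1, e2] at heq
  simp only [hordB, hordC, mul_ite, mul_zero, Finset.sum_ite_eq', Finset.mem_univ, if_true] at heq
  rw [Finset.sum_filter]
  exact heq.symm

include hA in
/-- The product of local values is preserved. -/
theorem prod_val_eq (hι : Function.Injective ι) {k : ℕ}
    (hk : ∀ r ∈ maximalIdeal A ^ k, ∀ z : C, r • z ∈ (algebraMap A C).range)
    (R : ∀ n : MaximalSpectrum B, Rep (algebraMap A (Localization.AtPrime n.asIdeal) a) (algebraMap A (Localization.AtPrime n.asIdeal) b))
    (R' : ∀ p : MaximalSpectrum C, Rep (algebraMap A (Localization.AtPrime p.asIdeal) a) (algebraMap A (Localization.AtPrime p.asIdeal) b))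
    (hab : a * b ∈ maximalIdeal A) (htB : algebraMap A B (a * b) ∈ nonZeroDivisors B)
    (htC : algebraMap A C (a * b) ∈ nonZeroDivisors C) :
    ∏ n : MaximalSpectrum B, (R n).val (ResidueField A) = ∏ p : MaximalSpectrum C, (R' p).val (ResidueField A) := by
  classical
  haveI := isNoetherian_C A (C := C)
  haveI := krullDimLE_of_finite (B := C) hA
  rw [← Finset.prod_fiberwise Finset.univ (pull ι) fun p => (R' p).val (ResidueField A)]
  refine Finset.prod_congr rfl fun n _ => ?_
  obtain ⟨hnz, hsum⟩ := sum_fiber ι hA hι hk R hab htB htC n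
  let d := Module.finrank (ResidueField A) (ResidueField (Localization.AtPrime n.asIdeal))
  have hterm : ∀ p : MaximalSpectrum C, ∀ h : pull ι p = n,
      ∃ e : ℕ, Module.finrank (ResidueField A) (ResidueField (Localization.AtPrime p.asIdeal)) = d * e ∧
        (R' p).val (ResidueField A) = Algebra.norm (ResidueField A) (R n).sym ^
          (e * (Ring.ord (Localization.AtPrime p.asIdeal) (locMap ι p (R (pull ι p)).π)).toNat) := by
    intro p h
    subst h
    have hnu : ¬ IsUnit (algebraMap A (Localization.AtPrime p.asIdeal) a * algebraMap A (Localization.AtPrime p.asIdeal) b) :=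
      fun h => by rw [← map_mul] at h; exact (mem_maximalIdeal _).1 hab (isUnit_of_map_unit _ _ h)
    haveI := krullDimLE_localization p.asIdeal
    haveI : IsNoetherianRing (Localization.AtPrime p.asIdeal) := IsLocalization.isNoetherianRing p.asIdeal.primeCompl _ ‹IsNoetherianRing C›
    rw [Rep.val_eq _ (R' p) (pushRep ι p (R (pull ι p)) (hnz p)) hnu]
    letI : Algebra (Localization.AtPrime (pull ι p).asIdeal) (Localization.AtPrime p.asIdeal) := (locMap ι p).toAlgebra
    haveI : IsLocalHom (algebraMap (Localization.AtPrime (pull ι p).asIdeal) (Localization.AtPrime p.asIdeal)) :=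
      Localization.isLocalHom_localRingHom (pull ι p).asIdeal p.asIdeal ι.toRingHom rfl
    haveI : IsScalarTower (ResidueField A) (ResidueField (Localization.AtPrime (pull ι p).asIdeal))
        (ResidueField (Localization.AtPrime p.asIdeal)) := IsScalarTower.of_algebraMap_eq fun z => by
      obtain ⟨z, rfl⟩ := residue_surjective z
      rw [ResidueField.algebraMap_residue, ResidueField.algebraMap_residue, ResidueField.algebraMap_residue]
      exact congrArg _ (locMap_algebraMap ι p z).symm
    haveI := (finite_residueField (A := A) (pull ι p)).1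
    haveI := (finite_residueField (A := A) p).1
    haveI : FiniteDimensional (ResidueField (Localization.AtPrime (pull ι p).asIdeal))
        (ResidueField (Localization.AtPrime p.asIdeal)) := Module.Finite.of_restrictScalars_finite (ResidueField A) _ _
    refine ⟨Module.finrank (ResidueField (Localization.AtPrime (pull ι p).asIdeal))
      (ResidueField (Localization.AtPrime p.asIdeal)), (Module.finrank_mul_finrank _ _ _).symm, ?_⟩
    have hsym : (pushRep ι p (R (pull ι p)) (hnz p)).sym = algebraMap (ResidueField (Localization.AtPrime (pull ι p).asIdeal))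
        (ResidueField (Localization.AtPrime p.asIdeal)) (R (pull ι p)).sym := by
      simp only [Rep.sym, pushRep, map_mul, map_pow, map_inv₀, map_neg, map_one, ResidueField.algebraMap_residue]
      rfl
    rw [Rep.val, hsym, ← Algebra.norm_norm (S := ResidueField (Localization.AtPrime (pull ι p).asIdeal)),
      Algebra.norm_algebraMap, map_pow, ← pow_mul]
    rfl
  choose! e he1 he2 using hterm
  rw [Finset.prod_congr rfl (fun p hp => he2 p (Finset.mem_filter.1 hp).2), Finset.prod_pow_eq_pow_sum, Rep.val]
  congr 1
  haveI := (finite_residueField (A := A) n).1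
  refine (Nat.eq_of_mul_eq_mul_left (Module.finrank_pos (R := ResidueField A) (M := ResidueField (Localization.AtPrime n.asIdeal))) ?_).symm
  rw [← hsum, Finset.mul_sum]
  refine Finset.sum_congr rfl fun p hp => ?_
  rw [he1 p (Finset.mem_filter.1 hp).2, mul_assoc]

end Refine

end Groth.Agent.TameCh
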